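import Groth.Agent.FormalFun.GrCoh
import Groth.Agent.AmpCrit.SerreVan
import Groth.Agent.ProjTwist.Tensor

/-!
# Uniform Serre vanishing for coherent graded systems

`GrSys.uniform_vanishing`: if `L` is ample on `X`, proper over a Noetherian ring, then one `d₀` kills
`H^q(X, M n ⊗ L^d)` (`q > 0`, `d ≥ d₀`) for every member `M n` of a coherent graded system.
-/

set_option autoImplicit false

universe u

open CategoryTheory Limits AlgebraicGeometry Opposite TopologicalSpace
open Groth.Agent

noncomputable section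

namespace Groth.Agent.FormalFun

/-- twisting by `L^d` -/
abbrev twist {X : Scheme.{u}} (L : X.Modules) (d : ℕ) : X.Modules ⥤ X.Modules :=
  (DCoh.tensorBi (X := X)).flip.obj (CohB1.tensorPow L d)

theorem GrSys.uniform_vanishing {X : Scheme.{u}} [IsLocallyNoetherian X] {R : Type u} [CommRing R]
    [IsNoetherianRing R] (f : X ⟶ Spec (CommRingCat.of R)) [IsProper f] {L : X.Modules}
    (hL : CohB1.IsAmple L) {𝒰 : AffCov X} [Finite 𝒰.ι] :
    ∀ {r : ℕ} (S : GrSys 𝒰 r), ∃ d₀ : ℕ, ∀ d : ℕ, d₀ ≤ d → ∀ n p : ℕ, 0 < p →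
      Subsingleton (Coh.HH X ((twist L d).obj (S.M n)) p) := by
  intro r
  induction r with
  | zero =>
    intro S
    cases nonempty_fintype 𝒰.ι
    choose d hd using S.gen
    choose e he using fun n => AmpCrit.SerreVan.serre_vanishing f hL (S.M n) (S.coh n)
    let m := Finset.univ.sup d
    refine ⟨(Finset.range (m + 1)).sup e, fun D hD n p hp => ?_⟩
    by_cases hn : n ≤ m
    · exact he n D ((Finset.le_sup (Finset.mem_range.mpr (by omega))).trans hD) p hp
    · obtain ⟨n, rfl⟩ : ∃ k, n = k + 1 := ⟨n - 1, by omega⟩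
      have h0 : 𝟙 (S.M (n + 1)) = 0 := id_eq_zero_of_sections 𝒰 (S.coh (n + 1)).1 fun k z => by
        obtain ⟨y, hy⟩ := hd k n ((Finset.le_sup (Finset.mem_univ k)).trans (show m ≤ n by omega)) z
        simpa using hy
      refine subsingleton_of_forall_eq 0 fun x => ?_
      rw [← CohLin.hMap_id _ p x, ← (twist L D).map_id, h0, Functor.map_zero]
      exact map_zero (CohLin.hMapHom _ _ p x)
  | succ r ih =>
    intro S
    obtain ⟨dC, hC⟩ := ih S.cokerSys
    obtain ⟨dK, hK⟩ := ih S.kerSys
    obtain ⟨e, he⟩ := AmpCrit.SerreVan.serre_vanishing f hL (S.M 0) (S.coh 0)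
    refine ⟨max e (max dC dK), fun d hd => ?_⟩
    have hinv : PicF.IsInvertible (CohB1.tensorPow L d) :=
      AmpleLib.isInvertible_tensorPow hL.1 d
    intro n
    induction n with
    | zero => exact fun p hp => he d (le_trans (le_max_left _ _) hd) p hp
    | succ n ihn =>
      intro p hp
      have hI := ProjTwist.shortExact_tensor hinv (S.shortExact_seqI n)
      have hQ := ProjTwist.shortExact_tensor hinv (S.shortExact_seqK n)
      refine subsingleton_of_forall_eq 0 fun x => ?_
      obtain ⟨y, rfl⟩ := CohLin.exists_hMap_f_eq hI x ((hC d (by omega) n p hp).elim _ _)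
      obtain ⟨z, rfl⟩ := CohLin.exists_hMap_g_eq hQ y ((hK d (by omega) n (p + 1) (by omega)).elim _ _)
      exact (congrArg _ ((congrArg _ ((ihn p hp).elim z 0)).trans (map_zero _))).trans (map_zero _)

end Groth.Agent.FormalFun
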