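import Groth.Agent.FormalFun.TensorMod
import Groth.Agent.CBC.AffBase
import Groth.Agent.ExtHom.Exact
import Groth.Agent.ExtHom.Linear
import Groth.Agent.KFlat.PullTensor
import Groth.Agent.ClUnit.Basic
import Groth.Agent.FlatMor.FibreStalk
import Groth.Agent.ProperFin.FinEx

/-!
# Deformation lemmas on the closed fibre of a flat proper family over a local ring

* `tA_shortExact`: `F ⊗ -` is exact for `F` flat over the base.
* `subsingleton_HH_push`: vanishing of cohomology passes to the direct image along an affine morphism.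
* `nonempty_homPushIso`: `ℋom(F, ι_* N) ≅ ι_* ℋom(ι^* F, N)`.
* `exists_iso_unit`: `G/𝔪G ≅ ι_* ι^* G` for the closed fibre `ι`.
-/

set_option autoImplicit false

universe u

open CategoryTheory Limits AlgebraicGeometry Opposite TopologicalSpace TensorProduct
open Groth.Agent

noncomputable section

namespace Groth.Agent.FormalFun

variable {A : Type u} [CommRing A] {X : Scheme.{u}} [X.Over (Spec (CommRingCat.of A))]
variable (F : X.Modules) [F.IsQuasicoherent]

/-- multiplication by `a` on the ring, as a map of modules -/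
abbrev mulA (M : ModuleCat.{u} A) (a : A) : M ⟶ M := ModuleCat.ofHom (a • LinearMap.id)

theorem tAMap_mulA (M : ModuleCat.{u} A) (a : A) :
    CBC.tAMap F (mulA M a) = Formal.smulMod A (CBC.tA F M) a := by
  haveI := CBC.isQuasicoherent_tA (A := A) F M
  refine sub_eq_zero.1 (hom_eq_zero_of_affine _ fun W hW z => ?_)
  show (CBC.tAMap F (mulA M a)).app W z - (Formal.smulMod A (CBC.tA F M) a).app W z = 0
  rw [sub_eq_zero, smulMod_app]
  obtain ⟨t, ht⟩ := (CBC.kap_bijective F M hW).2 z
  subst ht
  refine (CBC.kap_natural F (mulA M a) W t).trans ?_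
  have e : (mulA M a).hom.lTensor (CBC.Sec (CBC.φA (A := A)) F (le_top : W ≤ ⊤)) t = a • t := by
    induction t using TensorProduct.induction_on with
    | zero => rw [map_zero, smul_zero]
    | tmul s m => rw [LinearMap.lTensor_tmul, ← TensorProduct.tmul_smul]; rfl
    | add x y hx hy => rw [map_add, smul_add, hx, hy]
  rw [e]
  exact map_smul (CBC.kap F M W) a t

theorem additive_tensorAFunctor (S : ShortComplex (ModuleCat.{u} A)) :
    CBC.tAMap F S.f ≫ CBC.tAMap F S.g = 0 := by
  haveI := CBC.isQuasicoherent_tA (A := A) F S.X₁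
  refine hom_eq_zero_of_affine _ fun W hW z => ?_
  rw [app_comp]
  obtain ⟨t, ht⟩ := (CBC.kap_bijective F S.X₁ hW).2 z
  subst ht
  refine (congrArg _ (CBC.kap_natural F S.f W t)).trans ((CBC.kap_natural F S.g W _).trans ?_)
  rw [← LinearMap.lTensor_comp_apply, show S.g.hom ∘ₗ S.f.hom = 0 from
    (ModuleCat.hom_comp _ _).symm.trans (congrArg ModuleCat.Hom.hom S.zero), LinearMap.lTensor_zero,
    LinearMap.zero_apply, map_zero]
  rfl

/-- The image of a short exact sequence under `F ⊗ -`. -/
abbrev tASeq (S : ShortComplex (ModuleCat.{u} A)) : ShortComplex X.Modules :=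
  ShortComplex.mk (CBC.tAMap F S.f) (CBC.tAMap F S.g) (additive_tensorAFunctor F S)

/-- `F ⊗ -` is exact for flat `F`. -/
theorem tA_shortExact [IsSeparated (X ↘ Spec (CommRingCat.of A))] [QuasiCompact (X ↘ Spec (CommRingCat.of A))]
    (hfl : FlatMod.IsFlatOver (X ↘ Spec (CommRingCat.of A)) F)
    {S : ShortComplex (ModuleCat.{u} A)} (hS : S.ShortExact) : (tASeq F S).ShortExact := by
  haveI := fun M : ModuleCat.{u} A => CBC.isQuasicoherent_tA (A := A) F M
  let T := tASeq F S
  have hf : Function.Injective S.f.hom := (ModuleCat.mono_iff_injective _).1 hS.mono_f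
  have hg : Function.Surjective S.g.hom := (ModuleCat.epi_iff_surjective _).1 hS.epi_g
  have hex : Function.Exact S.f.hom S.g.hom :=
    (ShortComplex.ShortExact.moduleCat_exact_iff_function_exact S).1 hS.exact
  haveI hmono : Mono T.f := by
    refine Preadditive.mono_of_kernel_zero (hom_eq_zero_of_affine _ fun W hW z => ?_)
    haveI := CBC.flat_secA (A := A) F hW hfl
    obtain ⟨t, ht⟩ := (CBC.kap_bijective F S.X₁ hW).2 ((kernel.ι T.f).app W z)
    have h0 : (CBC.tAMap F S.f).app W (CBC.kap F S.X₁ W t) = 0 := by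
      rw [ht]
      exact QCoh.app_app_eq_zero (ShortComplex.mk _ _ (kernel.condition T.f)) _ z
    have h1 := (CBC.kap_natural F S.f W t).symm.trans h0
    have h2 : t = 0 := Module.Flat.lTensor_preserves_injective_linearMap S.f.hom hf
      (((CBC.kap_bijective F S.X₂ hW).1 (h1.trans (map_zero (CBC.kap F S.X₂ W)).symm)).trans (map_zero _).symm)
    rw [← ht, h2, map_zero]
    rfl
  haveI hepi : Epi T.g := by
    refine Preadditive.epi_of_cokernel_zero (hom_eq_zero_of_affine _ fun W hW z => ?_)
    obtain ⟨t, ht⟩ := (CBC.kap_bijective F S.X₃ hW).2 z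
    obtain ⟨t', rfl⟩ := LinearMap.lTensor_surjective _ hg t
    rw [← ht, ← CBC.kap_natural F S.g W t']
    exact QCoh.app_app_eq_zero (ShortComplex.mk _ _ (cokernel.condition T.g)) _ _
  refine ⟨T.exact_iff_epi_kernel_lift.mpr ?_⟩
  haveI : (kernel T.g).IsQuasicoherent := QCoh.isQuasicoherent_kernel _
  refine Preadditive.epi_of_cokernel_zero (hom_eq_zero_of_affine _ fun W hW z => ?_)
  obtain ⟨t, ht⟩ := (CBC.kap_bijective F S.X₂ hW).2 ((kernel.ι T.g).app W z)
  have h0 : (CBC.tAMap F S.g).app W (CBC.kap F S.X₂ W t) = 0 := by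
    rw [ht]
    exact QCoh.app_app_eq_zero (ShortComplex.mk _ _ (kernel.condition T.g)) _ z
  obtain ⟨t', rfl⟩ := (lTensor_exact _ hex hg t).1 ((CBC.kap_bijective F S.X₃ hW).1
    (((CBC.kap_natural F S.g W t).symm.trans h0).trans (map_zero (CBC.kap F S.X₃ W)).symm))
  have hz : z = (kernel.lift T.g T.f T.zero).app W (CBC.kap F S.X₁ W t') := by
    refine QCoh.app_injective_of_mono (kernel.ι T.g) W ?_
    refine Eq.trans ?_ (app_comp _ _ _ _)
    rw [kernel.lift_ι]
    exact ht.symm.trans (CBC.kap_natural F S.f W t').symm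
  rw [hz]
  exact QCoh.app_app_eq_zero (ShortComplex.mk _ _ (cokernel.condition (kernel.lift T.g T.f T.zero))) _ _

end Groth.Agent.FormalFun

namespace Groth.Agent.FormalFun

open Groth.Agent.CohAff Groth.Agent.ProperFin

variable {X Y : Scheme.{u}}

/-- Vanishing of cohomology passes to the direct image along an affine morphism. -/
theorem subsingleton_HH_push (f : X ⟶ Y) [IsAffineHom f] (M : X.Modules) [Coh.IsQCoh M] (k : ℕ)
    (h : Subsingleton (Coh.HH X M k)) : Subsingleton (Coh.HH Y ((Coh.push f).obj M) k) := by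
  let R := FRes.ofMod M
  refine subsingleton_of_forall_eq 0 fun x => ?_
  obtain ⟨z, rfl⟩ := (R.pushAff f).clsTop_surjective k x
  refine ((R.pushAff f).clsTop_eq_zero_iff k z).2 ((R.ex_pushAff_iff f k ⊤ z).2 ?_)
  exact (R.clsTop_eq_zero_iff k z).1 (h.elim _ _)

/-- `ℋom(F, ι_* N) ≅ ι_* ℋom(ι^* F, N)`. -/
theorem nonempty_homPushIso (i : X ⟶ Y) (F : Y.Modules) [DCoh.HasSheafHom F]
    [DCoh.HasSheafHom ((Scheme.Modules.pullback i).obj F)] :
    Nonempty (Scheme.Modules.pushforward i ⋙ DCoh.sheafHom F ≅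
      DCoh.sheafHom ((Scheme.Modules.pullback i).obj F) ⋙ Scheme.Modules.pushforward i) := by
  let a₁ := (DCoh.sheafHomAdj F).comp (Scheme.Modules.pullbackPushforwardAdjunction i)
  let a₂ := (Scheme.Modules.pullbackPushforwardAdjunction i).comp
    (DCoh.sheafHomAdj ((Scheme.Modules.pullback i).obj F))
  let e : (DCoh.tensorBi (X := Y)).obj F ⋙ Scheme.Modules.pullback i ≅
      Scheme.Modules.pullback i ⋙ (DCoh.tensorBi (X := X)).obj ((Scheme.Modules.pullback i).obj F) :=
    NatIso.ofComponents (fun N => KFlat.PullTensor.pullTensorIso i F N)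
      fun ψ => KFlat.PullTensor.pullTensorIso_right i F ψ
  exact ⟨a₁.rightAdjointUniq (a₂.ofNatIsoLeft e.symm)⟩

end Groth.Agent.FormalFun
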