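import Groth.Agent.FormalFun.Tower
import Groth.Agent.FormalFun.GrVan
import Groth.Agent.AmpCrit.ProjForm
import Groth.Agent.PicLaw.Basic
import Groth.Agent.PicCl.Basic
import Groth.Agent.FormalFun.HomLift
import Groth.Agent.ExtHom.Compare
import Groth.Agent.ExtHom.Linear
import Groth.Agent.AmpleLib.GlobGen
import Groth.Agent.KFlat.Hom

/-!
# Uniform vanishing and generation of twists on a tower of thickenings
-/

set_option autoImplicit false

universe u

open CategoryTheory Limits AlgebraicGeometry Opposite TopologicalSpace Abelian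
open Groth.Agent

noncomputable section

namespace Groth.Agent.FormalFun

theorem subsingleton_HH_iso' {X : Scheme.{u}} {M N : X.Modules} (e : M ≅ N) (n : ℕ)
    (h : Subsingleton (Coh.HH X M n)) : Subsingleton (Coh.HH X N n) :=
  subsingleton_of_forall_eq 0 fun x => by
    rw [← CohLin.hMap_id N n x, ← e.inv_hom_id, CohLin.hMap_comp, h.elim (CohLin.hMap e.inv n x) 0, map_zero]

theorem nonempty_tensorPow_congr {X : Scheme.{u}} {L L' : X.Modules} (e : L ≅ L') :
    ∀ d : ℕ, Nonempty (CohB1.tensorPow L d ≅ CohB1.tensorPow L' d)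
  | 0 => ⟨Iso.refl _⟩
  | d + 1 => let ⟨t⟩ := nonempty_tensorPow_congr e d; ⟨ProjTwist.tensCongr t e⟩

theorem nonempty_pullback_tensorPow {X Y : Scheme.{u}} (g : X ⟶ Y) {L : Y.Modules} (hL : PicF.IsInvertible L) :
    ∀ d : ℕ, Nonempty ((Scheme.Modules.pullback g).obj (CohB1.tensorPow L d) ≅
      CohB1.tensorPow ((Scheme.Modules.pullback g).obj L) d)
  | 0 => ⟨QCoh.pullbackUnitIso g⟩
  | d + 1 => by
    obtain ⟨t⟩ := nonempty_pullback_tensorPow g hL d
    obtain ⟨e⟩ := PicLaw.pullback_tensor g (AmpleLib.isInvertible_tensorPow hL d) hL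
    exact ⟨e ≪≫ ProjTwist.tensCongr t (Iso.refl _)⟩

theorem twist_isLeftAdjoint {X : Scheme.{u}} (L : X.Modules) (d : ℕ) : (twist L d).IsLeftAdjoint := by
  haveI := KFlat.hasSheafHom_scheme (CohB1.tensorPow L d)
  haveI : ((DCoh.tensorBi (X := X)).obj (CohB1.tensorPow L d)).IsLeftAdjoint :=
    (DCoh.sheafHomAdj (CohB1.tensorPow L d)).isLeftAdjoint
  exact ((DCoh.sheafHomAdj (CohB1.tensorPow L d)).ofNatIsoLeft
    ((KFlat.tensorBiFlipIso (O := X.sheaf)).app (CohB1.tensorPow L d)).symm).isLeftAdjoint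

theorem twist_map_smulMod {A : Type u} [CommRing A] {X : Scheme.{u}} [X.Over (Spec (CommRingCat.of A))]
    (L : X.Modules) (d : ℕ) (F : X.Modules) (a : A) :
    (twist L d).map (Formal.smulMod A F a) = Formal.smulMod A ((twist L d).obj F) a := by
  let E := CohB1.tensorPow L d
  let e : (DCoh.tensorBi (X := X)).flip.obj E ≅ (DCoh.tensorBi (X := X)).obj E :=
    (KFlat.tensorBiFlipIso (O := X.sheaf)).app E
  have h : ((DCoh.tensorBi (X := X)).obj E).map (Formal.smulMod A F a) =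
      Formal.smulMod A (((DCoh.tensorBi (X := X)).obj E).obj F) a := ExtHom.tensorBi_map_smulModΓ E F _
  rw [← cancel_mono (e.hom.app F), e.hom.naturality, h, smulMod_natural]

/-- A closed pushforward of a globally generated module is globally generated. -/
theorem isGloballyGenerated_push {X Z : Scheme.{u}} (i : Z ⟶ X) [IsClosedImmersion i] {G : Z.Modules}
    (h : Curv2.IsGloballyGenerated G) : Curv2.IsGloballyGenerated ((Scheme.Modules.pushforward i).obj G) := by
  obtain ⟨ι, p, hp⟩ := h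
  let adj := Scheme.Modules.pullbackPushforwardAdjunction i
  haveI := adj.isLeftAdjoint
  haveI : (Scheme.Modules.pushforward i).IsLeftAdjoint := Props.KilledSub.isLeftAdjoint i
  let Fr : X.Modules := ∐ fun _ : ι => Coh.structureModule X
  let Fr' : Z.Modules := ∐ fun _ : ι => Coh.structureModule Z
  let p₁ : Fr' ⟶ G := p
  haveI : Epi p₁ := hp
  let e : (Scheme.Modules.pullback i).obj Fr ≅ Fr' :=
    PreservesCoproduct.iso (Scheme.Modules.pullback i) (fun _ : ι => Coh.structureModule X) ≪≫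
      Sigma.mapIso fun _ => QCoh.pullbackUnitIso i
  refine ⟨ι, adj.homEquiv Fr G (e.hom ≫ p₁), ?_⟩
  show Epi (adj.homEquiv Fr G (e.hom ≫ p₁))
  rw [Adjunction.homEquiv_unit]
  haveI : ∀ M : X.Modules, Epi (adj.unit.app M) := fun M => Omega.Stalks.epi_of_stalk fun x =>
    CycLib.Dev.ClosedK0.unit_stalk_surjective i M x
  haveI : Epi ((Scheme.Modules.pushforward i).map (e.hom ≫ p₁)) := inferInstance
  exact epi_comp _ _

namespace TowerMod

variable {A : Type u} [CommRing A] {J : Ideal A} {W : Tower A J} (S : TowerMod W)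

/-- the graded system of the kernels -/
def sys [IsNoetherianRing A] (hp : IsProper (W.p 0)) (𝒰 : AffCov (W.X 0)) {r : ℕ} (a : Fin r → A)
    (ha : ∀ l, a l ∈ J) (hspan : J = Ideal.span (Set.range a)) : GrSys 𝒰 r where
  M := S.M
  T l n := S.T n (ha l)
  comm l l' n := S.T_comm n (ha l) (ha l')
  coh n := ZClosLib.CohDescent.isCoh_pullback _ _ (S.isCoh_K hp n)
  gen k := by
    refine ⟨0, fun n _ x => ?_⟩
    haveI hq : ∀ m, (S.M m).IsQuasicoherent := fun m => (ZClosLib.CohDescent.isCoh_pullback _ _ (S.isCoh_K hp m)).1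
    let D := biproduct.desc fun l : ULift.{u} (Fin r) => S.T n (ha l.down)
    haveI : Epi D := by
      haveI := S.epi_desc_T a ha hspan n
      haveI : Epi (biproduct.desc (fun l => biproduct.ι (fun _ : ULift.{u} (Fin r) => S.M n) ⟨l⟩) ≫ D) := by
        convert S.epi_desc_T a ha hspan n using 1
        apply biproduct.hom_ext'
        intro l
        simp [D]
      exact epi_of_epi (biproduct.desc (fun l => biproduct.ι (fun _ : ULift.{u} (Fin r) => S.M n) ⟨l⟩)) D
    obtain ⟨z, rfl⟩ := QCoh.app_surjective_of_epi D (𝒰.isAffine k) x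
    refine ⟨fun l => (biproduct.π (fun _ : ULift.{u} (Fin r) => S.M n) ⟨l⟩).app (𝒰.U k) z, ?_⟩
    let φ : ((⨁ fun _ : ULift.{u} (Fin r) => S.M n) ⟶ S.M (n + 1)) →+ Γ(S.M (n + 1), 𝒰.U k) :=
      AddMonoidHom.mk' (fun f => f.app (𝒰.U k) z) fun _ _ => rfl
    have hD : D = ∑ l : ULift.{u} (Fin r), biproduct.π _ l ≫ S.T n (ha l.down) := by
      apply biproduct.hom_ext'
      intro l
      simp [D, Preadditive.comp_sum, biproduct.ι_π_assoc, ite_comp]
    refine (congrArg φ hD).trans ((map_sum φ _ _).trans ?_)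
    refine Fintype.sum_equiv Equiv.ulift _ _ fun l => ?_
    exact app_comp _ _ _ _

variable (L : (k : ℕ) → (W.X k).Modules)

theorem subsingleton_HH_K [IsNoetherianRing A] (hp : IsProper (W.p 0)) (hL : ∀ k, PicF.IsInvertible (L k))
    (Λ : ∀ k, Nonempty ((Scheme.Modules.pullback (W.toX k)).obj (L k) ≅ L 0)) (k d q : ℕ)
    (h : Subsingleton (Coh.HH (W.X 0) ((twist (L 0) d).obj (S.M k)) q)) :
    Subsingleton (Coh.HH (W.X (k + 1)) ((twist (L (k + 1)) d).obj (S.K k)) q) := by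
  haveI := W.isNoetherian_X hp 0
  haveI := S.isIso_unit_K k
  obtain ⟨e₁⟩ := AmpCrit.ProjForm.nonempty_projIso (W.toX (k + 1)) (S.M k)
    (AmpleLib.isInvertible_tensorPow (hL (k + 1)) d)
  obtain ⟨t⟩ := nonempty_pullback_tensorPow (W.toX (k + 1)) (hL (k + 1)) d
  obtain ⟨l⟩ := Λ (k + 1)
  obtain ⟨c⟩ := nonempty_tensorPow_congr l d
  refine subsingleton_HH_iso' ((twist (L (k + 1)) d).mapIso
    (asIso ((Scheme.Modules.pullbackPushforwardAdjunction (W.toX (k + 1))).unit.app (S.K k))) ≪≫ e₁ ≪≫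
    (Scheme.Modules.pushforward (W.toX (k + 1))).mapIso (ProjTwist.tensCongr (Iso.refl _) (t ≪≫ c))).symm q ?_
  haveI : Coh.IsQCoh (CohB1.tensorMod (S.M k) (CohB1.tensorPow (L 0) d)) :=
    (ProjTwist.isCoh_tensor (AmpleLib.isInvertible_tensorPow (hL 0) d)
      (ZClosLib.CohDescent.isCoh_pullback _ _ (S.isCoh_K hp k))).1
  exact subsingleton_HH_push (W.toX (k + 1)) _ q h

theorem nonempty_iso_push (hL : ∀ k, PicF.IsInvertible (L k))
    (φ : ∀ k, Nonempty ((Scheme.Modules.pullback (W.i k)).obj (L (k + 1)) ≅ L k)) (k d : ℕ) :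
    Nonempty ((twist (L (k + 1)) d).obj ((Scheme.Modules.pushforward (W.i k)).obj (S.F k)) ≅
      (Scheme.Modules.pushforward (W.i k)).obj ((twist (L k) d).obj (S.F k))) := by
  obtain ⟨e₁⟩ := AmpCrit.ProjForm.nonempty_projIso (W.i k) (S.F k) (AmpleLib.isInvertible_tensorPow (hL (k + 1)) d)
  obtain ⟨t⟩ := nonempty_pullback_tensorPow (W.i k) (hL (k + 1)) d
  obtain ⟨l⟩ := φ k
  obtain ⟨c⟩ := nonempty_tensorPow_congr l d
  exact ⟨e₁ ≪≫ (Scheme.Modules.pushforward (W.i k)).mapIso (ProjTwist.tensCongr (Iso.refl _) (t ≪≫ c))⟩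

/-- the short exact sequence of the transition map -/
abbrev seq (k : ℕ) : ShortComplex (W.X (k + 1)).Modules :=
  ShortComplex.mk (kernel.ι (S.π k)) (S.π k) (kernel.condition _)

theorem shortExact_seq (k : ℕ) : (S.seq k).ShortExact where
  exact := ShortComplex.exact_of_f_is_kernel _ (kernelIsKernel _)
  mono_f := inferInstanceAs (Mono (kernel.ι _))
  epi_g := S.epi_π k

theorem exists_bound [IsNoetherianRing A] (hp : IsProper (W.p 0)) (hL : ∀ k, PicF.IsInvertible (L k))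
    (φ : ∀ k, Nonempty ((Scheme.Modules.pullback (W.i k)).obj (L (k + 1)) ≅ L k)) (ha : CohB1.IsAmple (L 0)) :
    ∃ d₀ : ℕ, ∀ d, d₀ ≤ d → ∀ k q : ℕ, 0 < q →
      Subsingleton (Coh.HH (W.X k) ((twist (L k) d).obj (S.F k)) q) ∧
      Subsingleton (Coh.HH (W.X (k + 1)) ((twist (L (k + 1)) d).obj (S.K k)) q) := by
  haveI := W.isNoetherian_X hp
  have Λ : ∀ k, Nonempty ((Scheme.Modules.pullback (W.toX k)).obj (L k) ≅ L 0) := by
    intro k
    induction k with
    | zero => exact ⟨(Scheme.Modules.pullbackId _).app _⟩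
    | succ k ih =>
      obtain ⟨e⟩ := ih
      obtain ⟨l⟩ := φ k
      exact ⟨((LimTop.compIso (W.toX k) (W.i k) rfl).app (L (k + 1))).symm ≪≫
        (Scheme.Modules.pullback (W.toX k)).mapIso l ≪≫ e⟩
  obtain ⟨r, a, hspan⟩ := Submodule.fg_iff_exists_fin_generating_family.mp (IsNoetherian.noetherian J)
  have hspan' : J = Ideal.span (Set.range a) := hspan.symm
  have hmem : ∀ l, a l ∈ J := fun l => hspan'.ge (Ideal.subset_span ⟨l, rfl⟩)
  obtain ⟨𝒰, _⟩ := exists_affCov (X := W.X 0)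
  obtain ⟨d₁, h₁⟩ := GrSys.uniform_vanishing (W.p 0) ha (S.sys hp 𝒰 a hmem hspan')
  obtain ⟨d₂, h₂⟩ := AmpCrit.SerreVan.serre_vanishing (W.p 0) ha (S.F 0) (S.coh 0)
  refine ⟨max d₁ d₂, fun d hd => ?_⟩
  have hK : ∀ k q : ℕ, 0 < q → Subsingleton (Coh.HH (W.X (k + 1)) ((twist (L (k + 1)) d).obj (S.K k)) q) :=
    fun k q hq => S.subsingleton_HH_K L hp hL Λ k d q (h₁ d (by omega) k q hq)
  intro k
  induction k with
  | zero => exact fun q hq => ⟨h₂ d (by omega) q hq, hK 0 q hq⟩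
  | succ k ih =>
    intro q hq
    refine ⟨?_, hK (k + 1) q hq⟩
    have hS := ProjTwist.shortExact_tensor (AmpleLib.isInvertible_tensorPow (hL (k + 1)) d) (S.shortExact_seq k)
    obtain ⟨e⟩ := S.nonempty_iso_push L hL φ k d
    haveI : Coh.IsQCoh ((twist (L k) d).obj (S.F k)) :=
      (ProjTwist.isCoh_tensor (AmpleLib.isInvertible_tensorPow (hL k) d) (S.coh k)).1
    have h₃ := subsingleton_HH_iso' e.symm q (subsingleton_HH_push (W.i k) _ q (ih q hq).1)
    refine subsingleton_of_forall_eq 0 fun x => ?_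
    obtain ⟨y, rfl⟩ := CohLin.exists_hMap_f_eq hS x (h₃.elim _ _)
    exact (congrArg _ ((hK k q hq).elim y 0)).trans (map_zero _)

theorem isGloballyGenerated_succ (hL : ∀ k, PicF.IsInvertible (L k)) (k d : ℕ)
    (hg : Curv2.IsGloballyGenerated ((twist (L (k + 1)) d).obj ((Scheme.Modules.pushforward (W.i k)).obj (S.F k))))
    (h1 : Subsingleton (Coh.HH (W.X (k + 1)) ((twist (L (k + 1)) d).obj (S.K k)) 1)) :
    Curv2.IsGloballyGenerated ((twist (L (k + 1)) d).obj (S.F (k + 1))) := by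
  obtain ⟨ι, p₀, hp₀⟩ := hg
  let X := W.X (k + 1)
  let t := twist (L (k + 1)) d
  let Fr : X.Modules := ∐ fun _ : ι => Coh.structureModule X
  let p : Fr ⟶ t.obj ((Scheme.Modules.pushforward (W.i k)).obj (S.F k)) := p₀
  haveI hp : Epi p := hp₀
  haveI := twist_isLeftAdjoint (L (k + 1)) d
  have hS := ProjTwist.shortExact_tensor (AmpleLib.isInvertible_tensorPow (hL (k + 1)) d) (S.shortExact_seq k)
  obtain ⟨θ₀, hθ₀⟩ := ExtHom.exists_constUnit (Opens.grothendieckTopology X) X.ringCatSheaf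
  let e : ∀ N : X.Modules, (Coh.structureModule X ⟶ N) ≃ Coh.HH X N 0 := fun N =>
    (Equiv.ofBijective _ (hθ₀ N)).trans Ext.homEquiv₀.symm
  have he : ∀ {N N' : X.Modules} (ψ : N ⟶ N') (f : Coh.structureModule X ⟶ N),
      e N' (f ≫ ψ) = CohLin.hMap ψ 0 (e N f) := by
    intro N N' ψ f
    show Ext.mk₀ (θ₀ ≫ (SheafOfModules.toSheaf X.ringCatSheaf).map (f ≫ ψ)) =
      (Ext.mk₀ (θ₀ ≫ (SheafOfModules.toSheaf X.ringCatSheaf).map f)).comp (Ext.mk₀ (CohLin.abMap ψ)) (add_zero 0)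
    refine Eq.trans ?_ (Ext.mk₀_comp_mk₀ _ _).symm
    refine congrArg Ext.mk₀ (Eq.trans (congrArg (θ₀ ≫ ·) ?_) (Category.assoc _ _ _).symm)
    exact Functor.map_comp _ _ _
  have hlift : ∀ l : ι, ∃ f : Coh.structureModule X ⟶ t.obj (S.F (k + 1)),
      f ≫ t.map (S.π k) = Sigma.ι (fun _ : ι => Coh.structureModule X) l ≫ p := by
    intro l
    obtain ⟨z, hz⟩ := CohLin.exists_hMap_g_eq hS (e _ (Sigma.ι (fun _ : ι => Coh.structureModule X) l ≫ p))
      (h1.elim _ _)
    refine ⟨(e _).symm z, (e _).injective ?_⟩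
    exact (he (t.map (S.π k)) ((e _).symm z)).trans ((congrArg _ ((e _).apply_symm_apply z)).trans hz)
  choose f hf using hlift
  let p' : Fr ⟶ t.obj (S.F (k + 1)) := Sigma.desc f
  have hp' : p' ≫ t.map (S.π k) = p := by
    apply Sigma.hom_ext
    intro l
    rw [Sigma.ι_desc_assoc]
    exact hf l
  refine ⟨ι, p', show Epi p' from Abelian.epi_of_cokernel_π_eq_zero _ ?_⟩
  let C : X.Modules := cokernel p'
  let u := cokernel.π (Formal.smulFamily (J ^ (k + 1)) C)
  haveI : Epi u := inferInstanceAs (Epi (cokernel.π _))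
  have hQ : ∀ b ∈ J ^ (k + 1), Formal.smulMod A (cokernel (Formal.smulFamily (J ^ (k + 1)) C)) b = 0 := fun b hb => by
    refine (cancel_epi u).1 ((smulMod_natural u b).symm.trans ?_)
    exact (smulMod_comp_π C hb).trans comp_zero.symm
  let v : t.obj (S.F (k + 1)) ⟶ _ := cokernel.π p' ≫ u
  have hv : t.map (kernel.ι (S.π k)) ≫ v = 0 := by
    haveI : Epi (t.map (S.cover k)) := inferInstance
    refine (cancel_epi (t.map (S.cover k))).1 ?_
    rw [comp_zero, ← Functor.map_comp_assoc, kernel.lift_ι]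
    refine Cofan.IsColimit.hom_ext (isColimitCofanMkObjOfIsColimit t (fun _ : ↥(J ^ (k + 1)) => S.F (k + 1))
      (Sigma.ι _) (coproductIsCoproduct _)) _ _ fun b => ?_
    show t.map (Sigma.ι (fun _ : ↥(J ^ (k + 1)) => S.F (k + 1)) b) ≫ t.map _ ≫ v = _ ≫ 0
    have eb : Sigma.ι (fun _ : ↥(J ^ (k + 1)) => S.F (k + 1)) b ≫ Formal.smulFamily (J ^ (k + 1)) (S.F (k + 1)) =
        Formal.smulMod A (S.F (k + 1)) b.1 := Sigma.ι_desc _ _
    refine Eq.trans ?_ comp_zero.symm
    refine Eq.trans (Category.assoc _ _ _).symm ?_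
    refine Eq.trans (congrArg (· ≫ v) ((t.map_comp _ _).symm.trans ((congrArg t.map eb).trans
      (twist_map_smulMod _ _ _ _)))) ?_
    exact (smulMod_natural v b.1).trans ((congrArg (v ≫ ·) (hQ b.1 b.2)).trans comp_zero)
  have hdesc := hS.gIsCokernel
  have hv' : (S.seq k |>.map t).f ≫ v = 0 := hv
  let w := hdesc.desc (CokernelCofork.ofπ v hv')
  have hw : t.map (S.π k) ≫ w = v := hdesc.fac (CokernelCofork.ofπ v hv') WalkingParallelPair.one
  have hw0 : w = 0 := by
    haveI : Epi p := hp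
    refine (cancel_epi p).1 ?_
    refine Eq.trans ?_ comp_zero.symm
    refine Eq.trans (congrArg (· ≫ w) hp'.symm) ((Category.assoc _ _ _).trans ?_)
    exact (congrArg (p' ≫ ·) hw).trans ((Category.assoc _ _ _).symm.trans
      ((congrArg (· ≫ u) (cokernel.condition p')).trans zero_comp))
  have hu : u = 0 := by
    refine (cancel_epi (cokernel.π p')).1 ?_
    rw [comp_zero]
    exact hw.symm.trans ((congrArg (t.map (S.π k) ≫ ·) hw0).trans comp_zero)
  haveI : Epi (Formal.smulFamily (J ^ (k + 1)) C) := Abelian.epi_of_cokernel_π_eq_zero _ hu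
  have hJ : ∀ c ∈ J, Formal.smulMod A C c = 0 := fun c hc => by
    refine (cancel_epi (Formal.smulFamily (J ^ (k + 1)) C)).1 ?_
    apply Sigma.hom_ext
    intro b
    rw [comp_zero, comp_zero, ← Category.assoc, Formal.smulFamily, Sigma.ι_desc, ← CohIII.smulMod_mul,
      W.smulMod_eq_zero]
    refine (pow_succ' J (k + 1)).ge ?_
    exact Ideal.mul_mem_mul hc b.2
  have hfam : Formal.smulFamily (J ^ (k + 1)) C = 0 := by
    apply Sigma.hom_ext
    intro b
    rw [comp_zero, Formal.smulFamily, Sigma.ι_desc]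
    exact hJ _ (Ideal.pow_le_self (Nat.succ_ne_zero k) b.2)
  have hC : 𝟙 C = 0 := (cancel_epi (Formal.smulFamily (J ^ (k + 1)) C)).1 (by rw [hfam, zero_comp, zero_comp])
  rw [← Category.comp_id (cokernel.π p'), hC, comp_zero]

theorem exists_generated [IsNoetherianRing A] (hp : IsProper (W.p 0)) (hL : ∀ k, PicF.IsInvertible (L k))
    (φ : ∀ k, Nonempty ((Scheme.Modules.pullback (W.i k)).obj (L (k + 1)) ≅ L k)) (ha : CohB1.IsAmple (L 0)) :
    ∃ N : ℕ, ∀ d, N ≤ d → ∀ k, Curv2.IsGloballyGenerated ((twist (L k) d).obj (S.F k)) := by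
  obtain ⟨d₀, hd₀⟩ := S.exists_bound L hp hL φ ha
  obtain ⟨n₀, hn₀⟩ := AmpleLib.eventually_globallyGenerated ha (S.coh 0).1 (S.coh 0).2
  refine ⟨max d₀ n₀, fun d hd k => ?_⟩
  induction k with
  | zero => exact hn₀ d (by omega)
  | succ k ih =>
    refine S.isGloballyGenerated_succ L hL k d ?_ (hd₀ d (by omega) k 1 one_pos).2
    obtain ⟨e⟩ := S.nonempty_iso_push L hL φ k d
    obtain ⟨ι, q, hq⟩ := isGloballyGenerated_push (W.i k) ih
    let Fr : (W.X (k + 1)).Modules := ∐ fun _ : ι => Coh.structureModule (W.X (k + 1))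
    let q₁ : Fr ⟶ (Scheme.Modules.pushforward (W.i k)).obj ((twist (L k) d).obj (S.F k)) := q
    haveI : Epi q₁ := hq
    exact ⟨ι, q₁ ≫ e.inv, show Epi (q₁ ≫ e.inv) from inferInstance⟩

end TowerMod

end Groth.Agent.FormalFun
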