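import Groth.Agent.FormalFun.HomLift

/-!
# The closed fibre of a scheme over a local ring
-/

set_option autoImplicit false

universe u

open CategoryTheory Limits AlgebraicGeometry Opposite TopologicalSpace IsLocalRing
open Groth.Agent Groth.Agent.PullStalk.Sky

noncomputable section

namespace Groth.Agent.FormalFun

variable (A : Type u) [CommRing A] [IsLocalRing A] (X : Scheme.{u}) [X.Over (Spec (CommRingCat.of A))]

/-- the closed fibre -/
abbrev cfib : Scheme.{u} := (X ↘ Spec (CommRingCat.of A)).fiber (closedPoint A)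

/-- the inclusion of the closed fibre -/
abbrev cι : cfib A X ⟶ X := (X ↘ Spec (CommRingCat.of A)).fiberι (closedPoint A)

theorem isClosedImmersion_cι : IsClosedImmersion (cι A X) := by
  let c : Spec (CommRingCat.of A) := closedPoint A
  haveI hc : IsClosedImmersion ((Spec (CommRingCat.of A)).fromSpecResidueField c) := by
    refine IsClosedImmersion.of_isPreimmersion _ ?_
    rw [Scheme.range_fromSpecResidueField]
    exact IsLocalRing.isClosed_singleton_closedPoint A
  exact MorphismProperty.of_isPullback (P := @IsClosedImmersion)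
    (IsPullback.of_hasPullback (X ↘ Spec (CommRingCat.of A)) ((Spec (CommRingCat.of A)).fromSpecResidueField c)).flip hc

theorem appTop_toGlobal {a : A} (ha : a ∈ maximalIdeal A) :
    (cι A X).appTop (Coh.toGlobal (X ↘ Spec (CommRingCat.of A)) a) = 0 := by
  let c : Spec (CommRingCat.of A) := closedPoint A
  let s : Γ(Spec (CommRingCat.of A), ⊤) := (Scheme.ΓSpecIso (CommRingCat.of A)).inv a
  have h0 : ((Spec (CommRingCat.of A)).fromSpecResidueField c).appTop s = 0 := by
    rw [← basicOpen_eq_bot_iff, ← Scheme.preimage_basicOpen_top, eq_bot_iff]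
    intro z hz
    have h1 : ((Spec (CommRingCat.of A)).fromSpecResidueField c z) ∈ (Spec (CommRingCat.of A)).basicOpen s := hz
    rw [Scheme.fromSpecResidueField_apply, basicOpen_eq_of_affine'] at h1
    exact absurd (show (Scheme.ΓSpecIso (CommRingCat.of A)).hom s ∈ maximalIdeal A from
      (congr($((Scheme.ΓSpecIso (CommRingCat.of A)).inv_hom_id) a)).symm ▸ ha) h1
  show (cι A X).appTop ((X ↘ Spec (CommRingCat.of A)).appTop s) = 0
  refine (congr($((Scheme.Hom.comp_appTop (cι A X) (X ↘ Spec (CommRingCat.of A)))) s)).symm.trans ?_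
  refine (congrArg (fun φ : cfib A X ⟶ Spec (CommRingCat.of A) => φ.appTop s) ((X ↘ Spec (CommRingCat.of A)).fiber_fac c)).trans ?_
  refine (congr($((Scheme.Hom.comp_appTop _ ((Spec (CommRingCat.of A)).fromSpecResidueField c))) s)).trans ?_
  exact (congrArg (((X ↘ Spec (CommRingCat.of A)).fiberToSpecResidueField c).appTop) h0).trans (map_zero _)

theorem smulMod_unit {a : A} (ha : a ∈ maximalIdeal A) (G : X.Modules) :
    Formal.smulMod A G a ≫ (Scheme.Modules.pullbackPushforwardAdjunction (cι A X)).unit.app G = 0 := by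
  rw [smulMod_natural]
  have h : Formal.smulMod A ((Scheme.Modules.pushforward (cι A X)).obj
      ((Scheme.Modules.pullback (cι A X)).obj G)) a = 0 := by
    refine Scheme.Modules.hom_ext _ _ fun U => ?_
    ext x
    refine (smulMod_app _ a U x).trans ((ProperFin.push_smul' (cι A X) _ _ _).trans ?_)
    have e : (cι A X).app U (gA (A := A) U a) = 0 := by
      have n := congr($((cι A X).naturality (homOfLE (le_top : U ≤ ⊤)).op) (Coh.toGlobal (X ↘ Spec (CommRingCat.of A)) a))
      refine n.trans ?_
      show ((cfib A X).presheaf.map _) ((cι A X).appTop (Coh.toGlobal (X ↘ Spec (CommRingCat.of A)) a)) = 0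
      rw [appTop_toGlobal A X ha, map_zero]
    exact (congrArg (fun r => r • (show Γ((Scheme.Modules.pullback (cι A X)).obj G, (cι A X) ⁻¹ᵁ U) from x)) e).trans
      (zero_smul _ _)
  exact (congrArg (_ ≫ ·) h).trans comp_zero

theorem exists_germ_eq_of_mem (p : Spec (CommRingCat.of A)) (hp : p = closedPoint A)
    (b : (Spec (CommRingCat.of A)).presheaf.stalk p) (hb : b ∈ maximalIdeal _) :
    ∃ a ∈ maximalIdeal A,
      (Spec (CommRingCat.of A)).presheaf.germ ⊤ p trivial ((Scheme.ΓSpecIso (CommRingCat.of A)).inv a) = b := by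
  subst hp
  obtain ⟨a, rfl⟩ := (ConcreteCategory.bijective_of_isIso (stalkClosedPointIso (CommRingCat.of A)).inv).2 b
  refine ⟨a, fun hu => hb (hu.map (stalkClosedPointIso (CommRingCat.of A)).inv.hom), ?_⟩
  rw [stalkClosedPointIso_inv]
  rfl

theorem exists_iso_unit (G : X.Modules) [G.IsQuasicoherent] :
    ∃ ε : Formal.modPow (maximalIdeal A) 1 G ≅
        (Scheme.Modules.pushforward (cι A X)).obj ((Scheme.Modules.pullback (cι A X)).obj G),
      Formal.modPowπ (maximalIdeal A) 1 G ≫ ε.hom =
        (Scheme.Modules.pullbackPushforwardAdjunction (cι A X)).unit.app G := by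
  haveI := isClosedImmersion_cι A X
  let η := (Scheme.Modules.pullbackPushforwardAdjunction (cι A X)).unit
  let M := Formal.modPow (maximalIdeal A) 1 G
  let π₁ := Formal.modPowπ (maximalIdeal A) 1 G
  haveI : Epi π₁ := inferInstanceAs (Epi (cokernel.π _))
  have hkill : Formal.smulFamily (maximalIdeal A ^ 1) G ≫ η.app G = 0 := by
    apply Sigma.hom_ext
    intro a
    rw [comp_zero, ← Category.assoc, Formal.smulFamily, Sigma.ι_desc]
    exact smulMod_unit A X ((pow_one (maximalIdeal A)).le a.2) G
  have hM : ∀ (U : X.Opens) (a : A), a ∈ maximalIdeal A → ∀ s : Γ(M, U), gA (A := A) U a • s = 0 := fun U a ha s => by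
    have e : Formal.smulMod A M a = 0 := by
      refine (cancel_epi π₁).1 ((smulMod_natural π₁ a).symm.trans ?_)
      exact (smulMod_comp_π G ((pow_one (maximalIdeal A)).ge ha)).trans comp_zero.symm
    rw [← smulMod_app, e]
    rfl
  have hiso : IsIso (η.app M) := by
    rw [ClUnit.isIso_unit_iff_stalk]
    refine ⟨fun z r hr t => ?_, fun x hx => subsingleton_of_forall_eq 0 fun t => ?_⟩
    · replace hr := (FlatMor.FibreStalk.ker_stalkMap_fiberι (X ↘ Spec (CommRingCat.of A)) (closedPoint A) z).le hr
      obtain ⟨U, hU, s, rfl⟩ := exists_germM_eq M _ t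
      induction hr using Submodule.span_induction with
      | mem y hy =>
        obtain ⟨b, hb, rfl⟩ := hy
        obtain ⟨a, ha, rfl⟩ := exists_germ_eq_of_mem A ((X ↘ Spec (CommRingCat.of A)) (cι A X z))
          ((X ↘ Spec (CommRingCat.of A)).range_fiberι (closedPoint A) |>.le ⟨z, rfl⟩) b hb
        have e := Scheme.Hom.germ_stalkMap_apply (X ↘ Spec (CommRingCat.of A)) ⊤ (cι A X z) trivial
          ((Scheme.ΓSpecIso (CommRingCat.of A)).inv a)
        have e2 : X.presheaf.germ ⊤ (cι A X z) trivial (Coh.toGlobal (X ↘ Spec (CommRingCat.of A)) a) =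
            X.presheaf.germ U (cι A X z) hU (gA (A := A) U a) :=
          (X.presheaf.germ_res_apply (homOfLE le_top) (cι A X z) hU _).symm
        rw [e]
        refine (congrArg (fun q => q • germM M U _ hU s) e2).trans ?_
        rw [← germM_smul, hM U a ha s]
        exact map_zero _
      | zero => rw [zero_smul]
      | add y y' _ _ h h' => rw [add_smul, h, h', add_zero]
      | smul c y _ h => rw [smul_eq_mul, mul_smul, h, smul_zero]
    · obtain ⟨U, hU, s, rfl⟩ := exists_germM_eq M _ t
      replace hx : (X ↘ Spec (CommRingCat.of A)) x ≠ closedPoint A := fun h =>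
        hx (((X ↘ Spec (CommRingCat.of A)).range_fiberι (closedPoint A)).ge h)
      obtain ⟨a, ha, hax⟩ := SetLike.not_le_iff_exists.1 (fun h : maximalIdeal A ≤ ((X ↘ Spec (CommRingCat.of A)) x).asIdeal =>
        hx (PrimeSpectrum.ext ((maximalIdeal.isMaximal A).eq_of_le ((X ↘ Spec (CommRingCat.of A)) x).2.ne_top h).symm))
      have hu : IsUnit (X.presheaf.germ U x hU (gA (A := A) U a)) := by
        rw [show X.presheaf.germ U x hU (gA (A := A) U a) = X.presheaf.germ ⊤ x trivial (Coh.toGlobal (X ↘ Spec (CommRingCat.of A)) a) from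
          X.presheaf.germ_res_apply (homOfLE le_top) x hU _]
        refine (Scheme.mem_basicOpen' X (Coh.toGlobal (X ↘ Spec (CommRingCat.of A)) a) ⟨x, trivial⟩).1 ?_
        show x ∈ X.basicOpen ((X ↘ Spec (CommRingCat.of A)).appTop ((Scheme.ΓSpecIso (CommRingCat.of A)).inv a))
        rw [← Scheme.preimage_basicOpen_top]
        show (X ↘ Spec (CommRingCat.of A)) x ∈ (Spec (CommRingCat.of A)).basicOpen _
        rw [basicOpen_eq_of_affine']
        exact (congr($((Scheme.ΓSpecIso (CommRingCat.of A)).inv_hom_id) a)).symm ▸ hax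
      refine hu.smul_eq_zero.1 ?_
      change _ • germM M U _ hU s = 0
      rw [← germM_smul, hM U a ha s]
      exact map_zero _
  let θ : M ⟶ (Scheme.Modules.pushforward (cι A X)).obj ((Scheme.Modules.pullback (cι A X)).obj G) :=
    cokernel.desc _ (η.app G) hkill
  have hθ : π₁ ≫ θ = η.app G := cokernel.π_desc _ _ _
  let adj := Scheme.Modules.pullbackPushforwardAdjunction (cι A X)
  haveI : Epi ((Scheme.Modules.pullback (cι A X)).map π₁) :=
    (Functor.preservesEpimorphisms_of_adjunction adj).preserves π₁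
  have hret : (Scheme.Modules.pullback (cι A X)).map π₁ ≫ (adj.homEquiv _ _).symm θ = 𝟙 _ := by
    rw [← Adjunction.homEquiv_naturality_left_symm, hθ, Equiv.symm_apply_eq, Adjunction.homEquiv_id]
  haveI : IsSplitMono ((Scheme.Modules.pullback (cι A X)).map π₁) := IsSplitMono.mk' ⟨_, hret⟩
  haveI : IsIso ((Scheme.Modules.pullback (cι A X)).map π₁) := isIso_of_mono_of_epi _
  let g := (Scheme.Modules.pushforward (cι A X)).map ((Scheme.Modules.pullback (cι A X)).map π₁)
  haveI : IsIso g := Functor.map_isIso _ _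
  have h1 : θ ≫ g = η.app M := by
    refine (cancel_epi π₁).1 ?_
    rw [← Category.assoc, hθ]
    exact (η.naturality π₁).symm
  have h3 : θ = η.app M ≫ inv g := by rw [← h1, Category.assoc, IsIso.hom_inv_id, Category.comp_id]
  haveI : IsIso θ := by rw [h3]; infer_instance
  exact ⟨asIso θ, hθ⟩

end Groth.Agent.FormalFun
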