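import Groth.Agent.FormalFun.Main
import Groth.Agent.ProperFin.Main
import Groth.Agent.S0025

/-!
# The hypotheses of formal functions for proper schemes over a Noetherian ring
-/

set_option autoImplicit false

universe u

open CategoryTheory AlgebraicGeometry
open Groth.Agent

namespace Groth.Agent.FormalFun

variable (A : Type u) [CommRing A] [IsNoetherianRing A] (X : Scheme.{u})
  [X.Over (Spec (CommRingCat.of A))] [IsProper (X ↘ Spec (CommRingCat.of A))]

include A in
theorem isLocallyNoetherian_of_proper : IsLocallyNoetherian X :=
  LocallyOfFiniteType.isLocallyNoetherian (X ↘ Spec (CommRingCat.of A))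

include A in
theorem compactSpace_of_proper : CompactSpace X :=
  QuasiCompact.compactSpace_of_compactSpace (X ↘ Spec (CommRingCat.of A))

theorem finiteCoh_of_proper : FiniteCoh A X := fun M hM n => by
  refine ProperFin.finHH_of_chow (fun Z f hf => ?_) M hM n
  haveI := hf
  haveI : IsNoetherian (Spec (CommRingCat.of A)) := inferInstance
  exact Groth.Agent.S0025.result f

end Groth.Agent.FormalFun
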