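import Groth.Agent.FormalFun.HomFib
import Groth.Agent.FormalFun.Finite
import Groth.Agent.CycLib.DevClosedK0
import Groth.Agent.CohDev.Coh
import Groth.Agent.FDesc.Stalk
import Groth.Agent.Omega.Stalks
import Groth.Agent.KFlat.LocalD
import Groth.Agent.LocFlat.Basic
import Groth.Agent.PerfTri.Bounded

/-!
# Monomorphisms and epimorphisms of vector bundles are detected on the closed fibre
-/

set_option autoImplicit false

universe u

open CategoryTheory Limits AlgebraicGeometry Opposite TopologicalSpace IsLocalRing TensorProduct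
open Groth.Agent Groth.Agent.PullStalk Groth.Agent.PullStalk.Exact Groth.Agent.CycLib.Dev

noncomputable section

namespace Groth.Agent.FormalFun

variable {X Y : Scheme.{u}}

theorem isFlatOver_of_isFinLocFree' (f : X ⟶ Y) [Flat f] {M : X.Modules} (hM : FlatMod.IsFinLocFree M) :
    FlatMod.IsFlatOver f M := fun x => by
  letI := (f.stalkMap x).hom.toAlgebra
  letI := FlatMod.moduleStalkOver f M x
  haveI : IsScalarTower (Y.presheaf.stalk (f.base x)) (X.presheaf.stalk x) (M.presheaf.stalk x) :=
    IsScalarTower.of_algebraMap_smul fun _ _ => rfl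
  haveI : Module.Flat (Y.presheaf.stalk (f.base x)) (X.presheaf.stalk x) := Flat.stalkMap f x
  haveI : Module.Flat (X.presheaf.stalk x) (M.presheaf.stalk x) := KFlat.LocalD.flat_of_isFinLocFree hM x
  exact Module.Flat.trans (Y.presheaf.stalk (f.base x)) (X.presheaf.stalk x) (M.presheaf.stalk x)

theorem finite_stalk_of_isFinLocFree {M : X.Modules} (hM : FlatMod.IsFinLocFree M) (x : X) :
    Module.Finite (X.presheaf.stalk x) (M.presheaf.stalk x) := by
  obtain ⟨U, n, e, hx, he⟩ := LFFrame.exists_isFrame_of_isFinLocFree hM x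
  exact Module.Finite.equiv (LinearEquiv.ofBijective _ (he.stalkComb_bijective x hx))

/-- Injectivity on `- ⊗ R/m`, through elements. -/
theorem lTensor_residue_injective {R N M : Type u} [CommRing R] [IsLocalRing R] [AddCommGroup N] [Module R N]
    [AddCommGroup M] [Module R M] (v : N →ₗ[R] M)
    (h : ∀ t, v t ∈ maximalIdeal R • (⊤ : Submodule R M) → t ∈ maximalIdeal R • (⊤ : Submodule R N)) :
    Function.Injective (v.lTensor (ResidueField R)) := by
  refine (injective_iff_map_eq_zero (v.lTensor (ResidueField R))).2 fun z hz => ?_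
  let eN := TensorProduct.quotTensorEquivQuotSMul N (maximalIdeal R)
  let eM := TensorProduct.quotTensorEquivQuotSMul M (maximalIdeal R)
  obtain ⟨t, ht⟩ := Submodule.Quotient.mk_surjective _ (eN z)
  have hz' : z = (1 : ResidueField R) ⊗ₜ[R] t := by
    refine eN.injective (ht.symm.trans ?_)
    exact (TensorProduct.quotTensorEquivQuotSMul_mk_tmul _ (1 : R) t).trans (by rw [one_smul]) |>.symm
  subst hz'
  have e2 : eM ((1 : ResidueField R) ⊗ₜ[R] v t) = 0 := (congrArg eM hz).trans (map_zero eM)
  have h2 : v t ∈ maximalIdeal R • (⊤ : Submodule R M) := by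
    refine (Submodule.Quotient.mk_eq_zero _).1 (Eq.trans ?_ e2)
    exact ((TensorProduct.quotTensorEquivQuotSMul_mk_tmul _ (1 : R) (v t)).trans (by rw [one_smul])).symm
  refine eN.injective (Eq.trans ?_ (map_zero eN).symm)
  exact (TensorProduct.quotTensorEquivQuotSMul_mk_tmul _ (1 : R) t).trans
    (by rw [one_smul]; exact (Submodule.Quotient.mk_eq_zero _).2 (h t h2))

variable (A : Type u) [CommRing A] [IsNoetherianRing A] [IsLocalRing A] (X : Scheme.{u})
  [X.Over (Spec (CommRingCat.of A))] [IsProper (X ↘ Spec (CommRingCat.of A))]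

/-- Coherent modules vanish if they vanish on the closed fibre. -/
theorem subsingleton_stalk_of_fib {M : X.Modules} (hM : Coh.IsCoh M)
    (h : ∀ z : cfib A X, Subsingleton (M.presheaf.stalk (cι A X z))) (x : X) : Subsingleton (M.presheaf.stalk x) := by
  let π := X ↘ Spec (CommRingCat.of A)
  by_contra hx
  let S : Set X := {y : X | Nontrivial (M.presheaf.stalk y)}
  haveI : M.IsQuasicoherent := hM.1
  have hS : IsClosed S := CycLib.isClosed_support M hM
  have hxS : x ∈ S := not_subsingleton_iff_nontrivial.1 hx
  have hc : closedPoint A ∈ π.base '' S :=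
    (IsLocalRing.specializes_closedPoint (π x) : (π x) ⤳ closedPoint A).mem_closed (π.isClosedMap _ hS) ⟨x, hxS, rfl⟩
  obtain ⟨y, hy, hyc⟩ := hc
  obtain ⟨z, rfl⟩ := (π.range_fiberι (closedPoint A)).ge hyc
  exact not_nontrivial_iff_subsingleton.2 (h z) hy

variable {A X}

/-- A morphism is an epimorphism if its restriction to the closed fibre is one. -/
theorem epi_of_fib {F G : X.Modules} (hF : Coh.IsCoh F) (hG : FlatMod.IsFinLocFree G) (v : F ⟶ G)
    (hv : Epi ((Scheme.Modules.pullback (cι A X)).map v)) : Epi v := by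
  haveI := isClosedImmersion_cι A X
  haveI := isLocallyNoetherian_of_proper A X
  have hC : Coh.IsCoh (cokernel v) := CohDev.isCoh_cokernel v hF.1 (PerfTri.Bounded.isCoh_of_isFinLocFree hG)
  have key : ∀ z : cfib A X, Function.Surjective (stalkLin v (cι A X z)) := by
    intro z
    let R := X.presheaf.stalk (cι A X z)
    haveI := finite_stalk_of_isFinLocFree hG (cι A X z)
    have hJ : RingHom.ker ((cι A X).stalkMap z).hom ≤ maximalIdeal R :=
      IsLocalRing.le_maximalIdeal (RingHom.ker_ne_top _)
    rw [← LinearMap.range_eq_top, eq_top_iff]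
    refine Submodule.le_of_le_smul_of_le_jacobson_bot Module.Finite.fg_top
      (IsLocalRing.maximalIdeal_le_jacobson ⊥) fun s _ => ?_
    obtain ⟨w, hw⟩ := stalk_surjective ((Scheme.Modules.pullback (cι A X)).map v) z (Basic.unitStalkHom (cι A X) G z s)
    letI := ((cι A X).stalkMap z).hom.toAlgebra
    letI := Basic.moduleOver (cι A X) F z
    haveI : IsScalarTower R ((cfib A X).presheaf.stalk z)
        (((Scheme.Modules.pullback (cι A X)).obj F).presheaf.stalk z) :=
      IsScalarTower.of_algebraMap_smul fun _ _ => rfl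
    obtain ⟨t, ht⟩ := ClUnit.isBaseChange_surjective (Basic.isBaseChange_unitStalk (cι A X) F z)
      ((cι A X).stalkMap_surjective z) w
    have e : Basic.unitStalkHom (cι A X) G z (s - stalkLin v (cι A X z) t) = 0 := by
      rw [map_sub, sub_eq_zero, ← hw, ← ht]
      exact (FDesc.Stalk.unitStalkHom_natural (cι A X) v z t).symm
    rw [show s = stalkLin v (cι A X z) t + (s - stalkLin v (cι A X z) t) from (add_sub_cancel _ s).symm]
    exact Submodule.add_mem_sup ⟨t, rfl⟩ (Submodule.smul_mono_left hJ (ClosedK0.ker_unit_le (cι A X) G z _ e))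
  have hz : ∀ z : cfib A X, Subsingleton ((cokernel v).presheaf.stalk (cι A X z)) := fun z =>
    subsingleton_of_forall_eq 0 fun c => by
      obtain ⟨s, rfl⟩ := stalk_surjective (cokernel.π v) (cι A X z) c
      obtain ⟨t, rfl⟩ := key z s
      rw [← Omega.Stalks.stalkLin_comp, cokernel.condition, Omega.Stalks.stalkLin_zero]
  refine Preadditive.epi_of_cancel_zero v fun g hg => ?_
  rw [← cokernel.π_desc v g hg]
  have h0 : cokernel.π v = 0 := Omega.Stalks.hom_ext_stalk fun x => LinearMap.ext fun t => by
    haveI := subsingleton_stalk_of_fib A X hC hz x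
    exact Subsingleton.elim _ _
  rw [h0, zero_comp]

/-- A morphism of flat vector bundles is a monomorphism if its restriction to the closed fibre is one. -/
theorem mono_of_fib [Flat (X ↘ Spec (CommRingCat.of A))] {F G : X.Modules} (hF : FlatMod.IsFinLocFree F)
    (hG : FlatMod.IsFinLocFree G) (v : F ⟶ G)
    (hv : Mono ((Scheme.Modules.pullback (cι A X)).map v)) : Mono v := by
  haveI := isClosedImmersion_cι A X
  haveI := isLocallyNoetherian_of_proper A X
  let π := X ↘ Spec (CommRingCat.of A)
  have key : ∀ z : cfib A X, Function.Injective (stalkLin v (cι A X z)) := by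
    intro z
    let x := cι A X z
    let R := (Spec (CommRingCat.of A)).presheaf.stalk (π.base x)
    let S := X.presheaf.stalk x
    letI := (π.stalkMap x).hom.toAlgebra
    letI : Module R (F.presheaf.stalk x) := FlatMod.moduleStalkOver π F x
    letI : Module R (G.presheaf.stalk x) := FlatMod.moduleStalkOver π G x
    haveI : IsScalarTower R S (F.presheaf.stalk x) := IsScalarTower.of_algebraMap_smul fun _ _ => rfl
    haveI : IsScalarTower R S (G.presheaf.stalk x) := IsScalarTower.of_algebraMap_smul fun _ _ => rfl
    haveI : Module.Flat R (G.presheaf.stalk x) := isFlatOver_of_isFinLocFree' π hG x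
    haveI := finite_stalk_of_isFinLocFree hF x
    haveI : IsLocalHom (algebraMap R S) := inferInstanceAs (IsLocalHom (π.stalkMap x).hom)
    have hJ : RingHom.ker ((cι A X).stalkMap z).hom = (maximalIdeal R).map (algebraMap R S) :=
      FlatMor.FibreStalk.ker_stalkMap_fiberι π (closedPoint A) z
    refine (LocFlat.injective_and_flat_coker (S := S) ((stalkLin v x).restrictScalars R)
      (lTensor_residue_injective _ fun t ht => ?_)).1
    rw [← Submodule.restrictScalars_top R S, ← Ideal.smul_restrictScalars, Submodule.restrictScalars_mem] at ht ⊢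
    have e : Basic.unitStalkHom (cι A X) G z (stalkLin v x t) = 0 := by
      rw [← hJ] at ht
      refine Submodule.smul_induction_on ht (fun r hr m _ => ?_) (fun a b ha hb => by rw [map_add, ha, hb, add_zero])
      rw [Basic.unitStalkHom_smul, show (cι A X).stalkMap z r = 0 from hr, zero_smul]
    have e' : stalkLin ((Scheme.Modules.pullback (cι A X)).map v) z (Basic.unitStalkHom (cι A X) F z t) = 0 :=
      (FDesc.Stalk.unitStalkHom_natural (cι A X) v z t).symm.trans e
    have h0 : Basic.unitStalkHom (cι A X) F z t = 0 :=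
      Omega.Stalks.stalkLin_injective_of_mono _ z (e'.trans (map_zero _).symm)
    exact hJ ▸ ClosedK0.ker_unit_le (cι A X) F z t h0
  have hK : Coh.IsCoh (kernel v) :=
    CohDev.isCoh_kernel v (PerfTri.Bounded.isCoh_of_isFinLocFree hF) (PerfTri.Bounded.isCoh_of_isFinLocFree hG).1
  have hz : ∀ z : cfib A X, Subsingleton ((kernel v).presheaf.stalk (cι A X z)) := fun z =>
    subsingleton_of_forall_eq 0 fun c => Omega.Stalks.stalkLin_injective_of_mono (kernel.ι v) _ (key z (by
      rw [← Omega.Stalks.stalkLin_comp, kernel.condition, Omega.Stalks.stalkLin_zero, map_zero, map_zero]))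
  refine Preadditive.mono_of_cancel_zero v fun g hg => ?_
  rw [← kernel.lift_ι v g hg]
  have h0 : kernel.ι v = 0 := Omega.Stalks.hom_ext_stalk fun x => LinearMap.ext fun t => by
    haveI := subsingleton_stalk_of_fib A X hK hz x
    rw [Subsingleton.elim t 0, map_zero, map_zero]
  rw [h0, comp_zero]

end Groth.Agent.FormalFun
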