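import Groth.Agent.FormalFun.HomSurj
import Groth.Agent.FormalFun.HomMonoEpi
import Groth.Agent.LimLib.StalkSystem
import Groth.Agent.LimTop.BaseChange
import Groth.Agent.S4790
import Groth.Agent.Wt.GenFib
import Groth.Agent.KFlat.LocFree
import Groth.Agent.Props.QProj
import Groth.Agent.KFlat.Hom

/-!
# Bundles isomorphic on a fibre of a flat proper morphism are isomorphic near it
-/

set_option autoImplicit false

universe u

open CategoryTheory Limits AlgebraicGeometry Opposite TopologicalSpace IsLocalRing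
open Groth.Agent

noncomputable section

namespace Groth.Agent.FormalFun

section Transport

open Groth.Agent.CohAff Groth.Agent.ProperFin

variable {X Y : Scheme.{u}}

/-- Vanishing of cohomology is reflected by the direct image along an affine morphism. -/
theorem subsingleton_HH_of_push (f : X ⟶ Y) [IsAffineHom f] (M : X.Modules) [Coh.IsQCoh M] (k : ℕ)
    (h : Subsingleton (Coh.HH Y ((Coh.push f).obj M) k)) : Subsingleton (Coh.HH X M k) := by
  let R := FRes.ofMod M
  refine subsingleton_of_forall_eq 0 fun x => ?_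
  obtain ⟨z, rfl⟩ := R.clsTop_surjective k x
  refine (R.clsTop_eq_zero_iff k z).2 ((R.ex_pushAff_iff f k ⊤ z).1 ?_)
  exact ((R.pushAff f).clsTop_eq_zero_iff k z).1 (h.elim _ _)

theorem subsingleton_HH_iso {M N : X.Modules} (e : M ≅ N) (n : ℕ) (h : Subsingleton (Coh.HH X M n)) :
    Subsingleton (Coh.HH X N n) :=
  subsingleton_of_forall_eq 0 fun x => by
    rw [← CohLin.hMap_id N n x, ← e.inv_hom_id, CohLin.hMap_comp, h.elim (CohLin.hMap e.inv n x) 0, map_zero]

theorem nonempty_sheafHomIso {F F' : X.Modules} [DCoh.HasSheafHom F] [DCoh.HasSheafHom F'] (a : F ≅ F') :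
    Nonempty (DCoh.sheafHom F ≅ DCoh.sheafHom F') :=
  ⟨(DCoh.sheafHomAdj F).rightAdjointUniq
    ((DCoh.sheafHomAdj F').ofNatIsoLeft (((DCoh.tensorBi (X := X)).mapIso a).symm))⟩

/-- `H¹(End)` transported along an isomorphism of schemes. -/
theorem subsingleton_H1_sheafHom_transport [IsLocallyNoetherian X] (e : X ≅ Y) (F : Y.Modules) (hF : FlatMod.IsFinLocFree F)
    [DCoh.HasSheafHom F] (h : Subsingleton (Coh.HH Y ((DCoh.sheafHom F).obj F) 1))
    {F' G' : X.Modules} [DCoh.HasSheafHom F']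
    (a : F' ≅ (Scheme.Modules.pullback e.hom).obj F) (b : G' ≅ (Scheme.Modules.pullback e.hom).obj F) :
    Subsingleton (Coh.HH X ((DCoh.sheafHom F').obj G') 1) := by
  haveI := KFlat.hasSheafHom_scheme ((Scheme.Modules.pullback e.hom).obj F)
  haveI : IsLocallyNoetherian Y := LocallyOfFiniteType.isLocallyNoetherian e.inv
  haveI : F.IsQuasicoherent := (PerfTri.Bounded.isCoh_of_isFinLocFree hF).1
  have hF0 := KFlat.LocFree.isFinLocFree_pull (e.hom) hF
  let F0 := (Scheme.Modules.pullback e.hom).obj F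
  obtain ⟨θ⟩ := nonempty_sheafHomIso a
  refine subsingleton_HH_iso (θ.app G' ≪≫ (DCoh.sheafHom F0).mapIso b).symm 1 ?_
  haveI : Coh.IsQCoh ((DCoh.sheafHom F0).obj F0) :=
    (ExtHom.isCoh_sheafHom hF0 (PerfTri.Bounded.isCoh_of_isFinLocFree hF0)).1
  refine subsingleton_HH_of_push e.hom _ 1 ?_
  obtain ⟨η⟩ := nonempty_homPushIso e.hom F
  refine subsingleton_HH_iso (η.app F0) 1 (subsingleton_HH_iso ((DCoh.sheafHom F).mapIso ?_) 1 h)
  haveI : IsIso ((Scheme.Modules.pullbackPushforwardAdjunction e.hom).unit.app F) := by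
    refine (ClUnit.isIso_unit_iff_stalk e.hom F).2 ⟨fun z r hr t => ?_, fun x hx => (hx ⟨e.inv x, ?_⟩).elim⟩
    · rw [show r = 0 from (ConcreteCategory.bijective_of_isIso (e.hom.stalkMap z)).1 (hr.trans (map_zero _).symm), zero_smul]
    · exact congr($(e.inv_hom_id).base x)
  exact asIso ((Scheme.Modules.pullbackPushforwardAdjunction e.hom).unit.app F)

end Transport

/-- The fibre of a base change along a preimmersion, over `X`. -/
theorem exists_fiber_iso_fst {X Y X' S : Scheme.{u}} {f : X ⟶ Y} {p : X' ⟶ S} {g : X' ⟶ X} {j : S ⟶ Y}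
    [IsPreimmersion j] (h : IsPullback g p f j) (s : S) (y : Y) (hy : j s = y) :
    ∃ e : p.fiber s ≅ f.fiber y, e.hom ≫ f.fiberι y = p.fiberι s ≫ g := by
  subst hy
  have h2 := isPullback_fiberToSpecResidueField_of_isPullback h s
  haveI := Wt.GenFib.isIso_residueFieldMap j s
  haveI : IsIso (Spec.map (j.residueFieldMap s)) := inferInstance
  haveI := h2.isIso_fst_of_isIso
  exact ⟨@asIso _ _ _ _ _ h2.isIso_fst_of_isIso, pullback.lift_fst _ _ _⟩

/-- Isomorphic pullbacks along an open immersion give isomorphic restrictions to its range. -/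
theorem nonempty_restrict_iso {W X : Scheme.{u}} (q : W ⟶ X) [IsOpenImmersion q] (V : X.Opens)
    (hV : (V : Set X) = Set.range q) {F G : X.Modules}
    (h : Nonempty ((Scheme.Modules.pullback q).obj F ≅ (Scheme.Modules.pullback q).obj G)) :
    Nonempty (F.restrict V.ι ≅ G.restrict V.ι) := by
  obtain ⟨ψ⟩ := h
  let e := IsOpenImmersion.isoOfRangeEq V.ι q (V.range_ι.trans hV)
  have he : e.hom ≫ q = V.ι := IsOpenImmersion.isoOfRangeEq_hom_fac _ _ _
  let r := LimTop.compIso e.hom q he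
  exact ⟨(Scheme.Modules.restrictFunctorIsoPullback V.ι).app F ≪≫ (r.app F).symm ≪≫
    (Scheme.Modules.pullback e.hom).mapIso ψ ≪≫ r.app G ≪≫
    ((Scheme.Modules.restrictFunctorIsoPullback V.ι).app G).symm⟩

theorem fpOn_of_isFinLocFree {X : Scheme.{u}} {M : X.Modules} [M.IsQuasicoherent] (h : FlatMod.IsFinLocFree M) :
    CohB1.IsFP M := by
  refine (Props.QFP.isFP_iff M).2 ?_
  exact fun U hU => Props.QProj.finitePresentation_sections M h hU

/-- Bundles isomorphic on a fibre, with `H¹(End) = 0` there, are isomorphic near it. -/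
theorem exists_iso_near_fibre {X Y : Scheme.{u}} (f : X ⟶ Y) [IsProper f] [Flat f]
    [IsLocallyNoetherian Y] (y : Y) (F G : X.Modules) (hF : FlatMod.IsFinLocFree F) (hG : FlatMod.IsFinLocFree G)
    [DCoh.HasSheafHom ((Scheme.Modules.pullback (f.fiberι y)).obj F)]
    (h1 : Subsingleton (Coh.HH (f.fiber y) ((DCoh.sheafHom ((Scheme.Modules.pullback (f.fiberι y)).obj F)).obj
      ((Scheme.Modules.pullback (f.fiberι y)).obj F)) 1))
    (hy : Nonempty ((Scheme.Modules.pullback (f.fiberι y)).obj F ≅ (Scheme.Modules.pullback (f.fiberι y)).obj G)) :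
    ∃ U : Y.Opens, y ∈ U ∧ Nonempty (F.restrict (f ⁻¹ᵁ U).ι ≅ G.restrict (f ⁻¹ᵁ U).ι) := by
  obtain ⟨ψ⟩ := hy
  haveI : IsLocallyNoetherian X := LocallyOfFiniteType.isLocallyNoetherian f
  haveI : F.IsQuasicoherent := (PerfTri.Bounded.isCoh_of_isFinLocFree hF).1
  haveI : G.IsQuasicoherent := (PerfTri.Bounded.isCoh_of_isFinLocFree hG).1
  obtain ⟨S⟩ := LimLib.nonempty_stalkSystem Y y
  obtain ⟨j₀⟩ : Nonempty S.Jᵒᵖ := ⟨op S.ne.some⟩
  obtain ⟨hS⟩ := S.isLimit
  let R := Y.presheaf.stalk y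
  let m : S.D.obj j₀ ⟶ Y := S.ι.app j₀
  let T := pullback f m
  let iT : T ⟶ X := pullback.fst f m
  let h : T ⟶ S.D.obj j₀ := pullback.snd f m
  haveI : IsProper h := MorphismProperty.of_isPullback (P := @IsProper) (IsPullback.of_hasPullback f m) inferInstance
  let c : Cone S.D := Cone.mk (Spec R) S.π
  let p₀ : Spec R ⟶ S.D.obj j₀ := c.π.app j₀
  let X' : Scheme.{u} := pullback p₀ h
  let g : X' ⟶ X := pullback.snd p₀ h ≫ iT
  let f' : X' ⟶ Spec R := pullback.fst p₀ h
  have hsq : IsPullback g f' f (Y.fromSpecStalk y) := by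
    have := (IsPullback.of_hasPullback p₀ h).flip.paste_horiz (IsPullback.of_hasPullback f m)
    rwa [show p₀ ≫ m = Y.fromSpecStalk y from S.fac j₀] at this
  letI : X'.Over (Spec (CommRingCat.of (Y.presheaf.stalk y))) := ⟨f'⟩
  haveI : IsProper (X' ↘ Spec (CommRingCat.of (Y.presheaf.stalk y))) :=
    MorphismProperty.of_isPullback (P := @IsProper) hsq inferInstance
  haveI : Flat (X' ↘ Spec (CommRingCat.of (Y.presheaf.stalk y))) :=
    MorphismProperty.of_isPullback (P := @Flat) hsq inferInstance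
  haveI := isLocallyNoetherian_of_proper (Y.presheaf.stalk y) X'
  haveI := isClosedImmersion_cι (Y.presheaf.stalk y) X'
  haveI : IsLocallyNoetherian (cfib (Y.presheaf.stalk y) X') :=
    LocallyOfFiniteType.isLocallyNoetherian (cι (Y.presheaf.stalk y) X')
  let ι' := cι (Y.presheaf.stalk y) X'
  let F' := (Scheme.Modules.pullback g).obj F
  let G' := (Scheme.Modules.pullback g).obj G
  have hF' := KFlat.LocFree.isFinLocFree_pull (g) hF
  have hG' := KFlat.LocFree.isFinLocFree_pull (g) hG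
  haveI : F'.IsQuasicoherent := (PerfTri.Bounded.isCoh_of_isFinLocFree hF').1
  haveI : G'.IsQuasicoherent := (PerfTri.Bounded.isCoh_of_isFinLocFree hG').1
  haveI := KFlat.hasSheafHom_scheme F'
  haveI := KFlat.hasSheafHom_scheme ((Scheme.Modules.pullback ι').obj F')
  haveI : IsLocallyNoetherian (f'.fiber (closedPoint R)) :=
    inferInstanceAs (IsLocallyNoetherian (cfib (Y.presheaf.stalk y) X'))
  obtain ⟨e, he⟩ := exists_fiber_iso_fst (p := X' ↘ Spec (CommRingCat.of (Y.presheaf.stalk y))) hsq (closedPoint R) y Scheme.fromSpecStalk_closedPoint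
  let χ : Scheme.Modules.pullback (f.fiberι y) ⋙ Scheme.Modules.pullback e.hom ≅
      Scheme.Modules.pullback g ⋙ Scheme.Modules.pullback ι' :=
    LimTop.compIso e.hom (f.fiberι y) he ≪≫ (LimTop.compIso ι' g rfl).symm
  let u₀ : (Scheme.Modules.pullback ι').obj F' ≅ (Scheme.Modules.pullback ι').obj G' :=
    (χ.app F).symm ≪≫ (Scheme.Modules.pullback e.hom).mapIso ψ ≪≫ χ.app G
  have h1' : Subsingleton (Coh.HH (cfib (Y.presheaf.stalk y) X')
      ((DCoh.sheafHom ((Scheme.Modules.pullback ι').obj F')).obj ((Scheme.Modules.pullback ι').obj G')) 1) :=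
    subsingleton_H1_sheafHom_transport (F' := (Scheme.Modules.pullback ι').obj F')
      (G' := (Scheme.Modules.pullback ι').obj G') e _ (KFlat.LocFree.isFinLocFree_pull (f.fiberι y) hF) h1
      (χ.app F).symm ((χ.app G).symm ≪≫ (Scheme.Modules.pullback e.hom).mapIso ψ.symm)
  obtain ⟨v, hv⟩ := exists_hom_lift (Y.presheaf.stalk y) X' F' G' hF' (PerfTri.Bounded.isCoh_of_isFinLocFree hG')
    (isFlatOver_of_isFinLocFree' _ hG')
    (ExtHom.isCoh_sheafHom (KFlat.LocFree.isFinLocFree_pull (ι') hF')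
      (PerfTri.Bounded.isCoh_of_isFinLocFree (KFlat.LocFree.isFinLocFree_pull (ι') hG'))).1 h1' u₀.hom
  haveI : Mono v := mono_of_fib hF' hG' v (by rw [hv]; infer_instance)
  haveI : Epi v := epi_of_fib (PerfTri.Bounded.isCoh_of_isFinLocFree hF') hG' v (by rw [hv]; infer_instance)
  haveI : IsIso v := isIso_of_mono_of_epi v
  -- descend to a neighbourhood
  let i₀ : Over j₀ := Over.mk (𝟙 j₀)
  let D' := LimTop.bcDiagram S.D j₀ h
  let c' := LimTop.bcCone c j₀ h
  let q : ∀ k : Over j₀, D'.obj k ⟶ X := fun k => pullback.snd (S.D.map k.hom) h ≫ iT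
  haveI : ∀ (i j : S.Jᵒᵖ) (φ : i ⟶ j), IsAffineHom (S.D.map φ) := fun i j φ => inferInstance
  haveI : IsAffineHom (pullback.snd (S.D.map i₀.hom) h) :=
    MorphismProperty.of_isPullback (P := @IsAffineHom) (IsPullback.of_hasPullback (S.D.map i₀.hom) h) inferInstance
  haveI : CompactSpace T := QuasiCompact.compactSpace_of_compactSpace h
  haveI : QuasiSeparatedSpace T := quasiSeparatedSpace_of_quasiSeparated h
  haveI hqc : QuasiCompact (pullback.snd (S.D.map i₀.hom) h) :=
    MorphismProperty.of_isPullback (P := @QuasiCompact) (IsPullback.of_hasPullback (S.D.map i₀.hom) h) inferInstance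
  haveI hqs : QuasiSeparated (pullback.snd (S.D.map i₀.hom) h) :=
    MorphismProperty.of_isPullback (P := @QuasiSeparated) (IsPullback.of_hasPullback (S.D.map i₀.hom) h) inferInstance
  haveI : CompactSpace (D'.obj i₀) :=
    show CompactSpace ↥(pullback (S.D.map i₀.hom) h) from
      @QuasiCompact.compactSpace_of_compactSpace _ _ (pullback.snd (S.D.map i₀.hom) h) hqc ‹CompactSpace T›
  haveI : QuasiSeparatedSpace (D'.obj i₀) :=
    show QuasiSeparatedSpace ↥(pullback (S.D.map i₀.hom) h) from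
      @quasiSeparatedSpace_of_quasiSeparated _ _ (pullback.snd (S.D.map i₀.hom) h) ‹QuasiSeparatedSpace T› hqs
  let F₀ := (Scheme.Modules.pullback (q i₀)).obj F
  let G₀ := (Scheme.Modules.pullback (q i₀)).obj G
  have hF₀ := KFlat.LocFree.isFinLocFree_pull (q i₀) hF
  have hG₀ := KFlat.LocFree.isFinLocFree_pull (q i₀) hG
  haveI : Coh.IsQCoh F₀ := QCoh.isQuasicoherent_pullback (q i₀) F
  haveI : Coh.IsQCoh G₀ := QCoh.isQuasicoherent_pullback (q i₀) G
  have hg : c'.π.app i₀ ≫ q i₀ = g := by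
    exact (Category.assoc _ _ _).symm.trans (congrArg (· ≫ iT) (LimTop.bcCone_snd c j₀ h i₀))
  let χ₁ := LimTop.compIso (c'.π.app i₀) (q i₀) hg
  obtain ⟨k, φ, ⟨ε⟩⟩ := (S4790.result D' c' (LimTop.isLimitBcCone hS j₀ h) i₀ F₀ G₀ (fpOn_of_isFinLocFree hF₀)
    (fpOn_of_isFinLocFree hG₀)).1 ⟨χ₁.app F ≪≫ (@asIso _ _ F' G' v ‹IsIso v›) ≪≫ (χ₁.app G).symm⟩
  have hq : D'.map φ ≫ q i₀ = q k := by
    exact (Category.assoc _ _ _).symm.trans (congrArg (· ≫ iT) (pullback.lift_snd _ _ _))
  let χ₂ := LimTop.compIso (D'.map φ) (q i₀) hq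
  let mk : S.D.obj k.left ⟶ Y := S.ι.app k.left
  have hk : IsPullback (q k) (pullback.fst (S.D.map k.hom) h) f mk := by
    have := (IsPullback.of_hasPullback (S.D.map k.hom) h).flip.paste_horiz (IsPullback.of_hasPullback f m)
    rwa [show S.D.map k.hom ≫ m = mk from (S.ι.naturality k.hom).trans (Category.comp_id _)] at this
  haveI : IsOpenImmersion (q k) := MorphismProperty.of_isPullback (P := @IsOpenImmersion) hk.flip inferInstance
  refine ⟨mk.opensRange, S.mem k.left, nonempty_restrict_iso (q k) _ ?_ ⟨(χ₂.app F).symm ≪≫ ε ≪≫ χ₂.app G⟩⟩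
  show (f.base ⁻¹' Set.range mk.base : Set X) = Set.range (q k).base
  rw [← hk.isoPullback_hom_fst, Scheme.Hom.comp_base, TopCat.coe_comp,
    hk.isoPullback.hom.surjective.range_comp, Scheme.Pullback.range_fst]

end Groth.Agent.FormalFun
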