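import Groth.Agent.FormalFun.Finite
import Groth.Agent.ProperFin.Supp

/-!
# Separating clopen pieces of the closed fibre by global functions

* `exists_global_one_zero`: `X` proper over a complete Noetherian local ring `A`; a decomposition of the
  closed fibre into two closed pieces is cut out by a global function.
-/

set_option autoImplicit false

universe u

open CategoryTheory Limits AlgebraicGeometry Opposite TopologicalSpace
open Groth.Agent

noncomputable section

namespace Groth.Agent.FormalFun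

variable {A : Type u} [CommRing A] {X : Scheme.{u}} [X.Over (Spec (CommRingCat.of A))]

/-- A function on `U` as a section of the structure module. -/
def secOf (U : X.Opens) (r : Γ(X, U)) : Γ(Coh.structureModule X, U) := r

/-- A section of the structure module as a function. -/
def funOf (U : X.Opens) (r : Γ(Coh.structureModule X, U)) : Γ(X, U) := r

theorem secOf_res {U V : X.Opens} (h : V ≤ U) (r : Γ(X, U)) :
    (Coh.structureModule X).presheaf.map (homOfLE h).op (secOf U r) = secOf V (X.presheaf.map (homOfLE h).op r) := rfl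

theorem smulMod_app_secOf (a : A) (U : X.Opens) (t : Γ(X, U)) :
    (Formal.smulMod A (Coh.structureModule X) a).app U (secOf U t) = secOf U (gA (A := A) U a * t) := rfl

theorem app_res {M N : X.Modules} (φ : M ⟶ N) {U V : X.Opens} (h : V ≤ U) (x : Γ(M, U)) :
    φ.app V (M.presheaf.map (homOfLE h).op x) = N.presheaf.map (homOfLE h).op (φ.app U x) :=
  ConcreteCategory.congr_hom (φ.mapPresheaf.naturality (homOfLE h).op) x

theorem gA_res (a : A) {U V : X.Opens} (h : V ≤ U) :
    X.presheaf.map (homOfLE h).op (gA (A := A) U a) = gA (A := A) V a :=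
  Coh.resTop_comp (op U) (op V) (homOfLE h).op _

theorem basicOpen_gA_top (a : A) :
    X.basicOpen (gA (A := A) (X := X) ⊤ a) = (X ↘ Spec (CommRingCat.of A)) ⁻¹ᵁ PrimeSpectrum.basicOpen a := by
  refine Eq.trans ?_ (congrArg ((X ↘ Spec (CommRingCat.of A)) ⁻¹ᵁ ·) (basicOpen_eq_of_affine (R := CommRingCat.of A) a))
  rw [Scheme.preimage_basicOpen_top]
  refine congrArg (fun s : Γ(X, ⊤) => X.basicOpen s) ?_
  show X.presheaf.map (𝟙 (op (⊤ : X.Opens))) _ = _
  rw [X.presheaf.map_id]
  rfl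

theorem basicOpen_gA (a : A) (U : X.Opens) :
    X.basicOpen (gA (A := A) U a) = U ⊓ (X ↘ Spec (CommRingCat.of A)) ⁻¹ᵁ PrimeSpectrum.basicOpen a := by
  rw [← gA_res a (le_top : U ≤ ⊤), Scheme.basicOpen_res, basicOpen_gA_top]

theorem isUnit_gA (a : A) {U : X.Opens}
    (h : U ≤ (X ↘ Spec (CommRingCat.of A)) ⁻¹ᵁ PrimeSpectrum.basicOpen a) : IsUnit (gA (A := A) U a) := by
  have e : X.basicOpen (gA (A := A) U a) = U := by rw [basicOpen_gA]; exact inf_eq_left.mpr h
  have h1 := (gA (A := A) U a) |> RingedSpace.isUnit_res_basicOpen X.toRingedSpace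
  have h2 : IsUnit (X.presheaf.map (homOfLE (le_of_eq e.symm)).op (X.presheaf.map (homOfLE (X.basicOpen_le _)).op (gA (A := A) U a))) :=
    RingHom.isUnit_map _ h1
  rw [← ConcreteCategory.comp_apply, ← Functor.map_comp] at h2
  have e2 : (homOfLE (X.basicOpen_le (gA (A := A) U a))).op ≫ (homOfLE (le_of_eq e.symm)).op = 𝟙 (op U) :=
    Quiver.Hom.unop_inj (Subsingleton.elim _ _)
  rw [e2, X.presheaf.map_id] at h2
  exact h2

/-- `1` vanishes in `M/I^n` away from `V(I)`. -/
theorem π_secOf_one_eq_zero (I : Ideal A) (n : ℕ) {U : X.Opens}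
    (hU : ∀ x ∈ U, ∃ a ∈ I, x ∈ (X ↘ Spec (CommRingCat.of A)) ⁻¹ᵁ PrimeSpectrum.basicOpen a) :
    (Formal.modPowπ I n (Coh.structureModule X)).app U (secOf U 1) = 0 := by
  let F : TopCat.Sheaf AddCommGrpCat.{u} X.toTopCat := Coh.toAb (Formal.modPow I n (Coh.structureModule X))
  let D : {a : A // a ∈ I} → X.Opens := fun a => U ⊓ (X ↘ Spec (CommRingCat.of A)) ⁻¹ᵁ PrimeSpectrum.basicOpen (a : A)
  refine F.eq_of_locally_eq' D U (fun a => homOfLE inf_le_left) (fun x hx => ?_) _ 0 (fun a => ?_)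
  · obtain ⟨a, ha, hxa⟩ := hU x hx
    exact Opens.mem_iSup.mpr ⟨⟨a, ha⟩, hx, hxa⟩
  · refine ((app_res (Formal.modPowπ I n (Coh.structureModule X)) (inf_le_left : D a ≤ U)
      (secOf U 1)).symm).trans (Eq.trans ?_ (map_zero _).symm)
    rw [secOf_res, map_one]
    obtain ⟨t, ht⟩ := ((isUnit_gA (A := A) (a : A) (inf_le_right : D a ≤ _)).pow n).exists_right_inv
    rw [← map_pow] at ht
    rw [← ht, ← smulMod_app_secOf, ← app_comp]
    have hz : Formal.smulMod A (Coh.structureModule X) ((a : A) ^ n) ≫ Formal.modPowπ I n (Coh.structureModule X) = 0 :=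
      smulMod_comp_π _ (Ideal.pow_mem_pow a.2 n)
    rw [hz]
    rfl

/-- Global sections from `H^0`. -/
def Γ0 (M : X.Modules) : Coh.HH X M 0 ≃+ Γ(M, ⊤) :=
  Sheaf.H.equiv₀ (Coh.toAb M) (isTerminalTop : IsTerminal (⊤ : X.Opens))

theorem Γ0_map {M N : X.Modules} (φ : M ⟶ N) (x : Coh.HH X M 0) :
    Γ0 N (Sheaf.H.map ((SheafOfModules.toSheaf X.ringCatSheaf).map φ) 0 x) = φ.app ⊤ (Γ0 M x) :=
  (Sheaf.H.equiv₀_naturality _ _ x).symm

/-- A global section of the completion of `O` at the fibre gives a global function. -/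
theorem exists_of_compatible [IsNoetherianRing A] [IsProper (X ↘ Spec (CommRingCat.of A))] (I : Ideal A) [IsAdicComplete I A]
    (s : ∀ n, Γ(Formal.modPow I (n + 1) (Coh.structureModule X), ⊤))
    (hs : ∀ n, (Formal.modPowTrans I (n + 1) (Coh.structureModule X)).app ⊤ (s (n + 1)) = s n) :
    ∃ a : Γ(X, ⊤), ∀ n, (Formal.modPowπ I (n + 1) (Coh.structureModule X)).app ⊤ (secOf ⊤ a) = s n := by
  haveI := isLocallyNoetherian_of_proper A X
  haveI := compactSpace_of_proper A X
  have hb := toHHlim_bijective I 0 (finiteCoh_of_proper A X) (ProperFin.isCoh_structureModule X)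
  obtain ⟨x, hx⟩ := hb.2 ⟨fun n => (Γ0 _).symm (s n), fun n => by
    apply (Γ0 _).injective
    rw [Formal.HHmodPowTrans, Γ0_map]
    erw [AddEquiv.apply_symm_apply, AddEquiv.apply_symm_apply]
    exact hs n⟩
  refine ⟨funOf ⊤ (Γ0 _ x), fun n => ?_⟩
  have h1 := congrArg (fun z => Γ0 _ z) (congrFun (congrArg Subtype.val hx) n)
  refine Eq.trans ?_ (h1.trans ((Γ0 _).apply_symm_apply (s n)))
  exact (Γ0_map _ x).symm

variable [IsLocalRing A]

/-- Two disjoint closed sets covering the closed fibre are separated by a global function. -/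
theorem exists_global_one_zero [IsNoetherianRing A] [IsAdicComplete (IsLocalRing.maximalIdeal A) A]
    [IsProper (X ↘ Spec (CommRingCat.of A))] {Z Z' : Set X} (hZ : IsClosed Z) (hZ' : IsClosed Z') (hd : Disjoint Z Z')
    (hun : (X ↘ Spec (CommRingCat.of A)).base ⁻¹' {IsLocalRing.closedPoint A} ⊆ Z ∪ Z') :
    ∃ a : Γ(X, ⊤), ∀ x : X, (X ↘ Spec (CommRingCat.of A)).base x = IsLocalRing.closedPoint A →
      (x ∈ X.basicOpen a ↔ x ∈ Z) := by
  set m := IsLocalRing.maximalIdeal A
  set f := X ↘ Spec (CommRingCat.of A)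
  let O := Coh.structureModule X
  let U : X.Opens := ⟨Z'ᶜ, hZ'.isOpen_compl⟩
  let W : X.Opens := ⟨Zᶜ, hZ.isOpen_compl⟩
  have hoff : ∀ x ∈ U ⊓ W, ∃ a ∈ m, x ∈ f ⁻¹ᵁ PrimeSpectrum.basicOpen a := by
    rintro x ⟨hxU, hxW⟩
    have hne : ¬ m ≤ (f.base x).asIdeal := fun hle => by
      have hcl : f.base x = IsLocalRing.closedPoint A :=
        PrimeSpectrum.ext ((IsLocalRing.le_maximalIdeal (f.base x).isPrime.ne_top).antisymm hle)
      rcases hun hcl with h | h
      exacts [hxW h, hxU h]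
    obtain ⟨a, ha, hap⟩ := SetLike.not_le_iff_exists.mp hne
    exact ⟨a, ha, hap⟩
  let Ui : ULift.{u} Bool → X.Opens := fun b => bif b.down then U else W
  have hsup : (⊤ : X.Opens) ≤ iSup Ui := fun x _ => by
    by_cases h : x ∈ Z'
    · exact Opens.mem_iSup.mpr ⟨⟨false⟩, show x ∈ W from fun hz => hd.le_bot ⟨hz, h⟩⟩
    · exact Opens.mem_iSup.mpr ⟨⟨true⟩, h⟩
  let F : ℕ → TopCat.Sheaf AddCommGrpCat.{u} X.toTopCat := fun n => Coh.toAb (Formal.modPow m (n + 1) O)
  let sf : ∀ (n : ℕ) (b : ULift.{u} Bool), Γ(Formal.modPow m (n + 1) O, Ui b) := fun n b =>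
    (Formal.modPowπ m (n + 1) O).app (Ui b) (secOf (Ui b) (bif b.down then 1 else 0))
  have hπ0 : ∀ (n : ℕ) (V : X.Opens), V ≤ U ⊓ W →
      (Formal.modPowπ m (n + 1) O).app V (secOf V 1) = 0 := fun n V hV =>
    π_secOf_one_eq_zero m (n + 1) fun x hx => hoff x (hV hx)
  have hsf_res : ∀ (n : ℕ) (b : ULift.{u} Bool) (V : X.Opens) (hV : V ≤ Ui b),
      (Formal.modPow m (n + 1) O).presheaf.map (homOfLE hV).op (sf n b) =
        (Formal.modPowπ m (n + 1) O).app V (secOf V (bif b.down then 1 else 0)) := fun n b V hV => by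
    refine ((app_res _ hV _).symm).trans ?_
    rw [secOf_res]
    rcases b with ⟨_ | _⟩ <;> simp
  have hcompat : ∀ n, TopCat.Presheaf.IsCompatible (F n).1 Ui (sf n) := fun n b c => by
    refine (hsf_res n b _ inf_le_left).trans (Eq.trans ?_ (hsf_res n c _ inf_le_right).symm)
    have h0 : ∀ V : X.Opens, (Formal.modPowπ m (n + 1) O).app V (secOf V 0) = 0 := fun V => map_zero _
    rcases b with ⟨_ | _⟩ <;> rcases c with ⟨_ | _⟩
    · rfl
    · exact (h0 _).trans (hπ0 n _ (le_of_eq (inf_comm _ _))).symm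
    · exact (hπ0 n _ le_rfl).trans (h0 _).symm
    · rfl
  have hglue := fun n => (F n).existsUnique_gluing' Ui ⊤ (fun b => homOfLE le_top) hsup (sf n) (hcompat n)
  choose s hs huniq using hglue
  have hcomp : ∀ n, (Formal.modPowTrans m (n + 1) O).app ⊤ (s (n + 1)) = s n := fun n => huniq n _ fun b => by
    refine ((app_res (Formal.modPowTrans m (n + 1) O) le_top (s (n + 1))).symm).trans ?_
    erw [hs (n + 1) b]
    rw [← app_comp, Formal.modPowπ_trans]
  obtain ⟨a, ha⟩ := exists_of_compatible m s hcomp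
  refine ⟨a, fun z hz => ?_⟩
  -- near `z` the function is `ε + ∑ m·y`
  obtain ⟨b, hzb⟩ := Opens.mem_iSup.mp (hsup (show z ∈ (⊤ : X.Opens) from trivial))
  obtain ⟨_, ⟨V, hV, rfl⟩, hzV, hVb⟩ := X.isBasis_affineOpens.exists_subset_of_mem_open hzb (Ui b).isOpen
  have h1 : (Formal.modPowπ m (0 + 1) O).app V
      (secOf V (X.presheaf.map (homOfLE (le_top : V ≤ ⊤)).op a - bif b.down then 1 else 0)) = 0 := by
    rw [show secOf V (X.presheaf.map (homOfLE (le_top : V ≤ ⊤)).op a - bif b.down then 1 else 0) =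
      O.presheaf.map (homOfLE (le_top : V ≤ ⊤)).op (secOf ⊤ a) - secOf V (bif b.down then 1 else 0) from rfl,
      map_sub, app_res, ha 0, ← hsf_res 0 b V hVb, sub_eq_zero]
    erw [← hs 0 b]
    exact ConcreteCategory.congr_hom ((Formal.modPow m (0 + 1) O).presheaf.map_comp
      (homOfLE (le_top : Ui b ≤ ⊤)).op (homOfLE hVb).op) (s 0)
  obtain ⟨r, g, hg⟩ := Submodule.fg_iff_exists_fin_generating_family.mp (IsNoetherian.noetherian m)
  haveI := (ProperFin.isCoh_structureModule X).1
  obtain ⟨y, hy⟩ := (ker_iff (fun k : ULift.{u} (Fin r) => g k.down) O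
    (show m ^ (0 + 1) = Ideal.span (Set.range fun k : ULift.{u} (Fin r) => g k.down) by
      rw [zero_add, pow_one, show (fun k : ULift.{u} (Fin r) => g k.down) = g ∘ Equiv.ulift from rfl, EquivLike.range_comp]
      exact hg.symm) hV _).mp h1
  have hmem : X.presheaf.germ V z hzV (X.presheaf.map (homOfLE (le_top : V ≤ ⊤)).op a - bif b.down then 1 else 0) ∈
      IsLocalRing.maximalIdeal (X.presheaf.stalk z) := by
    rw [show X.presheaf.map (homOfLE (le_top : V ≤ ⊤)).op a - (bif b.down then 1 else 0) =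
        ∑ k, gA (A := A) V (g k.down) * funOf V (y k) from hy, map_sum]
    refine Ideal.sum_mem _ fun k _ => ?_
    rw [map_mul]
    refine Ideal.mul_mem_right _ _ ?_
    rw [IsLocalRing.mem_maximalIdeal]
    intro hu
    have : z ∈ X.basicOpen (gA (A := A) V (g k.down)) := (X.mem_basicOpen _ z hzV).mpr hu
    rw [basicOpen_gA] at this
    have h2 : g k.down ∉ (f.base z).asIdeal := this.2
    rw [hz] at h2
    exact h2 (show g k.down ∈ m by rw [← hg]; exact Ideal.subset_span ⟨k.down, rfl⟩)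
  have hb : (z ∈ Z ↔ b.down = true) := by
    rcases b with ⟨_ | _⟩
    · exact ⟨fun h => absurd h hzb, fun h => absurd h (by simp)⟩
    · exact ⟨fun _ => rfl, fun _ => (hun hz).resolve_right hzb⟩
  rw [hb, X.mem_basicOpen a z trivial, ← X.presheaf.germ_res_apply (homOfLE (le_top : V ≤ ⊤)) z hzV a]
  rw [IsLocalRing.mem_maximalIdeal, mem_nonunits_iff, map_sub] at hmem
  rcases b with ⟨_ | _⟩
  · simp only [cond_false, map_zero, sub_zero] at hmem
    exact ⟨fun h => absurd h hmem, fun h => absurd h (by simp)⟩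
  · simp only [cond_true, map_one] at hmem
    refine ⟨fun _ => rfl, fun _ => ?_⟩
    exact (IsLocalRing.isUnit_or_isUnit_one_sub_self _).resolve_right fun h => hmem (by
      have := h.neg; rwa [neg_sub] at this)

end Groth.Agent.FormalFun
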