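import Groth.Agent.FormalFun.TowerVan
import Groth.Agent.FormalFun.HomFib
import Groth.Agent.FormalFun.StalkBase
import Groth.Agent.KFlat.PullTensor
import Groth.Agent.FormalVan.Basic

/-!
# Serre vanishing near a fibre on which an invertible module is ample

`Tower.ofScheme` : the thickenings of the special fibre of a scheme over `A`;
`exists_bound_of_ample_cfib` : if `L` is ample on the closed fibre of a proper scheme over a Noetherian
local ring, then `H^q(X, M ⊗ L^d) = 0` for `q > 0` and `d` large.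
-/

set_option autoImplicit false

universe u

open CategoryTheory Limits AlgebraicGeometry Opposite TopologicalSpace
open Groth.Agent

noncomputable section

namespace Groth.Agent.FormalFun

namespace Tower

variable {A : Type u} [CommRing A] (J : Ideal A) (X : Scheme.{u}) [X.Over (Spec (CommRingCat.of A))]

/-- The thickenings `X ×_A A/J^(k+1)`. -/
def ofScheme : Tower A J where
  X k := pullback (X ↘ Spec (CommRingCat.of A)) (CohB1.specQuot J k)
  p k := pullback.snd _ _
  i k := pullback.lift (pullback.fst _ _) (pullback.snd _ _ ≫ CohB1.specQuotTrans J k)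
    (by rw [Category.assoc, CohB1.specQuotTrans_specQuot, pullback.condition])
  cart k := by
    refine IsPullback.of_right ?_ (pullback.lift_snd _ _ _) (IsPullback.of_hasPullback _ _)
    rw [pullback.lift_fst, CohB1.specQuotTrans_specQuot]
    exact IsPullback.of_hasPullback _ _

/-- level `k` inside `X` -/
abbrev ofSchemeι (k : ℕ) : (ofScheme J X).X k ⟶ X := pullback.fst _ _

theorem ofScheme_i_ι (k : ℕ) : (ofScheme J X).i k ≫ ofSchemeι J X (k + 1) = ofSchemeι J X k :=
  pullback.lift_fst _ _ _

theorem isPullback_ofSchemeι (k : ℕ) :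
    IsPullback (ofSchemeι J X k) ((ofScheme J X).p k) (X ↘ Spec (CommRingCat.of A)) (CohB1.specQuot J k) :=
  IsPullback.of_hasPullback _ _

theorem isClosedImmersion_ofSchemeι (k : ℕ) : IsClosedImmersion (ofSchemeι J X k) :=
  MorphismProperty.of_isPullback (P := @IsClosedImmersion) (isPullback_ofSchemeι J X k).flip
    (isClosedImmersion_specQuot J k)

instance (k : ℕ) : IsClosedImmersion (ofSchemeι J X k) := isClosedImmersion_ofSchemeι J X k

theorem isCut_ofSchemeι (k : ℕ) : IsCut (ofSchemeι J X k) (J ^ (k + 1)) :=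
  isCut_of_isPullback _ J k (isPullback_ofSchemeι J X k)

end Tower

variable (A : Type u) [CommRing A] [IsNoetherianRing A] [IsLocalRing A] (X : Scheme.{u})
  [X.Over (Spec (CommRingCat.of A))] [IsProper (X ↘ Spec (CommRingCat.of A))]

open IsLocalRing

omit [IsNoetherianRing A] [IsProper (X ↘ Spec (CommRingCat.of A))] in
/-- The bottom level is the closed fibre. -/
theorem exists_iso_cfib :
    ∃ g : (Tower.ofScheme (maximalIdeal A) X).X 0 ⟶ cfib A X,
      IsIso g ∧ g ≫ cι A X = Tower.ofSchemeι (maximalIdeal A) X 0 := by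
  let m := maximalIdeal A
  haveI hci : IsClosedImmersion (CohB1.specQuot m 0) := isClosedImmersion_specQuot m 0
  haveI hfield : (m ^ (0 + 1)).IsMaximal := (pow_one m).symm ▸ maximalIdeal.isMaximal A
  letI := Ideal.Quotient.field (m ^ (0 + 1))
  let s : Spec (CommRingCat.of (A ⧸ m ^ (0 + 1))) := closedPoint (A ⧸ m ^ (0 + 1))
  haveI : IsLocalHom (Ideal.Quotient.mk (m ^ (0 + 1))) := IsLocalHom.of_surjective _ Ideal.Quotient.mk_surjective
  have hs0 : PrimeSpectrum.comap (Ideal.Quotient.mk (m ^ (0 + 1))) (closedPoint (A ⧸ m ^ (0 + 1))) = closedPoint A :=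
    IsLocalRing.comap_closedPoint _
  have hs : CohB1.specQuot m 0 s = closedPoint A := hs0
  obtain ⟨e, he⟩ := exists_fiber_iso_fst (Tower.isPullback_ofSchemeι m X 0) s (closedPoint A) hs
  let W := Tower.ofScheme m X
  haveI hι : IsIso ((W.p 0).fiberι s) := by
    haveI : IsReduced (Spec (CommRingCat.of (A ⧸ m ^ (0 + 1)))) := inferInstance
    haveI : Surjective ((Spec (CommRingCat.of (A ⧸ m ^ (0 + 1)))).fromSpecResidueField s) :=
      ⟨fun t => ⟨Classical.arbitrary _, Subsingleton.elim _ _⟩⟩
    haveI : IsClosedImmersion ((Spec (CommRingCat.of (A ⧸ m ^ (0 + 1)))).fromSpecResidueField s) :=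
      IsClosedImmersion.of_isPreimmersion _ (by
        rw [Scheme.range_fromSpecResidueField]; exact (isClosed_discrete _))
    haveI : IsIso ((Spec (CommRingCat.of (A ⧸ m ^ (0 + 1)))).fromSpecResidueField s) :=
      isIso_of_isClosedImmersion_of_surjective _
    exact inferInstanceAs (IsIso (pullback.fst _ _))
  refine ⟨inv ((W.p 0).fiberι s) ≫ e.hom, inferInstance, ?_⟩
  rw [Category.assoc, he, IsIso.inv_hom_id_assoc]

theorem exists_bound_of_ample_cfib {L : X.Modules} (hL : PicF.IsInvertible L)
    (ha : CohB1.IsAmple ((Scheme.Modules.pullback (cι A X)).obj L)) {M : X.Modules} (hM : Coh.IsCoh M) :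
    ∃ d₀ : ℕ, ∀ d : ℕ, d₀ ≤ d → ∀ q : ℕ, 0 < q →
      Subsingleton (Coh.HH X ((twist L d).obj M) q) := by
  let m := maximalIdeal A
  let W := Tower.ofScheme m X
  haveI := isLocallyNoetherian_of_proper A X
  haveI := compactSpace_of_proper A X
  haveI : ∀ k, IsLocallyNoetherian (W.X k) := fun k =>
    LocallyOfFiniteType.isLocallyNoetherian (Tower.ofSchemeι m X k)
  have hp : IsProper (W.p 0) :=
    MorphismProperty.of_isPullback (P := @IsProper) (Tower.isPullback_ofSchemeι m X 0) inferInstance
  let S : TowerMod W :=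
    { F := fun k => (Scheme.Modules.pullback (Tower.ofSchemeι m X k)).obj M
      coh := fun k => ZClosLib.CohDescent.isCoh_pullback _ _ hM
      ψ := fun k => (LimTop.compIso (W.i k) (Tower.ofSchemeι m X (k + 1)) (Tower.ofScheme_i_ι m X k)).app M }
  let L' : (k : ℕ) → (W.X k).Modules := fun k => (Scheme.Modules.pullback (Tower.ofSchemeι m X k)).obj L
  have hL' : ∀ k, PicF.IsInvertible (L' k) := fun k => PicCl.isInvertible_pullback _ hL
  have φ : ∀ k, Nonempty ((Scheme.Modules.pullback (W.i k)).obj (L' (k + 1)) ≅ L' k) := fun k =>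
    ⟨(LimTop.compIso (W.i k) (Tower.ofSchemeι m X (k + 1)) (Tower.ofScheme_i_ι m X k)).app L⟩
  obtain ⟨g, hg, hgι⟩ := exists_iso_cfib A X
  haveI := hg
  haveI : CompactSpace (W.X 0) :=
    (Tower.ofSchemeι m X 0).isClosedEmbedding.compactSpace
  have ha' : CohB1.IsAmple (L' 0) :=
    AmpleLib.isAmple_of_iso ((LimTop.compIso g (cι A X) hgι).app L)
      (AmpleLib.isAmple_pullback_of_isInducing g g.homeomorph.isInducing ha)
  obtain ⟨d₀, hd₀⟩ := S.exists_bound L' hp hL' φ ha'
  refine ⟨d₀, fun d hd q hq => ?_⟩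
  haveI : IsNoetherian X := {}
  haveI := W.isNoetherian_X hp
  let G : X.Modules := (twist L d).obj M
  have hG : Coh.IsCoh G := ProjTwist.isCoh_tensor (AmpleLib.isInvertible_tensorPow hL d) hM
  have hz : ∀ k, Subsingleton (Formal.HHmodPow m G q k) := fun k => by
    obtain ⟨θ, -⟩ := (Tower.isCut_ofSchemeι m X k).exists_iso_unit G
    obtain ⟨t⟩ := nonempty_pullback_tensorPow (Tower.ofSchemeι m X k) hL d
    let c := KFlat.PullTensor.pullTensorIso (Tower.ofSchemeι m X k) M (CohB1.tensorPow L d) ≪≫
      ProjTwist.tensCongr (Iso.refl _) t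
    haveI : Coh.IsQCoh ((twist (L' k) d).obj (S.F k)) :=
      (ProjTwist.isCoh_tensor (AmpleLib.isInvertible_tensorPow (hL' k) d) (S.coh k)).1
    exact subsingleton_HH_iso' ((Scheme.Modules.pushforward (Tower.ofSchemeι m X k)).mapIso c.symm ≪≫ θ.symm) q
      (subsingleton_HH_push (Tower.ofSchemeι m X k) ((twist (L' k) d).obj (S.F k)) q (hd₀ d hd k q hq).1)
  have hfin := finiteCoh_of_proper A X
  haveI := hfin G hG q
  obtain ⟨c, hc⟩ := kernels_adically_small m (p := q) hfin hG
  have h1 : (⊤ : Submodule A (Coh.HH X G q)) ≤ m • ⊤ := fun z _ => by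
    have h := hc (c + 1) (Nat.le_add_right c 1) (show z ∈ (Formal.toHHmodPow m G q (c + 1)).ker from
      (hz (c + 1)).elim _ _)
    rw [Nat.add_sub_cancel_left, pow_one] at h
    exact h
  have h2 := Submodule.eq_bot_of_le_smul_of_le_jacobson_bot m ⊤ Module.Finite.fg_top h1
    (IsLocalRing.maximalIdeal_le_jacobson ⊥)
  exact subsingleton_of_forall_eq 0 fun z => (Submodule.mem_bot A).mp (h2 ▸ Submodule.mem_top)

end Groth.Agent.FormalFun
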