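import Groth.Agent.FormalFun.Sep
import Mathlib.AlgebraicGeometry.Geometrically.Connected

/-!
# Zariski connectedness

* `connectedSpace_pullback`: if `O_Y = f_* O_X` on one affine open around the image point, the base change to
  any field is connected.
* `geometricallyConnected_of_isIso_app`: if `O_Y = f_* O_X` then `f` is geometrically connected.
-/

set_option autoImplicit false

universe u

open CategoryTheory Limits AlgebraicGeometry Opposite TopologicalSpace
open Groth.Agent

noncomputable section

namespace Groth.Agent.FormalFun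

variable {X Y : Scheme.{u}} (f : X ⟶ Y) [IsProper f] [IsLocallyNoetherian Y]

theorem connectedSpace_pullback {V : Y.Opens} (hV : IsAffineOpen V) (hf : IsIso (f.app V))
    {y : Y} (hy : y ∈ V) (K : Type u) [Field K] (ψ : Y.residueField y ⟶ CommRingCat.of K) :
    ConnectedSpace ↥(pullback f (Spec.map ψ ≫ Y.fromSpecResidueField y)) := by
  let R := Y.presheaf.stalk y
  obtain ⟨B, _, _, _, _, ι, ρ, hι, hloc, hρ, hker, hcomp⟩ := exists_complete_ext R K ψ.hom
  let germ : Γ(Y, V) →+* R := (Y.presheaf.germ V y hy).hom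
  let φ : Γ(Y, V) →+* B := ι.comp germ
  have hgflat : germ.Flat := by
    letI := TopCat.Presheaf.algebra_section_stalk Y.presheaf ⟨y, hy⟩
    haveI := IsAffineOpen.isLocalization_stalk hV ⟨y, hy⟩
    exact RingHom.flat_algebraMap_iff.mpr (IsLocalization.flat _ (hV.primeIdealOf ⟨y, hy⟩).asIdeal.primeCompl)
  have hφ : φ.Flat := RingHom.Flat.comp hgflat hι
  let s := Spec.map (CommRingCat.ofHom ρ)
  have ht : Spec.map ψ ≫ Y.fromSpecResidueField y = s ≫ specTo hV φ := by
    rw [Scheme.fromSpecResidueField, ← Spec.map_comp_assoc, ← hV.fromSpecStalk_eq_fromSpecStalk hy,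
      IsAffineOpen.fromSpecStalk, ← Spec.map_comp_assoc, specTo, ← Spec.map_comp_assoc]
    congr 2
    ext v
    exact (RingHom.congr_fun hcomp (germ v)).symm
  rw [ht]
  set p := pullback.snd f (specTo hV φ)
  haveI : IsClosedImmersion s := IsClosedImmersion.spec_of_surjective _ hρ
  let e : pullback f (s ≫ specTo hV φ) ≅ pullback p s :=
    (pullbackLeftPullbackSndIso f (specTo hV φ) s).symm
  rw [e.hom.homeomorph.connectedSpace_iff]
  let tg : B →+* Γ(bcX f hV φ, ⊤) := Coh.toGlobal (bcX f hV φ ↘ Spec (CommRingCat.of B))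
  haveI hiso : IsIso (CommRingCat.ofHom tg : CommRingCat.of B ⟶ Γ(bcX f hV φ, ⊤)) :=
    (isPushout_bc f hV φ hφ).isIso_inr_of_isIso
  have hbij : Function.Bijective tg :=
    ConcreteCategory.bijective_of_isIso (CommRingCat.ofHom tg : CommRingCat.of B ⟶ Γ(bcX f hV φ, ⊤))
  have hne : Nonempty (bcX f hV φ) := by
    by_contra h
    haveI : IsEmpty (bcX f hV φ) := not_nonempty_iff.mp h
    have : Subsingleton Γ(bcX f hV φ, ⊤) := inferInstance
    exact one_ne_zero (hbij.1 (Subsingleton.elim (tg 1) (tg 0)))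
  have hc := isConnected_closedFibre (B := B) (X := bcX f hV φ) hne hbij.2
  have hr : Set.range (pullback.fst p s).base = p.base ⁻¹' {IsLocalRing.closedPoint B} := by
    refine (Scheme.Pullback.range_fst (f := p) (g := s)).trans (congrArg (p.base ⁻¹' ·) ?_)
    show Set.range (PrimeSpectrum.comap ρ) = _
    rw [range_comap_of_surjective _ _ hρ, hker]
    ext x
    refine ⟨fun hx => PrimeSpectrum.ext ((IsLocalRing.le_maximalIdeal x.isPrime.ne_top).antisymm hx), ?_⟩
    rintro rfl
    exact le_refl (IsLocalRing.maximalIdeal B)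
  rw [(pullback.fst p s).isClosedEmbedding.isEmbedding.toHomeomorph.connectedSpace_iff,
    ← isConnected_iff_connectedSpace, hr]
  exact hc

theorem geometricallyConnected_of_isIso_app (hf : ∀ U : Y.Opens, IsIso (f.app U)) : GeometricallyConnected f := by
  refine ⟨geometrically_iff_of_isClosedUnderIsomorphisms.mpr fun K _ t => ?_⟩
  obtain ⟨⟨y, ψ⟩, rfl⟩ := (Scheme.SpecToEquivOfField _ _).symm.surjective t
  obtain ⟨_, ⟨V, hV, rfl⟩, hy, -⟩ :=
    Y.isBasis_affineOpens.exists_subset_of_mem_open (Set.mem_univ y) isOpen_univ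
  exact connectedSpace_pullback f hV (hf V) hy K ψ

end Groth.Agent.FormalFun
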