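import Groth.Agent.FormalFun.Sep
import Groth.Agent.S2422
import Groth.Agent.SchPoints.Basic
import Groth.Prelude.Def_ega3

/-!
# Connected components of fibres and maximal ideals of integral closures

* `exists_separating_of_connectedComponent_ne`: points in different components of a fibre are separated by a section.
* `exists_maximal_of_point`: a point over `y` gives a maximal ideal of the integral closure of `O_y` in `R(X)`.
* `exists_injective_components`: components of the fibre inject into these maximal ideals.
-/

set_option autoImplicit false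

universe u

open CategoryTheory Limits AlgebraicGeometry Opposite TopologicalSpace
open Groth.Agent

noncomputable section

namespace Groth.Agent.FormalFun

variable {X Y : Scheme.{u}} (f : X ⟶ Y)

section Separate

variable [IsProper f] [IsLocallyNoetherian Y]

theorem noetherianSpace_fibre (y : Y) : NoetherianSpace ↥(f.fiber y) := by
  haveI : LocallyOfFiniteType (f.fiberToSpecResidueField y) :=
    inferInstanceAs (LocallyOfFiniteType (pullback.snd f (Y.fromSpecResidueField y)))
  haveI : QuasiCompact (f.fiberToSpecResidueField y) :=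
    inferInstanceAs (QuasiCompact (pullback.snd f (Y.fromSpecResidueField y)))
  haveI : IsLocallyNoetherian (f.fiber y) := LocallyOfFiniteType.isLocallyNoetherian (f.fiberToSpecResidueField y)
  haveI : CompactSpace ↥(f.fiber y) := QuasiCompact.compactSpace_of_compactSpace (f.fiberToSpecResidueField y)
  haveI : AlgebraicGeometry.IsNoetherian (f.fiber y) := {}
  infer_instance

theorem exists_separating_of_connectedComponent_ne {V : Y.Opens} (hV : IsAffineOpen V) {y : Y} (hy : y ∈ V)
    {x x' : f.fiber y} (hne : connectedComponent x ≠ connectedComponent x') :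
    ∃ b : Γ(X, f ⁻¹ᵁ V), f.fiberι y x ∈ X.basicOpen b ∧ f.fiberι y x' ∉ X.basicOpen b := by
  haveI := noetherianSpace_fibre f y
  have hopen : IsOpen (connectedComponent x) := SchPoints.isOpen_connectedComponent_of_noetherian x
  let e : f.fiber y → X := (f.fiberι y).base
  have hemb : Topology.IsEmbedding e := (f.fiberι y).isEmbedding
  obtain ⟨C, hC, hCe⟩ : ∃ C : Set X, IsClosed C ∧ e ⁻¹' C = connectedComponent x :=
    hemb.isInducing.isClosed_iff.mp isClosed_connectedComponent
  obtain ⟨C', hC', hCe'⟩ : ∃ C : Set X, IsClosed C ∧ e ⁻¹' C = (connectedComponent x)ᶜ :=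
    hemb.isInducing.isClosed_iff.mp hopen.isClosed_compl
  have hrange : Set.range e = f.base ⁻¹' {y} := f.range_fiberι y
  obtain ⟨b, hb⟩ := exists_section_separating f hV hy hC hC'
    (fun z hz hzC hzC' => by
      obtain ⟨w, rfl⟩ : ∃ w, e w = z := (hrange.symm ▸ hz : z ∈ Set.range e)
      exact (hCe' ▸ hzC' : w ∈ (connectedComponent x)ᶜ) (hCe ▸ hzC))
    (fun z hz => by
      obtain ⟨w, rfl⟩ : ∃ w, e w = z := (hrange.symm ▸ hz : z ∈ Set.range e)
      by_cases hw : w ∈ connectedComponent x
      · exact Or.inl (hCe.symm ▸ hw : w ∈ e ⁻¹' C)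
      · exact Or.inr (hCe'.symm ▸ hw : w ∈ e ⁻¹' C'))
  have hFx : ∀ w, f.base (e w) = y := fun w => (hrange ▸ ⟨w, rfl⟩ : e w ∈ f.base ⁻¹' {y})
  refine ⟨b, (hb _ (hFx x)).mpr (hCe.symm ▸ mem_connectedComponent : x ∈ e ⁻¹' C), fun h => ?_⟩
  have : x' ∈ connectedComponent x := hCe ▸ (hb _ (hFx x')).mp h
  exact hne (connectedComponent_eq this)

end Separate

section Maximal

variable [IsIntegral X]

theorem genericPoint_mem_of_mem {U : X.Opens} {x : X} (hx : x ∈ U) : genericPoint X ∈ U :=
  ((genericPoint_spec X).specializes trivial).mem_open U.isOpen hx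

theorem stalkToFunctionField_eq {y : Y} (h : f.base (genericPoint X) ⤳ y) {x : X} (hx : f.base x = y)
    (r : Y.presheaf.stalk y) :
    CohIII.stalkToFunctionField f y h r =
      algebraMap (X.presheaf.stalk x) X.functionField
        ((f.stalkMap x).hom ((Y.presheaf.stalkSpecializes (specializes_of_eq hx)).hom r)) := by
  subst hx
  rw [show (Y.presheaf.stalkSpecializes (specializes_of_eq rfl : f.base x ⤳ f.base x)).hom r = r from
    CategoryTheory.ConcreteCategory.congr_hom (Y.presheaf.stalkSpecializes_refl _) r]
  exact Scheme.Hom.stalkSpecializes_stalkMap_apply f (genericPoint X) x ((genericPoint_spec X).specializes trivial) r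

/-- A point over `y` gives a maximal ideal of the integral closure. -/
theorem exists_maximal_of_point {y : Y} (h : f.base (genericPoint X) ⤳ y) {x : X} (hx : f.base x = y) :
    ∃ Q : Ideal (CohIII.integralClosureStalk f y h), Q.IsMaximal ∧
      ∀ (U : X.Opens) (hxU : x ∈ U) (b : Γ(X, U))
        (hb : X.presheaf.germ U (genericPoint X) (genericPoint_mem_of_mem hxU) b ∈ CohIII.integralClosureStalk f y h),
        (∃ P : Polynomial (Y.presheaf.stalk y), P.Monic ∧
          Polynomial.eval₂ ((f.stalkMap x).hom.comp (Y.presheaf.stalkSpecializes (specializes_of_eq hx)).hom)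
            (X.presheaf.germ U x hxU b) P = 0) →
        (⟨_, hb⟩ ∈ Q ↔ x ∉ X.basicOpen b) := by
  let R := Y.presheaf.stalk y
  let S := X.presheaf.stalk x
  let K := X.functionField
  let sm : R →+* S := (f.stalkMap x).hom.comp (Y.presheaf.stalkSpecializes (specializes_of_eq hx)).hom
  letI : Algebra R K := (CohIII.stalkToFunctionField f y h).toAlgebra
  letI : Algebra R S := sm.toAlgebra
  haveI : IsScalarTower R S K := IsScalarTower.of_algebraMap_eq fun r => stalkToFunctionField_eq f h hx r
  let D := integralClosure R S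
  let C := integralClosure R K
  let j : D →ₐ[R] C := (IsScalarTower.toAlgHom R S K).mapIntegralClosure
  have hj : ∀ d, ((j d : C) : K) = algebraMap S K d := fun d => rfl
  letI : Algebra D C := j.toRingHom.toAlgebra
  haveI : IsScalarTower R D C := IsScalarTower.of_algebraMap_eq fun r => (j.commutes r).symm
  haveI : Algebra.IsIntegral R C := inferInstance
  haveI : Algebra.IsIntegral D C := Algebra.IsIntegral.tower_top R
  let P : Ideal D := (IsLocalRing.maximalIdeal S).comap D.val.toRingHom
  haveI : P.IsPrime := Ideal.IsPrime.comap _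
  obtain ⟨Q, -, hQ, hQP⟩ := Ideal.exists_ideal_over_prime_of_isIntegral P (⊥ : Ideal C) (by
    intro d hd
    have h0 : algebraMap S K (d : S) = 0 := (hj d).symm.trans (congrArg Subtype.val (Ideal.mem_bot.mp hd))
    have h1 : (d : S) = 0 := (injective_iff_map_eq_zero _).mp (IsFractionRing.injective S K) _ h0
    show (d : S) ∈ IsLocalRing.maximalIdeal S
    rw [h1]
    exact zero_mem _)
  haveI := hQ
  have hmax : Q.IsMaximal := by
    haveI : IsLocalHom sm := by
      subst hx
      refine ⟨fun r hr => ?_⟩
      have : IsUnit ((f.stalkMap x).hom r) := by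
        rw [← show (Y.presheaf.stalkSpecializes (specializes_of_eq rfl : f.base x ⤳ f.base x)).hom r = r from
          CategoryTheory.ConcreteCategory.congr_hom (Y.presheaf.stalkSpecializes_refl _) r]
        exact hr
      exact isUnit_of_map_unit _ r this
    refine Ideal.isMaximal_of_isIntegral_of_isMaximal_comap (R := R) Q ?_
    have e : Q.comap (algebraMap R C) = IsLocalRing.maximalIdeal R := by
      rw [show algebraMap R C = (algebraMap D C).comp (algebraMap R D) from IsScalarTower.algebraMap_eq R D C,
        ← Ideal.comap_comap, hQP]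
      show Ideal.comap (algebraMap R D) (Ideal.comap D.val.toRingHom (IsLocalRing.maximalIdeal S)) = _
      rw [Ideal.comap_comap]
      exact IsLocalRing.maximalIdeal_comap sm
    rw [e]
    infer_instance
  refine ⟨Q, hmax, fun U hxU b hb hint => ?_⟩
  let d : D := ⟨X.presheaf.germ U x hxU b, hint⟩
  have hd : algebraMap D C d = ⟨_, hb⟩ := Subtype.ext (by
    show algebraMap S K (X.presheaf.germ U x hxU b) = _
    show (X.presheaf.stalkSpecializes _).hom _ = _
    erw [TopCat.Presheaf.germ_stalkSpecializes_apply])
  show (⟨_, hb⟩ : C) ∈ Q ↔ _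
  rw [← hd, ← Ideal.mem_comap, hQP, X.mem_basicOpen b x hxU]
  exact IsLocalRing.mem_maximalIdeal _

variable [IsIntegral Y] [IsProper f] [IsLocallyNoetherian Y]

/-- Components of the fibre inject into the maximal ideals of the integral closure. -/
theorem exists_injective_components {y : Y} (h : f.base (genericPoint X) ⤳ y) :
    ∃ F : _root_.ConnectedComponents ↥(f.fiber y) → MaximalSpectrum (CohIII.integralClosureStalk f y h),
      Function.Injective F := by
  obtain ⟨_, ⟨V, hV, rfl⟩, hy, -⟩ := Y.isBasis_affineOpens.exists_subset_of_mem_open (Set.mem_univ y) isOpen_univ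
  have hfib : ∀ w : f.fiber y, f.base (f.fiberι y w) = y := fun w =>
    ((f.range_fiberι y).le ⟨w, rfl⟩ : f.fiberι y w ∈ f.base ⁻¹' {y})
  choose Q hQ hQiff using fun w : f.fiber y => exists_maximal_of_point f h (hfib w)
  obtain ⟨rep, hrep⟩ := (ConnectedComponents.surjective_coe (α := ↥(f.fiber y))).hasRightInverse
  refine ⟨fun c => ⟨Q (rep c), hQ (rep c)⟩, fun c c' hcc => ?_⟩
  by_contra hne
  have hne' : connectedComponent (rep c) ≠ connectedComponent (rep c') := fun he =>
    hne ((hrep c).symm.trans ((ConnectedComponents.coe_eq_coe.mpr he).trans (hrep c')))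
  obtain ⟨b, hb, hb'⟩ := exists_separating_of_connectedComponent_ne f hV hy hne'
  obtain ⟨P, hP, hPb⟩ := S2422.isIntegral_app_of_universallyClosed f hV b
  have hmem : ∀ w : f.fiber y, f.fiberι y w ∈ f ⁻¹ᵁ V := fun w => by
    show f.base (f.fiberι y w) ∈ V
    rw [hfib]; exact hy
  have hint : ∀ w : f.fiber y, ∃ P' : Polynomial (Y.presheaf.stalk y), P'.Monic ∧
      Polynomial.eval₂ ((f.stalkMap (f.fiberι y w)).hom.comp (Y.presheaf.stalkSpecializes (specializes_of_eq (hfib w))).hom)
        (X.presheaf.germ (f ⁻¹ᵁ V) (f.fiberι y w) (hmem w) b) P' = 0 := fun w => by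
    refine ⟨P.map (Y.presheaf.germ V y hy).hom, hP.map _, ?_⟩
    rw [Polynomial.eval₂_map]
    have e : ((f.stalkMap (f.fiberι y w)).hom.comp (Y.presheaf.stalkSpecializes (specializes_of_eq (hfib w))).hom).comp
        (Y.presheaf.germ V y hy).hom = (X.presheaf.germ (f ⁻¹ᵁ V) (f.fiberι y w) (hmem w)).hom.comp (f.app V).hom := by
      ext a
      show (f.stalkMap (f.fiberι y w)).hom ((Y.presheaf.stalkSpecializes _).hom ((Y.presheaf.germ V y hy).hom a)) = _
      erw [TopCat.Presheaf.germ_stalkSpecializes_apply]
      exact Scheme.Hom.germ_stalkMap_apply f V _ _ a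
    rw [e, ← Polynomial.hom_eval₂, hPb, map_zero]
  have hC : X.presheaf.germ (f ⁻¹ᵁ V) (genericPoint X) (genericPoint_mem_of_mem (hmem (rep c))) b ∈
      CohIII.integralClosureStalk f y h := by
    obtain ⟨P', hP', hPb'⟩ := hint (rep c)
    letI : Algebra (Y.presheaf.stalk y) X.functionField := (CohIII.stalkToFunctionField f y h).toAlgebra
    refine ⟨P', hP', ?_⟩
    have e : algebraMap (Y.presheaf.stalk y) X.functionField = (algebraMap (X.presheaf.stalk (f.fiberι y (rep c))) X.functionField).comp
        ((f.stalkMap _).hom.comp (Y.presheaf.stalkSpecializes (specializes_of_eq (hfib (rep c)))).hom) :=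
      RingHom.ext fun r => stalkToFunctionField_eq f h (hfib (rep c)) r
    have e2 : X.presheaf.germ (f ⁻¹ᵁ V) (genericPoint X) (genericPoint_mem_of_mem (hmem (rep c))) b =
        algebraMap (X.presheaf.stalk (f.fiberι y (rep c))) X.functionField (X.presheaf.germ (f ⁻¹ᵁ V) _ (hmem (rep c)) b) := by
      show _ = (X.presheaf.stalkSpecializes _).hom _
      erw [TopCat.Presheaf.germ_stalkSpecializes_apply]
    rw [e, e2, ← Polynomial.hom_eval₂, hPb', map_zero]
  have h1 := (hQiff (rep c) (f ⁻¹ᵁ V) (hmem _) b hC (hint _))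
  have h2 := (hQiff (rep c') (f ⁻¹ᵁ V) (hmem _) b hC (hint _))
  have eQ : Q (rep c) = Q (rep c') := congrArg MaximalSpectrum.asIdeal hcc
  rw [eQ] at h1
  exact ((h2.symm.trans h1).mp hb') hb

end Maximal

end Groth.Agent.FormalFun
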