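import Groth.Agent.CycLib.ModStalk
import Mathlib.Topology.Sheaves.Stalks

/-!
# A coherent module with zero stalk at a point is zero near that point
-/

set_option autoImplicit false

universe u

open CategoryTheory Limits AlgebraicGeometry Opposite TopologicalSpace

noncomputable section

namespace Groth.Agent.FormalFun

variable {X : Scheme.{u}} (M : X.Modules)

theorem section_eq_zero {U : X.Opens} (s : Γ(M, U))
    (h : ∀ x ∈ U, Subsingleton (M.presheaf.stalk x)) : s = 0 := by
  refine TopCat.Presheaf.section_ext (⟨M.presheaf, M.isSheaf⟩ : TopCat.Sheaf Ab X.toTopCat) U s 0 fun x hx => ?_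
  haveI := h x hx
  exact Subsingleton.elim (α := M.presheaf.stalk x) _ _

theorem isZero_restrict_of_stalks {U : X.Opens}
    (h : ∀ x ∈ U, Subsingleton (M.presheaf.stalk x)) : IsZero (M.restrict U.ι) := by
  rw [IsZero.iff_id_eq_zero]
  refine Scheme.Modules.hom_ext _ _ fun W => ?_
  ext s
  exact section_eq_zero M (U := U.ι ''ᵁ W) s fun x hx => h x (U.ι_image_le W hx)

theorem exists_nhd_isZero_restrict [M.IsQuasicoherent] (hM : Coh.IsCoh M) (y : X) (hy : Subsingleton (M.presheaf.stalk y)) :
    ∃ U : X.Opens, y ∈ U ∧ IsZero (M.restrict U.ι) := by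
  refine ⟨⟨_, (CycLib.isClosed_support M hM).isOpen_compl⟩, ?_, isZero_restrict_of_stalks M fun x hx => ?_⟩
  · exact fun h => not_nontrivial_iff_subsingleton.mpr hy h
  · exact not_nontrivial_iff_subsingleton.mp hx

end Groth.Agent.FormalFun
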