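import Groth.Agent.FormalFun.Powers
import Groth.Agent.ClUnit.Basic
import Groth.Agent.CycLib.DevClosedK0
import Groth.Agent.Adic.RestrictOpen
import Groth.Agent.IdealSh.Comap
import Groth.Agent.Props.KilledSub
import Groth.Agent.ProperFin.FinEx
import Groth.Agent.S5742

/-!
# A closed subscheme cut out by an ideal of the base
-/

set_option autoImplicit false

universe u

open CategoryTheory Limits AlgebraicGeometry Opposite TopologicalSpace
open Groth.Agent

noncomputable section

namespace Groth.Agent.FormalFun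

variable {A : Type u} [CommRing A] {X Z : Scheme.{u}} [X.Over (Spec (CommRingCat.of A))]

/-- Pushforward commutes with multiplication by the base. -/
theorem push_map_smulMod [Z.Over (Spec (CommRingCat.of A))] (i : Z ⟶ X)
    (h : i ≫ (X ↘ Spec (CommRingCat.of A)) = Z ↘ Spec (CommRingCat.of A)) (M : Z.Modules) (a : A) :
    (Scheme.Modules.pushforward i).map (Formal.smulMod A M a) =
      Formal.smulMod A ((Scheme.Modules.pushforward i).obj M) a := by
  refine Scheme.Modules.hom_ext _ _ fun U => ?_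
  ext x
  refine Eq.trans ?_ ((smulMod_app _ a U x).trans (ProperFin.push_smul' i M _ _)).symm
  show (Formal.smulMod A M a).app (i ⁻¹ᵁ U) x = _
  refine (smulMod_app (A := A) M a (i ⁻¹ᵁ U) x).trans
    (congrArg (fun r => r • (show Γ(M, i ⁻¹ᵁ U) from x)) ?_)
  have n := congr($(i.naturality (homOfLE (le_top : U ≤ ⊤)).op) (Coh.toGlobal (X ↘ Spec (CommRingCat.of A)) a))
  refine Eq.trans ?_ n.symm
  show Z.presheaf.map _ (Coh.toGlobal (Z ↘ Spec (CommRingCat.of A)) a) = Z.presheaf.map _ (i.appTop (Coh.toGlobal (X ↘ Spec (CommRingCat.of A)) a))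
  refine congrArg (fun s => Z.presheaf.map _ s) ?_
  rw [← h]
  exact (congr($(Scheme.Hom.comp_appTop i (X ↘ Spec (CommRingCat.of A))) ((Scheme.ΓSpecIso (CommRingCat.of A)).inv a)))

/-- A morphism is cut out by `I`: the base kills `I` on the source, and the ideal is generated by it. -/
structure IsCut (i : Z ⟶ X) (I : Ideal A) : Prop where
  zero : ∀ a ∈ I, i.appTop (Coh.toGlobal (X ↘ Spec (CommRingCat.of A)) a) = 0
  le : ∀ U : X.affineOpens, i.ker.ideal U ≤ I.map (gA (A := A) U.1)

theorem isCut_of_isPullback {A : Type u} [CommRing A] {X Z : Scheme.{u}} [X.Over (Spec (CommRingCat.of A))]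
    (i : Z ⟶ X) (I : Ideal A) (n : ℕ) {p : Z ⟶ Spec (CommRingCat.of (A ⧸ I ^ (n + 1)))}
    (h : IsPullback i p (X ↘ Spec (CommRingCat.of A)) (CohB1.specQuot I n)) : IsCut i (I ^ (n + 1)) := by
  haveI : IsClosedImmersion (CohB1.specQuot I n) :=
    IsClosedImmersion.spec_of_surjective _ Ideal.Quotient.mk_surjective
  refine ⟨fun a ha => ?_, fun U => ?_⟩
  · show i.appTop ((X ↘ Spec (CommRingCat.of A)).appTop ((Scheme.ΓSpecIso (CommRingCat.of A)).inv a)) = 0
    refine (congr($(Scheme.Hom.comp_appTop i (X ↘ Spec (CommRingCat.of A))) ((Scheme.ΓSpecIso (CommRingCat.of A)).inv a))).symm.trans ?_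
    rw [h.w]
    refine (congr($(Scheme.Hom.comp_appTop p (CohB1.specQuot I n)) ((Scheme.ΓSpecIso (CommRingCat.of A)).inv a))).trans ?_
    exact (congrArg p.appTop (S5742.specQuot_kills I n ha)).trans (map_zero _)
  · rw [Adic.RestrictOpen.ker_eq_comap h,
      IdealSh.Comap.ideal_comap _ _ ⟨⊤, isAffineOpen_top _⟩ U le_top,
      Ideal.map_le_iff_le_comap]
    intro s hs
    rw [Scheme.Hom.ker_apply, RingHom.mem_ker] at hs
    obtain ⟨a, rfl⟩ := (ConcreteCategory.bijective_of_isIso (Scheme.ΓSpecIso (CommRingCat.of A)).inv).2 s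
    have ha : a ∈ I ^ (n + 1) := by
      have e := congr($(Scheme.ΓSpecIso_inv_naturality (CommRingCat.ofHom (Ideal.Quotient.mk (I ^ (n + 1))))) a)
      have h0 : (Scheme.ΓSpecIso (CommRingCat.of (A ⧸ I ^ (n + 1)))).inv (Ideal.Quotient.mk (I ^ (n + 1)) a) = 0 :=
        e.trans hs
      exact Ideal.Quotient.eq_zero_iff_mem.mp
        ((ConcreteCategory.bijective_of_isIso (Scheme.ΓSpecIso (CommRingCat.of (A ⧸ I ^ (n + 1)))).inv).1
          (h0.trans (map_zero _).symm))
    refine Ideal.mem_comap.2 ?_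
    have e : (X ↘ Spec (CommRingCat.of A)).appLE ⊤ U.1 le_top ((Scheme.ΓSpecIso (CommRingCat.of A)).inv a) =
        gA (A := A) U.1 a := rfl
    rw [show ((X ↘ Spec (CommRingCat.of A)).appLE ⊤ U.1 le_top).hom ((Scheme.ΓSpecIso (CommRingCat.of A)).inv a) =
      gA (A := A) U.1 a from e]
    exact Ideal.mem_map_of_mem _ ha

variable {i : Z ⟶ X} {I : Ideal A}

theorem IsCut.push_smulMod (h : IsCut i I) {a : A} (ha : a ∈ I) (M : Z.Modules) :
    Formal.smulMod A ((Scheme.Modules.pushforward i).obj M) a = 0 := by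
  refine Scheme.Modules.hom_ext _ _ fun U => ?_
  ext x
  refine (smulMod_app _ a U x).trans ((ProperFin.push_smul' i M _ _).trans ?_)
  have e : i.app U (gA (A := A) U a) = 0 := by
    have n := congr($(i.naturality (homOfLE (le_top : U ≤ ⊤)).op) (Coh.toGlobal (X ↘ Spec (CommRingCat.of A)) a))
    refine n.trans ?_
    show (Z.presheaf.map _) (i.appTop (Coh.toGlobal (X ↘ Spec (CommRingCat.of A)) a)) = 0
    rw [h.zero a ha, map_zero]
  exact (congrArg (fun r => r • (show Γ(M, i ⁻¹ᵁ U) from x)) e).trans (zero_smul _ _)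

variable [IsClosedImmersion i]

/-- The unit is an isomorphism on modules killed by `I`. -/
theorem IsCut.isIso_unit (h : IsCut i I) (M : X.Modules) (hM : ∀ a ∈ I, Formal.smulMod A M a = 0) :
    IsIso ((Scheme.Modules.pullbackPushforwardAdjunction i).unit.app M) := by
  rw [ClUnit.isIso_unit_iff]
  intro U b hb s
  have hb' := h.le U hb
  clear hb
  revert s
  rw [Ideal.map] at hb'
  induction hb' using Submodule.span_induction with
  | mem y hy =>
    intro s
    obtain ⟨a, ha, rfl⟩ := hy
    rw [← smulMod_app, hM a ha]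
    rfl
  | zero => exact fun s => zero_smul _ _
  | add y y' _ _ h₁ h₂ => intro s; rw [add_smul, h₁ s, h₂ s, add_zero]
  | smul c y _ h₁ => intro s; rw [smul_eq_mul, mul_comm, mul_smul, h₁]

/-- `G/IG ≅ i_* i^* G`. -/
theorem IsCut.exists_iso_unit {n : ℕ} (h : IsCut i (I ^ n)) (G : X.Modules) :
    ∃ θ : Formal.modPow I n G ≅ (Scheme.Modules.pushforward i).obj ((Scheme.Modules.pullback i).obj G),
      Formal.modPowπ I n G ≫ θ.hom = (Scheme.Modules.pullbackPushforwardAdjunction i).unit.app G := by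
  let adj := Scheme.Modules.pullbackPushforwardAdjunction i
  let η := adj.unit
  let M := Formal.modPow I n G
  let π₁ := Formal.modPowπ I n G
  haveI : Epi π₁ := inferInstanceAs (Epi (cokernel.π _))
  have hkill : Formal.smulFamily (I ^ n) G ≫ η.app G = 0 := by
    apply Sigma.hom_ext
    intro a
    rw [comp_zero, ← Category.assoc, Formal.smulFamily, Sigma.ι_desc]
    exact (smulMod_natural (η.app G) a.1).trans
      ((congrArg (_ ≫ ·) (h.push_smulMod a.2 _)).trans comp_zero)
  have hM : ∀ a ∈ I ^ n, Formal.smulMod A M a = 0 := fun a ha => by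
    refine (cancel_epi π₁).1 ((smulMod_natural π₁ a).symm.trans ?_)
    exact (smulMod_comp_π G ha).trans comp_zero.symm
  haveI hiso : IsIso (η.app M) := h.isIso_unit M hM
  let θ : M ⟶ (Scheme.Modules.pushforward i).obj ((Scheme.Modules.pullback i).obj G) :=
    cokernel.desc _ (η.app G) hkill
  have hθ : π₁ ≫ θ = η.app G := cokernel.π_desc _ _ _
  haveI : Epi ((Scheme.Modules.pullback i).map π₁) :=
    (Functor.preservesEpimorphisms_of_adjunction adj).preserves π₁
  have hret : (Scheme.Modules.pullback i).map π₁ ≫ (adj.homEquiv _ _).symm θ = 𝟙 _ := by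
    rw [← Adjunction.homEquiv_naturality_left_symm, hθ, Equiv.symm_apply_eq, Adjunction.homEquiv_id]
  haveI : IsSplitMono ((Scheme.Modules.pullback i).map π₁) := IsSplitMono.mk' ⟨_, hret⟩
  haveI : IsIso ((Scheme.Modules.pullback i).map π₁) := isIso_of_mono_of_epi _
  let g := (Scheme.Modules.pushforward i).map ((Scheme.Modules.pullback i).map π₁)
  haveI : IsIso g := Functor.map_isIso _ _
  have h1 : θ ≫ g = η.app M := by
    refine (cancel_epi π₁).1 ?_
    rw [← Category.assoc, hθ]
    exact (η.naturality π₁).symm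
  have h3 : θ = η.app M ≫ inv g := by rw [← h1, Category.assoc, IsIso.hom_inv_id, Category.comp_id]
  haveI : IsIso θ := by rw [h3]; infer_instance
  exact ⟨asIso θ, hθ⟩

end Groth.Agent.FormalFun
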