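import Groth.Agent.FormalFun.Connected

/-!
# Sections of the structure sheaf of a proper scheme are finite over the base

* `finite_app`: for `f : X ⟶ Y` proper, `Y` locally Noetherian, `V` affine, `Γ(Y, V) → Γ(X, f⁻¹V)` is finite.
-/

set_option autoImplicit false

universe u

open CategoryTheory Limits AlgebraicGeometry Opposite TopologicalSpace
open Groth.Agent

noncomputable section

namespace Groth.Agent.FormalFun

theorem finite_toGlobal (A : Type u) [CommRing A] [IsNoetherianRing A] (X : Scheme.{u})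
    [X.Over (Spec (CommRingCat.of A))] [IsProper (X ↘ Spec (CommRingCat.of A))] :
    (show A →+* Γ(X, ⊤) from Coh.toGlobal (X ↘ Spec (CommRingCat.of A))).Finite := by
  let tg : A →+* Γ(X, ⊤) := Coh.toGlobal (X ↘ Spec (CommRingCat.of A))
  letI : Algebra A Γ(X, ⊤) := tg.toAlgebra
  haveI : Module.Finite A (Coh.HH X (Coh.structureModule X) 0) :=
    finiteCoh_of_proper A X _ (ProperFin.isCoh_structureModule X) 0
  let l : Coh.HH X (Coh.structureModule X) 0 →ₗ[A] Γ(X, ⊤) :=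
    { toFun := fun x => funOf ⊤ (Γ0 _ x)
      map_add' := fun x y => by rw [map_add]; rfl
      map_smul' := fun a x => by
        have h : Γ0 _ (a • x) = (Formal.smulMod A (Coh.structureModule X) a).app ⊤ (Γ0 _ x) := by
          rw [← hMap_smulMod, ← H_map_eq, Γ0_map]
        show funOf ⊤ (Γ0 _ (a • x)) = tg a * funOf ⊤ (Γ0 _ x)
        rw [h]
        show gA (A := A) ⊤ a * funOf ⊤ (Γ0 _ x) = _
        congr 1
        show X.presheaf.map (𝟙 (op (⊤ : X.Opens))) (tg a) = _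
        rw [X.presheaf.map_id]
        rfl }
  exact Module.Finite.of_surjective l fun y => ⟨(Γ0 _).symm (secOf ⊤ y), (Γ0 _).apply_symm_apply _⟩

theorem finite_app {X Y : Scheme.{u}} (f : X ⟶ Y) [IsProper f] [IsLocallyNoetherian Y] {V : Y.Opens}
    (hV : IsAffineOpen V) : (f.app V).hom.Finite := by
  haveI : IsNoetherianRing Γ(Y, V) := IsLocallyNoetherian.component_noetherian ⟨V, hV⟩
  letI : (↑(f ⁻¹ᵁ V) : Scheme).Over (Spec (CommRingCat.of Γ(Y, V))) := ⟨(f ∣_ V) ≫ hV.isoSpec.hom⟩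
  haveI : IsProper ((↑(f ⁻¹ᵁ V) : Scheme) ↘ Spec (CommRingCat.of Γ(Y, V))) :=
    inferInstanceAs (IsProper ((f ∣_ V) ≫ hV.isoSpec.hom))
  have h : (show Γ(Y, V) →+* Γ((↑(f ⁻¹ᵁ V) : Scheme), ⊤) from
      Coh.toGlobal ((↑(f ⁻¹ᵁ V) : Scheme) ↘ Spec (CommRingCat.of Γ(Y, V)))).Finite :=
    finite_toGlobal Γ(Y, V) (↑(f ⁻¹ᵁ V) : Scheme)
  have h1 : ((f ∣_ V).appTop).hom.Finite := by
    refine RingHom.Finite.of_comp_finite (f := ((Scheme.ΓSpecIso Γ(Y, V)).inv ≫ hV.isoSpec.hom.appTop).hom) ?_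
    exact h
  rw [morphismRestrict_appTop] at h1
  erw [CommRingCat.hom_comp] at h1
  have key : ∀ W, W = V → (f.app W).hom.Finite → (f.app V).hom.Finite := by rintro W rfl hW; exact hW
  refine key _ V.ι_image_top ?_
  let e : Γ(X, f ⁻¹ᵁ (V.ι ''ᵁ ⊤)) ≅ Γ(X, (f ⁻¹ᵁ V).ι ''ᵁ ((f ∣_ V) ⁻¹ᵁ ⊤)) :=
    X.presheaf.mapIso (eqToIso (image_morphismRestrict_preimage f V ⊤)).op
  have h2 := (RingHom.Finite.of_surjective e.inv.hom
    (ConcreteCategory.bijective_of_isIso e.inv).2).comp h1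
  refine (congrArg RingHom.Finite ?_).mp h2
  ext z
  exact Iso.hom_inv_id_apply e (f.app _ z)

end Groth.Agent.FormalFun
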