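import Groth.Agent.FormalFun.GrCoh
import Groth.Prelude.Def_Formal2
import Groth.Prelude.Def_ega3

/-!
# The modules `I^n M` and the Rees finiteness of their cohomology

* `ker_iff`: on an affine open `M ⟶ M/JM` has kernel `J Γ(U, M)`.
* `mul`: multiplication maps `I^n M ⟶ I^m M`.
* `powSys`: `⊕ I^n M` is a coherent graded system.
* `exists_gen`: families of submodules of `H^p(X, I^n M)` stable under `I` are eventually generated.
-/

set_option autoImplicit false

universe u

open CategoryTheory Limits AlgebraicGeometry Opposite TopologicalSpace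
open Groth.Agent

noncomputable section

namespace Groth.Agent.FormalFun

variable {A : Type u} [CommRing A] {X : Scheme.{u}} [X.Over (Spec (CommRingCat.of A))]

theorem abMap_smulMod (M : X.Modules) (a : A) :
    CohLin.abMap (Formal.smulMod A M a) = Coh.smulAb M (Coh.toGlobal (X ↘ Spec (CommRingCat.of A)) a) := rfl

theorem hMap_smulMod (M : X.Modules) (a : A) (p : ℕ) (x : Coh.HH X M p) :
    CohLin.hMap (Formal.smulMod A M a) p x = a • x := rfl

/-- The base acts on sections through this map. -/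
def gA (U : X.Opens) : A →+* Γ(X, U) :=
  (Coh.resTop X (op U)).comp (Coh.toGlobal (X ↘ Spec (CommRingCat.of A)))

theorem smulMod_app (M : X.Modules) (a : A) (U : X.Opens) (x : Γ(M, U)) :
    (Formal.smulMod A M a).app U x = gA (A := A) U a • x := rfl

theorem smulMod_natural {M N : X.Modules} (φ : M ⟶ N) (a : A) :
    Formal.smulMod A M a ≫ φ = φ ≫ Formal.smulMod A N a := by
  apply Scheme.Modules.hom_ext
  intro U
  ext x
  exact Scheme.Modules.Hom.app_smul φ (gA (A := A) U a) x

theorem smulMod_add (M : X.Modules) (a b : A) :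
    Formal.smulMod A M (a + b) = Formal.smulMod A M a + Formal.smulMod A M b := by
  apply Scheme.Modules.hom_ext
  intro U
  ext x
  show (Formal.smulMod A M (a + b)).app U x = (Formal.smulMod A M a).app U x + (Formal.smulMod A M b).app U x
  rw [smulMod_app, smulMod_app, smulMod_app, map_add, add_smul]

theorem smulMod_one (M : X.Modules) : Formal.smulMod A M 1 = 𝟙 M := by
  apply Scheme.Modules.hom_ext
  intro U
  ext x
  show (Formal.smulMod A M 1).app U x = x
  rw [smulMod_app, map_one, one_smul]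

theorem smulMod_zero (M : X.Modules) : Formal.smulMod A M 0 = 0 := by
  have h := smulMod_add (A := A) M 0 0
  rw [add_zero] at h
  simpa using h

theorem smulMod_comp_π {J : Ideal A} (M : X.Modules) {a : A} (ha : a ∈ J) :
    Formal.smulMod A M a ≫ cokernel.π (Formal.smulFamily J M) = 0 := by
  have h := Sigma.ι (fun _ : J => M) ⟨a, ha⟩ ≫= cokernel.condition (Formal.smulFamily J M)
  rw [comp_zero, ← Category.assoc, Formal.smulFamily, Sigma.ι_desc] at h
  exact h

section Combination

variable {κ : Type u} [Fintype κ] (a : κ → A) (M : X.Modules)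

/-- `(y_k) ↦ ∑ a_k y_k`. -/
def combo : (⨁ fun _ : κ => M) ⟶ M := biproduct.desc fun k => Formal.smulMod A M (a k)

instance [M.IsQuasicoherent] : (⨁ fun _ : κ => M).IsQuasicoherent :=
  QCoh.isQuasicoherent_of_iso (biproduct.isoCoproduct (fun _ : κ => M)).symm

theorem ker_iff [M.IsQuasicoherent] {J : Ideal A} (hJ : J = Ideal.span (Set.range a)) {U : X.Opens}
    (hU : IsAffineOpen U) (x : Γ(M, U)) :
    (cokernel.π (Formal.smulFamily J M)).app U x = 0 ↔
      ∃ y : κ → Γ(M, U), x = ∑ k, (Formal.smulMod A M (a k)).app U (y k) := by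
  classical
  constructor
  · intro hx
    have hcomp : Formal.smulFamily J M ≫ cokernel.π (combo a M) = 0 := by
      have key : ∀ b ∈ Ideal.span (Set.range a), Formal.smulMod A M b ≫ cokernel.π (combo a M) = 0 := by
        intro b hb
        induction hb using Submodule.span_induction with
        | mem b hb =>
          obtain ⟨k, rfl⟩ := hb
          rw [show Formal.smulMod A M (a k) = biproduct.ι (fun _ : κ => M) k ≫ combo a M from by rw [combo, biproduct.ι_desc],
            Category.assoc, cokernel.condition, comp_zero]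
        | zero => rw [smulMod_zero, zero_comp]
        | add b c _ _ hb hc => rw [smulMod_add, Preadditive.add_comp, hb, hc, add_zero]
        | smul c b _ hb =>
          rw [smul_eq_mul, mul_comm, CohIII.smulMod_mul, Category.assoc, hb, comp_zero]
      apply Sigma.hom_ext
      intro b
      rw [comp_zero, ← Category.assoc, Formal.smulFamily, Sigma.ι_desc]
      exact key _ (hJ ▸ b.2)
    have h1 : (cokernel.π (combo a M)).app U x = 0 := by
      rw [← cokernel.π_desc (Formal.smulFamily J M) (cokernel.π (combo a M)) hcomp, app_comp, hx, map_zero]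
    obtain ⟨y', hy'⟩ := QCoh.exists_app_eq_of_app_eq_zero
      (ShortComplex.mk _ _ (kernel.condition (cokernel.π (combo a M))))
      (ShortComplex.exact_of_f_is_kernel _ (kernelIsKernel _)) U x h1
    haveI : (Abelian.image (combo a M)).IsQuasicoherent := QCoh.isQuasicoherent_image _
    obtain ⟨z, rfl⟩ := QCoh.app_surjective_of_epi (Abelian.factorThruImage (combo a M)) hU y'
    refine ⟨fun k => (biproduct.π (fun _ : κ => M) k).app U z, ?_⟩
    rw [← hy', ← app_comp]
    show (Abelian.factorThruImage (combo a M) ≫ Abelian.image.ι (combo a M)).app U z = _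
    rw [Abelian.image.fac]
    have hcombo : combo a M = ∑ k, biproduct.π (fun _ : κ => M) k ≫ Formal.smulMod A M (a k) := by
      apply biproduct.hom_ext'
      intro j
      rw [combo, biproduct.ι_desc, Preadditive.comp_sum, Finset.sum_eq_single j
        (fun k _ hk => by rw [biproduct.ι_π_ne_assoc _ (Ne.symm hk), zero_comp]) (by simp),
        biproduct.ι_π_self_assoc]
    rw [hcombo]
    refine (map_sum (AddMonoidHom.mk' (fun φ : (⨁ fun _ : κ => M) ⟶ M => φ.app U z) (fun φ ψ => rfl)) _ _).trans ?_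
    exact Finset.sum_congr rfl fun k _ => app_comp (biproduct.π (fun _ : κ => M) k) (Formal.smulMod A M (a k)) U z
  · rintro ⟨y, rfl⟩
    rw [map_sum]
    refine Finset.sum_eq_zero fun k _ => ?_
    rw [← app_comp, smulMod_comp_π M (hJ ▸ Ideal.subset_span ⟨k, rfl⟩)]
    rfl

end Combination

section Mul

variable (I : Ideal A) (M : X.Modules)

theorem mul_condition {n m : ℕ} (a : A) (ha : ∀ b ∈ I ^ n, a * b ∈ I ^ m) :
    (Formal2.idealPowModι I n M ≫ Formal.smulMod A M a) ≫ Formal.modPowπ I m M = 0 := by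
  have h : Formal.smulFamily (I ^ n) M ≫ Formal.smulMod A M a ≫ Formal.modPowπ I m M = 0 := by
    apply Sigma.hom_ext
    intro b
    rw [comp_zero, ← Category.assoc, Formal.smulFamily, Sigma.ι_desc, ← Category.assoc, ← CohIII.smulMod_mul]
    exact smulMod_comp_π M (ha b b.2)
  rw [Category.assoc, ← cokernel.π_desc _ _ h, ← Category.assoc]
  show (kernel.ι (Formal.modPowπ I n M) ≫ Formal.modPowπ I n M) ≫ _ = 0
  rw [kernel.condition, zero_comp]

/-- Multiplication by `a` from `I^n M` to `I^m M`, for `a I^n ⊆ I^m`. -/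
def mul {n m : ℕ} (a : A) (ha : ∀ b ∈ I ^ n, a * b ∈ I ^ m) :
    Formal2.idealPowMod I n M ⟶ Formal2.idealPowMod I m M :=
  kernel.lift _ _ (mul_condition I M a ha)

theorem mul_ι {n m : ℕ} (a : A) (ha : ∀ b ∈ I ^ n, a * b ∈ I ^ m) :
    mul I M a ha ≫ Formal2.idealPowModι I m M = Formal2.idealPowModι I n M ≫ Formal.smulMod A M a :=
  kernel.lift_ι _ _ _

theorem mul_comp {n m l : ℕ} (a b : A) (ha : ∀ c ∈ I ^ n, a * c ∈ I ^ m) (hb : ∀ c ∈ I ^ m, b * c ∈ I ^ l) :
    mul I M a ha ≫ mul I M b hb = mul I M (b * a) (fun c hc => mul_assoc b a c ▸ hb _ (ha c hc)) := by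
  rw [← cancel_mono (Formal2.idealPowModι I l M), Category.assoc, mul_ι, ← Category.assoc, mul_ι,
    Category.assoc, ← CohIII.smulMod_mul, mul_ι]

theorem mul_congr {n m : ℕ} {a b : A} (h : a = b) (ha : ∀ c ∈ I ^ n, a * c ∈ I ^ m)
    (hb : ∀ c ∈ I ^ n, b * c ∈ I ^ m) : mul I M a ha = mul I M b hb := by subst h; rfl

theorem mul_mem_pow {n m : ℕ} (h : n ≤ m) {a : A} (ha : a ∈ I ^ (m - n)) : ∀ b ∈ I ^ n, a * b ∈ I ^ m := by
  intro b hb
  have := Ideal.mul_mem_mul ha hb
  rwa [← pow_add, Nat.sub_add_cancel h] at this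

theorem idealPowIncl_eq {n m : ℕ} (h : n ≤ m) :
    Formal2.idealPowIncl I h M = mul I M 1 (fun b hb => by rw [one_mul]; exact Ideal.pow_le_pow_right h hb) := by
  rw [← cancel_mono (Formal2.idealPowModι I n M), mul_ι, smulMod_one, Category.comp_id]
  exact kernel.lift_ι _ _ _

theorem mem_mul_one {a : A} (ha : a ∈ I) (n : ℕ) : ∀ b ∈ I ^ n, a * b ∈ I ^ (n + 1) :=
  mul_mem_pow I (Nat.le_succ n) (by rwa [Nat.succ_sub (le_refl n), Nat.sub_self, pow_one])

variable {M}

theorem isQuasicoherent_modPow (hM : M.IsQuasicoherent) (n : ℕ) :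
    (Formal.modPow I n M).IsQuasicoherent := by
  haveI : ∀ _ : ↥(I ^ n), M.IsQuasicoherent := fun _ => hM
  haveI := QCoh.isQuasicoherent_coproduct (fun _ : ↥(I ^ n) => M)
  exact QCoh.isQuasicoherent_cokernel _

theorem isCoh_idealPowMod [IsLocallyNoetherian X] (hM : Coh.IsCoh M) (n : ℕ) :
    Coh.IsCoh (Formal2.idealPowMod I n M) :=
  CohDev.isCoh_kernel _ hM (isQuasicoherent_modPow I hM.1 n)

theorem isCoh_modPow (hM : Coh.IsCoh M) (n : ℕ) : Coh.IsCoh (Formal.modPow I n M) := by
  haveI : Epi (Formal.modPowπ I n M) := inferInstanceAs (Epi (cokernel.π _))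
  exact CohDev.isCoh_of_epi (Formal.modPowπ I n M) hM (isQuasicoherent_modPow I hM.1 n)

/-- `⊕ I^n M` as a coherent graded system. -/
def powSys [IsLocallyNoetherian X] [IsNoetherianRing A] (𝒰 : AffCov X) {r : ℕ} (a : Fin r → A)
    (ha : I = Ideal.span (Set.range a)) (hM : Coh.IsCoh M) : GrSys 𝒰 r where
  M n := Formal2.idealPowMod I n M
  T i n := mul I M (a i) (mem_mul_one I (ha ▸ Ideal.subset_span ⟨i, rfl⟩) n)
  comm i j n := by rw [mul_comp, mul_comp]; exact mul_congr I M (mul_comm _ _) _ _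
  coh := isCoh_idealPowMod I hM
  gen k := by
    refine ⟨0, fun n _ x => ?_⟩
    haveI := hM.1
    obtain ⟨s, b, hb⟩ := Submodule.fg_iff_exists_fin_generating_family.mp (IsNoetherian.noetherian (I ^ n))
    let c : ULift.{u} (Fin r) × ULift.{u} (Fin s) → A := fun q => a q.1.down * b q.2.down
    have hc : I ^ (n + 1) = Ideal.span (Set.range c) := by
      rw [pow_succ', ha, show (Ideal.span (Set.range a)) ^ n = Ideal.span (Set.range b) from by rw [← ha]; exact hb.symm,
        Ideal.span_mul_span', ← Set.image2_mul, Set.image2_range]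
      refine congrArg Ideal.span (Set.ext fun z => ⟨?_, ?_⟩)
      · rintro ⟨q, rfl⟩; exact ⟨(⟨q.1⟩, ⟨q.2⟩), rfl⟩
      · rintro ⟨q, rfl⟩; exact ⟨(q.1.down, q.2.down), rfl⟩
    obtain ⟨y, hy⟩ := (ker_iff c M hc (𝒰.isAffine k) ((Formal2.idealPowModι I (n + 1) M).app _ x)).mp
      (QCoh.app_app_eq_zero (ShortComplex.mk _ _ (kernel.condition (Formal.modPowπ I (n + 1) M))) _ x)
    have hz : ∀ i : Fin r, ∃ z : Γ(Formal2.idealPowMod I n M, 𝒰.U k), (Formal2.idealPowModι I n M).app _ z =
        ∑ q : ULift.{u} (Fin s), (Formal.smulMod A M (b q.down)).app (𝒰.U k) (y (⟨i⟩, q)) := fun i =>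
      QCoh.exists_app_eq_of_app_eq_zero (ShortComplex.mk _ _ (kernel.condition (Formal.modPowπ I n M)))
        (ShortComplex.exact_of_f_is_kernel _ (kernelIsKernel _)) _ _
        ((ker_iff (fun q : ULift.{u} (Fin s) => b q.down) M
          (show I ^ n = Ideal.span (Set.range fun q : ULift.{u} (Fin s) => b q.down) by
            rw [show (fun q : ULift.{u} (Fin s) => b q.down) = b ∘ Equiv.ulift from rfl, EquivLike.range_comp]
            exact hb.symm)
          (𝒰.isAffine k) _).mpr ⟨fun q => y (⟨i⟩, q), rfl⟩)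
    choose z hz using hz
    refine ⟨z, QCoh.app_injective_of_mono (Formal2.idealPowModι I (n + 1) M) _ ?_⟩
    rw [hy, map_sum, Fintype.sum_prod_type]
    refine (Fintype.sum_equiv Equiv.ulift _ _ fun i => ?_)
    show _ = (Formal2.idealPowModι I (n + 1) M).app _ ((mul I M (a i.down) (mem_mul_one I (ha ▸ Ideal.subset_span ⟨i.down, rfl⟩) n)).app _ (z i.down))
    rw [← app_comp, mul_ι, app_comp, hz, map_sum]
    refine Finset.sum_congr rfl fun q _ => ?_
    rw [← app_comp, ← CohIII.smulMod_mul]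

/-- A proper (indeed quasi-compact) scheme has a finite affine cover. -/
theorem exists_affCov [CompactSpace X] : ∃ 𝒰 : AffCov X, Finite 𝒰.ι := by
  have hx : ∀ x : X, ∃ V : X.Opens, IsAffineOpen V ∧ x ∈ V := fun x => by
    obtain ⟨_, ⟨V, hV, rfl⟩, hxV, -⟩ := X.isBasis_affineOpens.exists_subset_of_mem_open
      (Set.mem_univ x) isOpen_univ
    exact ⟨V, hV, hxV⟩
  choose V hV hxV using hx
  obtain ⟨t, ht⟩ := isCompact_univ.elim_finite_subcover (fun x => (V x : Set X)) (fun x => (V x).isOpen)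
    fun x _ => Set.mem_iUnion.mpr ⟨x, hxV x⟩
  refine ⟨⟨↥t, fun x => V x, fun x => hV x, fun x _ => ?_⟩, (inferInstance : Finite ↥t)⟩
  obtain ⟨i, hi, hxi⟩ := Set.mem_iUnion₂.mp (ht (Set.mem_univ x))
  exact Opens.mem_iSup.mpr ⟨⟨i, hi⟩, hxi⟩

variable (M)

/-- Multiplication on cohomology. -/
def hmul {n m : ℕ} (h : n ≤ m) (p : ℕ) (a : ↥(I ^ (m - n))) :
    Coh.HH X (Formal2.idealPowMod I n M) p →ₗ[A] Coh.HH X (Formal2.idealPowMod I m M) p :=
  CohLin.overLin A (CohLin.hMap (mul I M (a : A) (mul_mem_pow I h a.2)) p)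

theorem hmul_apply {n m : ℕ} (h : n ≤ m) (p : ℕ) (a : ↥(I ^ (m - n))) (x : Coh.HH X (Formal2.idealPowMod I n M) p) :
    hmul I M h p a x = CohLin.hMap (mul I M (a : A) (mul_mem_pow I h a.2)) p x := rfl

variable {M}

/-- Families stable under `I` are eventually generated. -/
theorem exists_gen [IsNoetherianRing A] [IsLocallyNoetherian X] [CompactSpace X] {T : Set X} (hfin : FiniteOn A X T)
    (hM : Coh.IsCoh M) (hT : CohB1.support M ⊆ T) (p : ℕ) (N : ∀ n, Submodule A (Coh.HH X (Formal2.idealPowMod I n M) p))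
    (hN : ∀ n (a : A) (ha : a ∈ I) (x), x ∈ N n → CohLin.hMap (mul I M a (mem_mul_one I ha n)) p x ∈ N (n + 1)) :
    ∃ c, ∀ k m (h : k ≤ m), c ≤ k → N m ≤ ⨆ a : ↥(I ^ (m - k)), (N k).map (hmul I M h p a) := by
  obtain ⟨𝒰, h𝒰⟩ := exists_affCov (X := X)
  obtain ⟨r, a, ha⟩ := Submodule.fg_iff_exists_fin_generating_family.mp (IsNoetherian.noetherian I)
  obtain ⟨c, hc⟩ := GrSys.cohomology_sub_gen hfin (powSys I 𝒰 a ha.symm hM)
    (fun n => (support_subset_of_mono (Formal2.idealPowModι I n M)).trans hT) p N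
    (fun i n x hx => hN n (a i) (ha ▸ Ideal.subset_span ⟨i, rfl⟩) x hx)
  refine ⟨c, fun k m hkm hck => ?_⟩
  induction m, hkm using Nat.le_induction with
  | base =>
    intro x hx
    refine Submodule.mem_iSup_of_mem ⟨1, by rw [Nat.sub_self, pow_zero, Ideal.one_eq_top]; trivial⟩ ⟨x, hx, ?_⟩
    rw [hmul_apply]
    have h1 : mul I M (1 : A) (mul_mem_pow I (le_refl k) (by rw [Nat.sub_self, pow_zero, Ideal.one_eq_top]; trivial)) =
        𝟙 (Formal2.idealPowMod I k M) := by
      rw [← cancel_mono (Formal2.idealPowModι I k M), mul_ι, smulMod_one, Category.comp_id, Category.id_comp]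
    rw [h1, CohLin.hMap_id]
  | succ m hkm ih =>
    intro x hx
    obtain ⟨y, hy, rfl⟩ := hc m (hck.trans hkm) x hx
    refine Submodule.sum_mem _ fun i _ => ?_
    have hai : a i ∈ I := ha ▸ Ideal.subset_span ⟨i, rfl⟩
    refine (show (N m) ≤ (⨆ b : ↥(I ^ (m + 1 - k)), (N k).map (hmul I M (hkm.trans (Nat.le_succ m)) p b)).comap
      (CohLin.overLin A (CohLin.hMap (mul I M (a i) (mem_mul_one I hai m)) p)) from ?_) (hy i)
    refine ih.trans (iSup_le fun b => ?_)
    rintro _ ⟨w, hw, rfl⟩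
    rw [Submodule.mem_comap]
    have hab : a i * (b : A) ∈ I ^ (m + 1 - k) := by
      rw [Nat.succ_sub hkm, pow_succ']
      exact Ideal.mul_mem_mul hai b.2
    refine Submodule.mem_iSup_of_mem ⟨a i * (b : A), hab⟩ ⟨w, hw, ?_⟩
    rw [hmul_apply, CohLin.overLin_apply, hmul_apply, ← CohLin.hMap_comp, mul_comp]

end Mul

end Groth.Agent.FormalFun
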