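import Groth.Agent.FormalFun.Powers
import Groth.Agent.Adic.Basic

/-!
# The theorem on formal functions, given finiteness of coherent cohomology

All results take `hfin : FiniteOn A X T` (finiteness of `H^q(X, N)` for coherent `N` supported in `T`)
and `hT : CohB1.support M ⊆ T`.
-/

set_option autoImplicit false

universe u

open CategoryTheory Limits AlgebraicGeometry Opposite TopologicalSpace
open Groth.Agent

noncomputable section

namespace Groth.Agent.FormalFun

variable {A : Type u} [CommRing A] {X : Scheme.{u}} [X.Over (Spec (CommRingCat.of A))]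
variable (I : Ideal A) (M : X.Modules)

/-- Multiplication by `a ∈ I^m` as a map `M ⟶ I^m M`. -/
def mulTop {m : ℕ} (a : A) (ha : a ∈ I ^ m) : M ⟶ Formal2.idealPowMod I m M :=
  kernel.lift _ (Formal.smulMod A M a) (smulMod_comp_π M ha)

theorem mulTop_ι {m : ℕ} (a : A) (ha : a ∈ I ^ m) :
    mulTop I M a ha ≫ Formal2.idealPowModι I m M = Formal.smulMod A M a := kernel.lift_ι _ _ _

theorem hMap_ι_mul {n m : ℕ} (p : ℕ) (a : A) (ha : ∀ b ∈ I ^ n, a * b ∈ I ^ m)
    (x : Coh.HH X (Formal2.idealPowMod I n M) p) :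
    CohLin.hMap (Formal2.idealPowModι I m M) p (CohLin.hMap (mul I M a ha) p x) =
      a • CohLin.hMap (Formal2.idealPowModι I n M) p x := by
  rw [← CohLin.hMap_comp, mul_ι, CohLin.hMap_comp, hMap_smulMod]

theorem idealPowIncl_ι {m n : ℕ} (h : m ≤ n) :
    Formal2.idealPowIncl I h M ≫ Formal2.idealPowModι I m M = Formal2.idealPowModι I n M :=
  kernel.lift_ι _ _ _

theorem idealPowIncl_comp {k m n : ℕ} (h : m ≤ n) (h' : k ≤ m) :
    Formal2.idealPowIncl I h M ≫ Formal2.idealPowIncl I h' M = Formal2.idealPowIncl I (h'.trans h) M := by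
  rw [← cancel_mono (Formal2.idealPowModι I k M), Category.assoc, idealPowIncl_ι, idealPowIncl_ι, idealPowIncl_ι]

/-- The sequence `0 → I^n M → M → M/I^n M → 0`. -/
abbrev seq (n : ℕ) : ShortComplex X.Modules :=
  ShortComplex.mk (Formal2.idealPowModι I n M) (Formal.modPowπ I n M) (kernel.condition _)

theorem shortExact_seq (n : ℕ) : (seq I M n).ShortExact where
  exact := ShortComplex.exact_of_f_is_kernel _ (kernelIsKernel _)
  mono_f := inferInstanceAs (Mono (kernel.ι _))
  epi_g := inferInstanceAs (Epi (cokernel.π _))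

theorem H_map_eq {M N : X.Modules} (φ : M ⟶ N) (p : ℕ) (x : Coh.HH X M p) :
    Sheaf.H.map ((SheafOfModules.toSheaf X.ringCatSheaf).map φ) p x = CohLin.hMap φ p x := rfl

theorem toHHmodPow_eq (p j : ℕ) (x : Coh.HH X M p) :
    Formal.toHHmodPow I M p j x = CohLin.hMap (Formal.modPowπ I (j + 1) M) p x := rfl

theorem mem_ker_toHH {p j : ℕ} (x : Coh.HH X M p) :
    x ∈ (Formal.toHHmodPow I M p j).ker ↔ ∃ z, CohLin.hMap (Formal2.idealPowModι I (j + 1) M) p z = x := by
  rw [AddMonoidHom.mem_ker, toHHmodPow_eq]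
  refine ⟨CohLin.exists_hMap_f_eq (shortExact_seq I M (j + 1)) x, ?_⟩
  rintro ⟨z, rfl⟩
  exact CohLin.hMap_g_hMap_f (S := seq I M (j + 1)) z

theorem toHH_smul {p j : ℕ} {a : A} (ha : a ∈ I ^ (j + 1)) (x : Coh.HH X M p) :
    Formal.toHHmodPow I M p j (a • x) = 0 := by
  rw [toHHmodPow_eq, ← hMap_smulMod, ← CohLin.hMap_comp]
  show CohLin.hMap (Formal.smulMod A M a ≫ cokernel.π (Formal.smulFamily (I ^ (j + 1)) M)) p x = 0
  rw [smulMod_comp_π M ha]
  exact map_zero (CohLin.hMapHom M _ p x)

theorem completion_map_succ (k : ℕ) :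
    (Formal.completion I M).map (homOfLE (Nat.le_add_right k 1)).op = Formal.modPowTrans I (k + 1) M :=
  Functor.ofOpSequence_map_homOfLE_succ _ k

theorem π_completion_map {n k : ℕ} (h : n ≤ k) :
    Formal.modPowπ I (k + 1) M ≫ (Formal.completion I M).map (homOfLE h).op = Formal.modPowπ I (n + 1) M := by
  induction k, h using Nat.le_induction with
  | base =>
    rw [show (homOfLE (le_refl n)).op = 𝟙 (op n) from rfl, CategoryTheory.Functor.map_id]
    exact Category.comp_id _
  | succ k hk ih =>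
    have e : Formal.modPowπ I (k + 1 + 1) M ≫ (Formal.completion I M).map (homOfLE (Nat.le_add_right k 1)).op =
        Formal.modPowπ I (k + 1) M := by
      rw [completion_map_succ]; exact Formal.modPowπ_trans I (k + 1) M
    rw [show (homOfLE (hk.trans (Nat.le_succ k))).op = (homOfLE (Nat.le_add_right k 1)).op ≫ (homOfLE hk).op from rfl,
      Functor.map_comp]
    exact (Category.assoc _ _ _).symm.trans ((congrArg (· ≫ (Formal.completion I M).map (homOfLE hk).op) e).trans ih)

namespace On

section Main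

variable [IsNoetherianRing A] [IsLocallyNoetherian X] [CompactSpace X] {T : Set X}
  (hfin : FiniteOn A X T) {M} (hM : Coh.IsCoh M) (hT : CohB1.support M ⊆ T) (p : ℕ)
include hfin hM hT

/-- Rees finiteness. -/
theorem exists_gen_top :
    ∃ c, ∀ k m (h : k ≤ m), c ≤ k → ∀ x : Coh.HH X (Formal2.idealPowMod I m M) p,
      x ∈ ⨆ a : ↥(I ^ (m - k)), LinearMap.range (hmul I M h p a) := by
  obtain ⟨c, hc⟩ := exists_gen I hfin hM hT p (fun _ => ⊤) (fun _ _ _ _ _ => trivial)
  refine ⟨c, fun k m h hk x => ?_⟩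
  have := hc k m h hk (Submodule.mem_top (x := x))
  simpa only [Submodule.map_top] using this

/-- Images of `H^p(I^n M) → H^p(M)`: `ι x` is a combination of `a • ι y`. -/
theorem exists_ι_mem_smul :
    ∃ c, ∀ k m, k ≤ m → c ≤ k → ∀ x : Coh.HH X (Formal2.idealPowMod I m M) p,
      CohLin.hMap (Formal2.idealPowModι I m M) p x ∈
        I ^ (m - k) • LinearMap.range (CohLin.overLin A (CohLin.hMap (Formal2.idealPowModι I k M) p)) := by
  obtain ⟨c, hc⟩ := exists_gen_top I hfin hM hT p
  refine ⟨c, fun k m h hk x => ?_⟩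
  refine (show (⨆ a : ↥(I ^ (m - k)), LinearMap.range (hmul I M h p a)) ≤
    (I ^ (m - k) • LinearMap.range (CohLin.overLin A (CohLin.hMap (Formal2.idealPowModι I k M) p))).comap
      (CohLin.overLin A (CohLin.hMap (Formal2.idealPowModι I m M) p)) from ?_) (hc k m h hk x)
  refine iSup_le fun a => ?_
  rintro _ ⟨y, rfl⟩
  rw [Submodule.mem_comap, CohLin.overLin_apply, hmul_apply, hMap_ι_mul]
  exact Submodule.smul_mem_smul a.2 ⟨y, rfl⟩

/-- The kernels of `H^p(M) → H^p(M/I^(k+1) M)` form an `I`-good filtration. -/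
theorem kernel_filtration_good :
    ∃ k₀ : ℕ, ∀ k : ℕ, k₀ ≤ k →
      ((Formal.toHHmodPow I M p (k + 1)).ker : Set (Coh.HH X M p)) =
        ((I • Submodule.span A ((Formal.toHHmodPow I M p k).ker : Set (Coh.HH X M p)) :
          Submodule A (Coh.HH X M p)) : Set (Coh.HH X M p)) := by
  obtain ⟨c, hc⟩ := exists_ι_mem_smul I hfin hM hT p
  refine ⟨c, fun k hk => ?_⟩
  ext x
  constructor
  · intro hx
    obtain ⟨z, rfl⟩ := (mem_ker_toHH I M x).mp hx
    have h1 := hc (k + 1) (k + 1 + 1) (Nat.le_succ _) (by omega) z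
    rw [show k + 1 + 1 - (k + 1) = 1 by omega, pow_one] at h1
    refine Submodule.smul_mono le_rfl ?_ h1
    rintro _ ⟨y, rfl⟩
    exact Submodule.subset_span ((mem_ker_toHH I M _).mpr ⟨y, rfl⟩)
  · intro hx
    refine Submodule.smul_induction_on hx (fun a ha w hw => ?_) (fun a b ha hb => (Formal.toHHmodPow I M p (k + 1)).ker.add_mem ha hb)
    have hw' : w ∈ LinearMap.range (CohLin.overLin A (CohLin.hMap (Formal2.idealPowModι I (k + 1) M) p)) := by
      refine (Submodule.span_le.mpr ?_) hw
      intro v hv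
      exact (mem_ker_toHH I M v).mp hv
    obtain ⟨y, rfl⟩ := hw'
    exact (mem_ker_toHH I M _).mpr ⟨_, hMap_ι_mul I M p a (mem_mul_one I ha (k + 1)) y⟩

theorem kernels_adically_small :
    ∃ c : ℕ, ∀ n : ℕ, c ≤ n →
      ((Formal.toHHmodPow I M p n).ker : Set (Coh.HH X M p)) ⊆
        ((I ^ (n - c) • (⊤ : Submodule A (Coh.HH X M p)) : Submodule A (Coh.HH X M p)) : Set (Coh.HH X M p)) := by
  obtain ⟨c, hc⟩ := exists_ι_mem_smul I hfin hM hT p
  refine ⟨c, fun n hn x hx => ?_⟩
  obtain ⟨z, rfl⟩ := (mem_ker_toHH I M x).mp hx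
  exact Submodule.smul_mono (Ideal.pow_le_pow_right (by omega)) le_top (hc c (n + 1) (by omega) le_rfl z)

theorem kernel_stabilizes :
    ∃ c : ℕ, ∀ (n : ℕ) (h : c ≤ n),
      (Sheaf.H.map ((SheafOfModules.toSheaf _).map (Formal2.idealPowModι I n M)) p).ker =
        (Sheaf.H.map ((SheafOfModules.toSheaf _).map (Formal2.idealPowIncl I (Nat.sub_le n c) M)) p).ker := by
  let N : ∀ n, Submodule A (Coh.HH X (Formal2.idealPowMod I n M) p) := fun n =>
    LinearMap.ker (CohLin.overLin A (CohLin.hMap (Formal2.idealPowModι I n M) p))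
  obtain ⟨c, hc⟩ := exists_gen I hfin hM hT p N (fun n a ha x hx => by
    simp only [N, LinearMap.mem_ker, CohLin.overLin_apply] at hx ⊢
    rw [hMap_ι_mul, hx, smul_zero])
  refine ⟨c, fun n hn => ?_⟩
  ext x
  rw [AddMonoidHom.mem_ker, AddMonoidHom.mem_ker, H_map_eq, H_map_eq]
  constructor
  · intro hx
    have hxN : x ∈ N n := LinearMap.mem_ker.mpr ((CohLin.overLin_apply A _ x).trans hx)
    refine (CohLin.overLin_apply A _ x).symm.trans (LinearMap.mem_ker.mp ((show (⨆ a : ↥(I ^ (n - c)), (N c).map (hmul I M hn p a)) ≤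
      LinearMap.ker (CohLin.overLin A (CohLin.hMap (Formal2.idealPowIncl I (Nat.sub_le n c) M) p)) from ?_)
      (hc c n hn le_rfl hxN)))
    refine iSup_le fun a => ?_
    rintro _ ⟨y, hy, rfl⟩
    have hy' : CohLin.hMap (Formal2.idealPowModι I c M) p y = 0 := (CohLin.overLin_apply A _ y).symm.trans (LinearMap.mem_ker.mp hy)
    rw [LinearMap.mem_ker, CohLin.overLin_apply, hmul_apply, ← CohLin.hMap_comp,
      show mul I M (a : A) (mul_mem_pow I hn a.2) ≫ Formal2.idealPowIncl I (Nat.sub_le n c) M =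
        Formal2.idealPowModι I c M ≫ mulTop I M (a : A) a.2 from by
        rw [← cancel_mono (Formal2.idealPowModι I (n - c) M), Category.assoc, Category.assoc, idealPowIncl_ι, mul_ι, mulTop_ι],
      CohLin.hMap_comp, hy', map_zero]
  · intro hx
    have hx' : CohLin.hMap (Formal2.idealPowIncl I (Nat.sub_le n c) M) p x = 0 := hx
    rw [← idealPowIncl_ι I M (Nat.sub_le n c), CohLin.hMap_comp, hx', map_zero]

theorem image_bound :
    ∃ c : ℕ, ∀ (n m : ℕ), c ≤ n + m →
      Set.range (Sheaf.H.map ((SheafOfModules.toSheaf _).map (Formal2.idealPowIncl I (Nat.le_add_right n m) M)) p) ⊆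
        SetLike.coe (I ^ (m - (c - n)) • (⊤ : Submodule A (Coh.HH X (Formal2.idealPowMod I n M) p))) := by
  obtain ⟨c, hc⟩ := exists_gen_top I hfin hM hT p
  refine ⟨c, fun n m hnm => ?_⟩
  rintro _ ⟨z, rfl⟩
  have hk : max n c ≤ n + m := max_le (Nat.le_add_right n m) hnm
  refine (show (⨆ a : ↥(I ^ (n + m - max n c)), LinearMap.range (hmul I M hk p a)) ≤
    (I ^ (m - (c - n)) • (⊤ : Submodule A (Coh.HH X (Formal2.idealPowMod I n M) p))).comap
      (CohLin.overLin A (CohLin.hMap (Formal2.idealPowIncl I (Nat.le_add_right n m) M) p)) from ?_)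
    (hc _ _ hk (le_max_right _ _) z)
  refine iSup_le fun a => ?_
  rintro _ ⟨y, rfl⟩
  rw [Submodule.mem_comap, CohLin.overLin_apply, hmul_apply, ← CohLin.hMap_comp,
    show mul I M (a : A) (mul_mem_pow I hk a.2) ≫ Formal2.idealPowIncl I (Nat.le_add_right n m) M =
      Formal2.idealPowIncl I (le_max_left n c) M ≫ Formal.smulMod A _ (a : A) from by
      rw [← cancel_mono (Formal2.idealPowModι I n M), Category.assoc, Category.assoc, idealPowIncl_ι, mul_ι,
        smulMod_natural, ← Category.assoc, idealPowIncl_ι],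
    CohLin.hMap_comp, hMap_smulMod]
  refine Submodule.smul_mem_smul ?_ trivial
  rw [show m - (c - n) = n + m - max n c by omega]
  exact a.2

theorem mittag_leffler :
    ∃ c : ℕ, ∀ (n k : ℕ) (h : n ≤ k), n + c ≤ k →
      Set.range (Sheaf.H.map ((SheafOfModules.toSheaf X.ringCatSheaf).map
        ((Formal.completion I M).map (homOfLE h).op)) p) = Set.range (Formal.toHHmodPow I M p n) := by
  obtain ⟨c, hc⟩ := kernel_stabilizes I hfin hM hT (p + 1)
  refine ⟨c, fun n k h hnk => Set.Subset.antisymm ?_ ?_⟩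
  · rintro _ ⟨x, rfl⟩
    have hnat := δ_natural (shortExact_seq I M (k + 1)) (shortExact_seq I M (n + 1))
      (S := seq I M (k + 1)) (S' := seq I M (n + 1))
      { τ₁ := Formal2.idealPowIncl I (Nat.succ_le_succ h) M, τ₂ := 𝟙 M, τ₃ := (Formal.completion I M).map (homOfLE h).op
        comm₁₂ := (idealPowIncl_ι I M (Nat.succ_le_succ h)).trans (Category.comp_id _).symm
        comm₂₃ := (Category.id_comp _).trans (π_completion_map I M h).symm } p x
    refine CohLin.exists_hMap_g_eq (shortExact_seq I M (n + 1))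
      (CohLin.hMap ((Formal.completion I M).map (homOfLE h).op) p x) ?_
    refine hnat.trans ?_
    show CohLin.hMap (Formal2.idealPowIncl I (Nat.succ_le_succ h) M) (p + 1) (CohLin.hδ (shortExact_seq I M (k + 1)) p x) = 0
    have h1 : CohLin.hMap (Formal2.idealPowIncl I (Nat.sub_le (k + 1) c) M) (p + 1)
        (CohLin.hδ (shortExact_seq I M (k + 1)) p x) = 0 :=
      (AddSubgroup.ext_iff.mp (hc (k + 1) (by omega)) _).mp (CohLin.hMap_f_hδ (shortExact_seq I M (k + 1)) x)
    rw [← idealPowIncl_comp I M (Nat.sub_le (k + 1) c) (show n + 1 ≤ k + 1 - c by omega), CohLin.hMap_comp, h1, map_zero]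
  · rintro _ ⟨x, rfl⟩
    refine ⟨Formal.toHHmodPow I M p k x, ?_⟩
    show CohLin.hMap ((Formal.completion I M).map (homOfLE h).op) p (CohLin.hMap (Formal.modPowπ I (k + 1) M) p x) = _
    erw [← CohLin.hMap_comp, π_completion_map I M h]
    rfl

end Main

end On

/-! ### The comparison with the completion -/

section Completion

variable {p : ℕ}

/-- `H/I^(n+1)H → H^p(M/I^(n+1)M)`. -/
def quotMap (p n : ℕ) :
    (Coh.HH X M p ⧸ (I ^ (n + 1) • ⊤ : Submodule A (Coh.HH X M p))) →ₗ[A] Formal.HHmodPow I M p n :=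
  Submodule.liftQ _ (CohLin.overLin A (CohLin.hMap (Formal.modPowπ I (n + 1) M) p)) (Submodule.smul_le.mpr fun a ha x _ =>
    LinearMap.mem_ker.mpr (toHH_smul I M ha x))

theorem quotMap_mk (n : ℕ) (x : Coh.HH X M p) :
    quotMap I M p n (Submodule.Quotient.mk x) = Formal.toHHmodPow I M p n x :=
  (Submodule.liftQ_apply _ _ x).trans ((CohLin.overLin_apply A _ x).trans (toHHmodPow_eq I M p n x).symm)

theorem trans_toHH (n : ℕ) (x : Coh.HH X M p) :
    Formal.HHmodPowTrans I M p n (Formal.toHHmodPow I M p (n + 1) x) = Formal.toHHmodPow I M p n x :=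
  (Formal.toHHlim I M p x).2 n

/-- The comparison map from the completion. -/
def complMap (p : ℕ) : AdicCompletion I (Coh.HH X M p) →+ Formal.HHlim I M p where
  toFun x := ⟨fun n => quotMap I M p n (x.val (n + 1)), fun n => by
    obtain ⟨y, hy⟩ := Submodule.Quotient.mk_surjective _ (x.val (n + 1 + 1))
    have h1 : x.val (n + 1) = Submodule.Quotient.mk y := by
      rw [← x.property (Nat.le_succ (n + 1)), ← hy]
      rfl
    show Formal.HHmodPowTrans I M p n (quotMap I M p (n + 1) (x.val (n + 1 + 1))) = quotMap I M p n (x.val (n + 1))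
    rw [h1, ← hy, quotMap_mk, quotMap_mk, trans_toHH]⟩
  map_zero' := Subtype.ext (funext fun n => map_zero (quotMap I M p n))
  map_add' x y := Subtype.ext (funext fun n => map_add (quotMap I M p n) (x.val (n + 1)) (y.val (n + 1)))

theorem complMap_of (p : ℕ) (x : Coh.HH X M p) :
    complMap I M p (AdicCompletion.of I _ x) = Formal.toHHlim I M p x :=
  Subtype.ext (funext fun n => quotMap_mk I M n x)

theorem lim_compat {x : ∀ n, Formal.HHmodPow I M p n} (hx : x ∈ Formal.HHlim I M p) {n k : ℕ} (h : n ≤ k) :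
    CohLin.hMap ((Formal.completion I M).map (homOfLE h).op) p (x k) = x n := by
  induction k, h using Nat.le_induction with
  | base =>
    rw [show (homOfLE (le_refl n)).op = 𝟙 (op n) from rfl, CategoryTheory.Functor.map_id]
    exact CohLin.hMap_id _ p (x n)
  | succ k hk ih =>
    rw [show (homOfLE (hk.trans (Nat.le_succ k))).op = (homOfLE (Nat.le_add_right k 1)).op ≫ (homOfLE hk).op from rfl,
      Functor.map_comp]
    erw [CohLin.hMap_comp]
    refine Eq.trans (congrArg _ ?_) ih
    rw [completion_map_succ]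
    exact hx k

namespace On

variable [IsNoetherianRing A] [IsLocallyNoetherian X] [CompactSpace X] {T : Set X}
  (hfin : FiniteOn A X T) {M} (hM : Coh.IsCoh M) (hT : CohB1.support M ⊆ T) (p)
include hfin hM hT

theorem complMap_bijective : Function.Bijective (complMap I M p) := by
  obtain ⟨c, hc⟩ := kernels_adically_small I hfin hM hT p
  obtain ⟨c', hc'⟩ := mittag_leffler I hfin hM hT p
  constructor
  · rw [injective_iff_map_eq_zero]
    intro x hx
    ext m
    obtain ⟨y, hy⟩ := Submodule.Quotient.mk_surjective _ (x.val (m + c + 1))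
    have h0 : quotMap I M p (m + c) (x.val (m + c + 1)) = 0 := congrFun (congrArg Subtype.val hx) (m + c)
    rw [← hy, quotMap_mk] at h0
    have h1 : y ∈ (I ^ m • ⊤ : Submodule A (Coh.HH X M p)) := by
      have := hc (m + c) (Nat.le_add_left c m) h0
      rwa [Nat.add_sub_cancel] at this
    rw [← x.property (show m ≤ m + c + 1 by omega), ← hy]
    exact (Submodule.Quotient.mk_eq_zero _).mpr h1
  · rintro ⟨z, hz⟩
    have hr : ∀ n, ∃ x, Formal.toHHmodPow I M p n x = z n := fun n => by
      have : z n ∈ Set.range (Formal.toHHmodPow I M p n) := by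
        rw [← hc' n (n + c') (Nat.le_add_right n c') le_rfl]
        exact ⟨z (n + c'), lim_compat I M hz (Nat.le_add_right n c')⟩
      exact this
    choose x hx using hr
    have hcauchy : ∀ m, x (m + c) ≡ x (m + 1 + c) [SMOD (I ^ m • ⊤ : Submodule A (Coh.HH X M p))] := by
      intro m
      rw [SModEq.sub_mem]
      have h0 : x (m + c) - x (m + 1 + c) ∈ (Formal.toHHmodPow I M p (m + c)).ker := by
        rw [AddMonoidHom.mem_ker, map_sub, hx, show m + 1 + c = m + c + 1 by omega, sub_eq_zero,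
          ← trans_toHH I M (m + c) (x (m + c + 1)), hx]
        exact (hz (m + c)).symm
      have := hc (m + c) (Nat.le_add_left c m) h0
      rwa [Nat.add_sub_cancel] at this
    refine ⟨AdicCompletion.mk I _ (AdicCompletion.AdicCauchySequence.mk I _ (fun m => x (m + c)) hcauchy), ?_⟩
    refine Subtype.ext (funext fun n => ?_)
    show Formal.toHHmodPow I M p n (x (n + 1 + c)) = z n
    have h1 := lim_compat I M (Formal.toHHlim I M p (x (n + 1 + c))).2 (show n ≤ n + 1 + c by omega)
    have h2 := lim_compat I M hz (show n ≤ n + 1 + c by omega)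
    rw [← h2, ← hx (n + 1 + c)]
    exact h1.symm

theorem formal_functions : Nonempty (AdicCompletion I (Coh.HH X M p) ≃+ Formal.HHlim I M p) :=
  ⟨AddEquiv.ofBijective (complMap I M p) (complMap_bijective I p hfin hM hT)⟩

theorem toHHlim_bijective [IsAdicComplete I A] : Function.Bijective (Formal.toHHlim I M p) := by
  haveI : Module.Finite A (Coh.HH X M p) := hfin M hM hT p
  haveI : IsAdicComplete I (Coh.HH X M p) := Groth.Agent.Adic.isAdicComplete_of_finite (I := I)
  have h := (complMap_bijective I p hfin hM hT).comp (AdicCompletion.of_bijective_iff.mpr (inferInstance : IsAdicComplete I (Coh.HH X M p)))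
  rwa [show ⇑(complMap I M p) ∘ ⇑(AdicCompletion.of I (Coh.HH X M p)) = ⇑(Formal.toHHlim I M p) from
    funext (complMap_of I M p)] at h

end On

end Completion

/-! ### When the cohomology of every coherent module is finite -/

section Global

variable [IsNoetherianRing A] [IsLocallyNoetherian X] [CompactSpace X] (hfin : FiniteCoh A X)
  {M} (hM : Coh.IsCoh M) (p : ℕ)
include hfin hM

theorem exists_gen_top :
    ∃ c, ∀ k m (h : k ≤ m), c ≤ k → ∀ x : Coh.HH X (Formal2.idealPowMod I m M) p,
      x ∈ ⨆ a : ↥(I ^ (m - k)), LinearMap.range (hmul I M h p a) :=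
  On.exists_gen_top I (p := p) (hfin.on Set.univ) hM (Set.subset_univ _)

theorem exists_ι_mem_smul :
    ∃ c, ∀ k m, k ≤ m → c ≤ k → ∀ x : Coh.HH X (Formal2.idealPowMod I m M) p,
      CohLin.hMap (Formal2.idealPowModι I m M) p x ∈
        I ^ (m - k) • LinearMap.range (CohLin.overLin A (CohLin.hMap (Formal2.idealPowModι I k M) p)) :=
  On.exists_ι_mem_smul I (p := p) (hfin.on Set.univ) hM (Set.subset_univ _)

theorem kernel_filtration_good :
    ∃ k₀ : ℕ, ∀ k : ℕ, k₀ ≤ k →
      ((Formal.toHHmodPow I M p (k + 1)).ker : Set (Coh.HH X M p)) =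
        ((I • Submodule.span A ((Formal.toHHmodPow I M p k).ker : Set (Coh.HH X M p)) :
          Submodule A (Coh.HH X M p)) : Set (Coh.HH X M p)) :=
  On.kernel_filtration_good I (p := p) (hfin.on Set.univ) hM (Set.subset_univ _)

theorem kernels_adically_small :
    ∃ c : ℕ, ∀ n : ℕ, c ≤ n →
      ((Formal.toHHmodPow I M p n).ker : Set (Coh.HH X M p)) ⊆
        ((I ^ (n - c) • (⊤ : Submodule A (Coh.HH X M p)) : Submodule A (Coh.HH X M p)) : Set (Coh.HH X M p)) :=
  On.kernels_adically_small I (p := p) (hfin.on Set.univ) hM (Set.subset_univ _)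

theorem kernel_stabilizes :
    ∃ c : ℕ, ∀ (n : ℕ) (h : c ≤ n),
      (Sheaf.H.map ((SheafOfModules.toSheaf _).map (Formal2.idealPowModι I n M)) p).ker =
        (Sheaf.H.map ((SheafOfModules.toSheaf _).map (Formal2.idealPowIncl I (Nat.sub_le n c) M)) p).ker :=
  On.kernel_stabilizes I (p := p) (hfin.on Set.univ) hM (Set.subset_univ _)

theorem image_bound :
    ∃ c : ℕ, ∀ (n m : ℕ), c ≤ n + m →
      Set.range (Sheaf.H.map ((SheafOfModules.toSheaf _).map (Formal2.idealPowIncl I (Nat.le_add_right n m) M)) p) ⊆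
        SetLike.coe (I ^ (m - (c - n)) • (⊤ : Submodule A (Coh.HH X (Formal2.idealPowMod I n M) p))) :=
  On.image_bound I (p := p) (hfin.on Set.univ) hM (Set.subset_univ _)

theorem mittag_leffler :
    ∃ c : ℕ, ∀ (n k : ℕ) (h : n ≤ k), n + c ≤ k →
      Set.range (Sheaf.H.map ((SheafOfModules.toSheaf X.ringCatSheaf).map
        ((Formal.completion I M).map (homOfLE h).op)) p) = Set.range (Formal.toHHmodPow I M p n) :=
  On.mittag_leffler I (p := p) (hfin.on Set.univ) hM (Set.subset_univ _)

end Global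

section GlobalCompletion

variable [IsNoetherianRing A] [IsLocallyNoetherian X] [CompactSpace X] (p : ℕ) (hfin : FiniteCoh A X)
  {M} (hM : Coh.IsCoh M)
include hfin hM

theorem complMap_bijective : Function.Bijective (complMap I M p) :=
  On.complMap_bijective I (p := p) (hfin.on Set.univ) hM (Set.subset_univ _)

theorem formal_functions : Nonempty (AdicCompletion I (Coh.HH X M p) ≃+ Formal.HHlim I M p) :=
  On.formal_functions I (p := p) (hfin.on Set.univ) hM (Set.subset_univ _)

theorem toHHlim_bijective [IsAdicComplete I A] : Function.Bijective (Formal.toHHlim I M p) :=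
  On.toHHlim_bijective I (p := p) (hfin.on Set.univ) hM (Set.subset_univ _)

end GlobalCompletion

end Groth.Agent.FormalFun
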