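import Mathlib.RingTheory.MvPolynomial.Basic
import Mathlib.RingTheory.Polynomial.Basic
import Mathlib.Algebra.DirectSum.Module
import Mathlib.RingTheory.Adjoin.Basic
import Mathlib.RingTheory.Finiteness.Basic

/-!
# Graded families of modules with commuting operators of degree one

`exists_sub_gen`: in an eventually generated family with finite pieces over a Noetherian ring, every
stable family of submodules is eventually generated.
-/

set_option autoImplicit false

universe u v

noncomputable section

namespace Groth.Agent.FormalFun.GrNoeth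

variable {A : Type u} [CommRing A] {r : ℕ} {H : ℕ → Type v} [∀ n, AddCommGroup (H n)]
  [∀ n, Module A (H n)] (T : Fin r → ∀ n, H n →ₗ[A] H (n + 1))

open DirectSum
open scoped IsMulCommutative

/-- From degree `d` on, everything comes from the previous degree. -/
def Gen (d : ℕ) : Prop :=
  ∀ n, d ≤ n → ∀ x : H (n + 1), ∃ y : Fin r → H n, x = ∑ i, T i n (y i)

/-- The operator of degree one on the direct sum. -/
def op (i : Fin r) : Module.End A (⨁ n, H n) :=
  DirectSum.toModule A ℕ _ fun n => (DirectSum.lof A ℕ H (n + 1)).comp (T i n)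

theorem op_lof (i : Fin r) (n : ℕ) (x : H n) :
    op T i (DirectSum.lof A ℕ H n x) = DirectSum.lof A ℕ H (n + 1) (T i n x) := by
  simp [op]

theorem component_op (i : Fin r) (z : ⨁ n, H n) :
    DirectSum.component A ℕ H 0 (op T i z) = 0 ∧
    ∀ n, DirectSum.component A ℕ H (n + 1) (op T i z) = T i n (DirectSum.component A ℕ H n z) := by
  classical
  induction z using DirectSum.induction_on with
  | zero => simp
  | of m x =>
    rw [← DirectSum.lof_eq_of A]
    refine ⟨?_, fun n => ?_⟩
    · rw [op_lof, DirectSum.component.of, dif_neg (Nat.succ_ne_zero m)]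
    · rw [op_lof, DirectSum.component.of, DirectSum.component.of]
      by_cases h : m = n
      · subst h; simp
      · rw [dif_neg (fun h' => h (Nat.succ_injective h')), dif_neg h, map_zero]
  | add a b ha hb =>
    refine ⟨by rw [map_add, map_add, ha.1, hb.1, add_zero], fun n => ?_⟩
    rw [map_add, map_add, ha.2, hb.2, map_add, map_add]

theorem op_comm (hcomm : ∀ i j n x, T i (n + 1) (T j n x) = T j (n + 1) (T i n x)) (i j : Fin r) :
    op T i * op T j = op T j * op T i := by
  refine DirectSum.linearMap_ext A fun n => LinearMap.ext fun x => ?_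
  simp only [LinearMap.comp_apply, Module.End.mul_apply, op_lof, hcomm]

/-- Eventually generated stable subfamilies. -/
theorem exists_sub_gen [IsNoetherianRing A] [∀ n, Module.Finite A (H n)]
    (hcomm : ∀ i j n x, T i (n + 1) (T j n x) = T j (n + 1) (T i n x))
    (hgen : ∃ d, Gen T d) (S : ∀ n, Submodule A (H n))
    (hS : ∀ i n x, x ∈ S n → T i n x ∈ S (n + 1)) :
    ∃ d, ∀ n, d ≤ n → ∀ x ∈ S (n + 1), ∃ y : Fin r → H n, (∀ i, y i ∈ S n) ∧ x = ∑ i, T i n (y i) := by
  classical
  obtain ⟨d, hd⟩ := hgen
  let R := MvPolynomial (Fin r) A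
  let D := ⨁ n, H n
  haveI : IsMulCommutative (Algebra.adjoin A (Set.range (op T))) :=
    Algebra.isMulCommutative_adjoin A (by
      rintro _ ⟨i, rfl⟩ _ ⟨j, rfl⟩
      exact op_comm T hcomm i j)
  let φ : R →ₐ[A] Module.End A D := (Algebra.adjoin A (Set.range (op T))).val.comp
    (MvPolynomial.aeval fun i => (⟨op T i, Algebra.subset_adjoin ⟨i, rfl⟩⟩ : Algebra.adjoin A (Set.range (op T))))
  letI : Module R D := Module.compHom D φ.toRingHom
  have hsmul : ∀ (p : R) (z : D), p • z = φ p z := fun _ _ => rfl
  have hX : ∀ (i : Fin r) (z : D), (MvPolynomial.X i : R) • z = op T i z := by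
    intro i z
    rw [hsmul]
    exact congrArg (fun e : ↥(Algebra.adjoin A (Set.range (op T))) => (e : Module.End A D) z)
      (MvPolynomial.aeval_X _ i)
  have hC : ∀ (a : A) (z : D), (MvPolynomial.C a : R) • z = a • z := by
    intro a z
    rw [hsmul, ← MvPolynomial.algebraMap_eq, AlgHom.commutes, Module.algebraMap_end_apply]
  -- `R`-stability criterion
  have hclosed : ∀ (Q : Submodule A D), (∀ i z, z ∈ Q → op T i z ∈ Q) → ∀ (p : R) (z : D), z ∈ Q → p • z ∈ Q := by
    intro Q hQ p
    induction p using MvPolynomial.induction_on with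
    | C a => exact fun z hz => by rw [hC]; exact Q.smul_mem a hz
    | add a b ha hb => exact fun z hz => by rw [add_smul]; exact Q.add_mem (ha z hz) (hb z hz)
    | mul_X a i ha => exact fun z hz => by rw [mul_smul, hX]; exact ha _ (hQ i z hz)
  let ofA : Submodule R D → Submodule A D := fun Q =>
    { carrier := Q
      add_mem' := Q.add_mem
      zero_mem' := Q.zero_mem
      smul_mem' := fun a z hz => by rw [← hC]; exact Q.smul_mem _ hz }
  haveI : Module.Finite R D := by
    choose s hs using fun n : Fin (d + 1) => (Module.Finite.fg_top : (⊤ : Submodule A (H n)).FG)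
    let gens : Finset D := Finset.univ.biUnion fun n : Fin (d + 1) => (s n).image (DirectSum.lof A ℕ H n)
    refine ⟨⟨gens, eq_top_iff.mpr fun z _ => ?_⟩⟩
    let Q := ofA (Submodule.span R (gens : Set D))
    have key : ∀ n (x : H n), DirectSum.lof A ℕ H n x ∈ Q := by
      intro n
      induction n with
      | zero =>
        intro x
        refine (show (⊤ : Submodule A (H 0)) ≤ Q.comap (DirectSum.lof A ℕ H 0) from ?_) trivial
        rw [← hs ⟨0, Nat.succ_pos d⟩, Submodule.span_le]
        intro y hy
        refine Submodule.subset_span ?_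
        simp only [gens, Finset.coe_biUnion, Set.mem_iUnion, Finset.coe_image]
        exact ⟨⟨0, Nat.succ_pos d⟩, by simp, ⟨y, hy, rfl⟩⟩
      | succ n ih =>
        intro x
        by_cases hn : n < d
        · refine (show (⊤ : Submodule A (H (n + 1))) ≤ Q.comap (DirectSum.lof A ℕ H (n + 1)) from ?_) trivial
          rw [← hs ⟨n + 1, by omega⟩, Submodule.span_le]
          intro y hy
          refine Submodule.subset_span ?_
          simp only [gens, Finset.coe_biUnion, Set.mem_iUnion, Finset.coe_image]
          exact ⟨⟨n + 1, by omega⟩, by simp, ⟨y, hy, rfl⟩⟩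
        · obtain ⟨y, rfl⟩ := hd n (by omega) x
          rw [map_sum]
          refine Q.sum_mem fun i _ => ?_
          rw [← op_lof, ← hX]
          exact (Submodule.span R (gens : Set D)).smul_mem _ (ih (y i))
    show z ∈ Q
    induction z using DirectSum.induction_on with
    | zero => exact Q.zero_mem
    | of m x => rw [← DirectSum.lof_eq_of A]; exact key m x
    | add a b ha hb => exact Q.add_mem (ha trivial) (hb trivial)
  -- the chain of submodules generated in bounded degree
  let W : ℕ →o Submodule R D :=
    { toFun := fun N => Submodule.span R {z | ∃ n, n ≤ N ∧ ∃ x ∈ S n, z = DirectSum.lof A ℕ H n x}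
      monotone' := fun a b hab => Submodule.span_mono fun z ⟨n, hn, hx⟩ => ⟨n, hn.trans hab, hx⟩ }
  obtain ⟨N, hN⟩ := monotone_stabilizes_iff_noetherian.mpr (inferInstance : IsNoetherian R D) W
  refine ⟨N, fun n hn x hx => ?_⟩
  have hmem : DirectSum.lof A ℕ H (n + 1) x ∈ W N := by
    rw [hN (n + 1) (by omega)]
    exact Submodule.subset_span ⟨n + 1, le_rfl, x, hx, rfl⟩
  let G : Submodule A (H (n + 1)) :=
    ⨆ i : Fin r, (S n).map (T i n)
  let Q : Submodule A D :=
    (⨅ m, (S m).comap (DirectSum.component A ℕ H m)) ⊓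
      ⨅ m, ⨅ (_ : N ≤ m), (⨆ i : Fin r, (S m).map (T i m)).comap (DirectSum.component A ℕ H (m + 1))
  have hQ : ∀ i z, z ∈ Q → op T i z ∈ Q := by
    intro i z hz
    simp only [Q, Submodule.mem_inf, Submodule.mem_iInf, Submodule.mem_comap] at hz ⊢
    refine ⟨fun m => ?_, fun m _ => ?_⟩
    · cases m with
      | zero => rw [(component_op T i z).1]; exact zero_mem _
      | succ m => rw [(component_op T i z).2]; exact hS i m _ (hz.1 m)
    · rw [(component_op T i z).2]
      exact Submodule.mem_iSup_of_mem i (Submodule.mem_map_of_mem (hz.1 m))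
  have hgQ : ∀ z ∈ W N, z ∈ Q := by
    intro z hz
    induction hz using Submodule.span_induction with
    | mem z hz =>
      obtain ⟨k, hk, x, hx, rfl⟩ := hz
      simp only [Q, Submodule.mem_inf, Submodule.mem_iInf, Submodule.mem_comap]
      refine ⟨fun m => ?_, fun m hm => ?_⟩
      · rw [DirectSum.component.of]
        by_cases h : k = m
        · subst h; simpa using hx
        · rw [dif_neg h]; exact zero_mem _
      · rw [DirectSum.component.of, dif_neg (by omega)]; exact zero_mem _
    | zero => exact Q.zero_mem
    | add a b _ _ ha hb => exact Q.add_mem ha hb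
    | smul p a _ ha => exact hclosed Q hQ p a ha
  have h1 := (Submodule.mem_inf.mp (hgQ _ hmem)).2
  simp only [Submodule.mem_iInf, Submodule.mem_comap] at h1
  have h2 := h1 n hn
  rw [DirectSum.component.lof_self] at h2
  obtain ⟨f, hf, rfl⟩ := (Submodule.mem_iSup_iff_exists_finsupp _ _).mp h2
  choose y hy hy' using fun i => Submodule.mem_map.mp (hf i)
  refine ⟨y, hy, ?_⟩
  rw [Finsupp.sum_fintype _ _ (fun _ => rfl)]
  exact Finset.sum_congr rfl fun i _ => (hy' i).symm

end Groth.Agent.FormalFun.GrNoeth
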