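import Groth.Agent.CohLin.Basic
import Groth.Agent.CohDev.Coh
import Groth.Agent.FormalFun.GrNoeth

/-!
# Cohomology of coherent graded systems

A system `M 0, M 1, …` of coherent modules with commuting maps `T i n : M n ⟶ M (n + 1)`, eventually
generated on the members of a finite affine cover (a coherent graded module over `O_X[T₁, …, T_r]`).
If coherent cohomology on `X` is finite, the cohomology of such a system is eventually generated
(`GrSys.gen_cohomology`), so are its stable subfamilies (`GrSys.cohomology_sub_gen`).  Induction on `r`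
through the kernel, image and cokernel of the last operator: no fibre product, no vanishing bound.
-/

set_option autoImplicit false

universe u

open CategoryTheory Limits AlgebraicGeometry Opposite TopologicalSpace Abelian
open Groth.Agent

noncomputable section

namespace Groth.Agent.FormalFun

variable {X : Scheme.{u}}

/-- A finite affine cover. -/
structure AffCov (X : Scheme.{u}) where
  ι : Type u
  U : ι → X.Opens
  isAffine : ∀ k, IsAffineOpen (U k)
  covers : (⊤ : X.Opens) ≤ ⨆ k, U k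

/-- A coherent graded system in `r` operators. -/
structure GrSys (𝒰 : AffCov X) (r : ℕ) where
  M : ℕ → X.Modules
  T : Fin r → ∀ n, M n ⟶ M (n + 1)
  comm : ∀ i j n, T i n ≫ T j (n + 1) = T j n ≫ T i (n + 1)
  coh : ∀ n, Coh.IsCoh (M n)
  gen : ∀ k, ∃ d, GrNoeth.Gen (A := Γ(X, 𝒰.U k)) (H := fun n => Γ(M n, 𝒰.U k))
    (fun i n => CohDev.appLin (T i n) (𝒰.U k)) d

lemma app_comp {M N P : X.Modules} (f : M ⟶ N) (g : N ⟶ P) (U : X.Opens) (x : Γ(M, U)) :
    (f ≫ g).app U x = g.app U (f.app U x) := by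
  rw [Scheme.Modules.Hom.comp_app]; rfl

theorem gen_natural {C : Type*} [Category C] [Abelian C] [HasExt.{u} C] {A B D A' B' D' : C}
    {f : A ⟶ B} {g : B ⟶ D} {w : f ≫ g = 0} (h : (ShortComplex.mk f g w).ShortExact)
    {f' : A' ⟶ B'} {g' : B' ⟶ D'} {w' : f' ≫ g' = 0} (h' : (ShortComplex.mk f' g' w').ShortExact)
    (a : A ⟶ A') (b : B ⟶ B') (d : D ⟶ D') (h₁ : a ≫ f' = f ≫ b) (h₂ : b ≫ g' = g ≫ d)
    {K : C} {n : ℕ} (x : Ext K D n) :
    (x.comp (Ext.mk₀ d) (add_zero n)).comp h'.extClass rfl =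
      (x.comp h.extClass rfl).comp (Ext.mk₀ a) (add_zero (n + 1)) := by
  have e : h.extClass.comp (Ext.mk₀ a) (add_zero 1) = (Ext.mk₀ d).comp h'.extClass (zero_add 1) :=
    ShortComplex.ShortExact.extClass_naturality h h' { τ₁ := a, τ₂ := b, τ₃ := d }
  rw [Ext.comp_assoc_of_second_deg_zero, Ext.comp_assoc_of_third_deg_zero, e]

theorem abMap_sq {M N M' N' : X.Modules} {a : M ⟶ M'} {b : N ⟶ N'} {f : M ⟶ N} {f' : M' ⟶ N'}
    (h : a ≫ f' = f ≫ b) :
    CohLin.abMap a ≫ CohLin.abMap f' = CohLin.abMap f ≫ CohLin.abMap b := by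
  rw [← CohLin.abMap_comp, ← CohLin.abMap_comp, h]

theorem δ_natural {S S' : ShortComplex X.Modules} (hS : S.ShortExact) (hS' : S'.ShortExact) (f : S ⟶ S')
    (n : ℕ) (x : Coh.HH X S.X₃ n) :
    CohLin.hδ hS' n (CohLin.hMap f.τ₃ n x) = CohLin.hMap f.τ₁ (n + 1) (CohLin.hδ hS n x) := by
  rw [CohLin.hδ_apply, CohLin.hδ_apply, CohLin.hMap_apply, CohLin.hMap_apply]
  exact gen_natural (K := CohLin.cst X) (CohLin.shortExact_abSeq (X := X) (S := S) hS)
    (CohLin.shortExact_abSeq (X := X) (S := S') hS')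
    (CohLin.abMap f.τ₁) (CohLin.abMap f.τ₂) (CohLin.abMap f.τ₃) (abMap_sq f.comm₁₂) (abMap_sq f.comm₂₃) x

/-- Cohomology in all degrees finite, for every coherent module. -/
abbrev FiniteCoh (A : Type u) [CommRing A] (X : Scheme.{u}) [X.Over (Spec (CommRingCat.of A))] : Prop :=
  ∀ (M : X.Modules), Coh.IsCoh M → ∀ n, Module.Finite A (Coh.HH X M n)

/-- Cohomology in all degrees finite, for every coherent module supported in `T`. -/
abbrev FiniteOn (A : Type u) [CommRing A] (X : Scheme.{u}) [X.Over (Spec (CommRingCat.of A))] (T : Set X) : Prop :=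
  ∀ (M : X.Modules), Coh.IsCoh M → CohB1.support M ⊆ T → ∀ n, Module.Finite A (Coh.HH X M n)

theorem FiniteCoh.on {A : Type u} [CommRing A] [X.Over (Spec (CommRingCat.of A))] (h : FiniteCoh A X)
    (T : Set X) : FiniteOn A X T := fun M hM _ => h M hM

open Groth.Agent.PullStalk.Sky Groth.Agent.PullStalk.Exact in
theorem support_subset_of_mono {M N : X.Modules} (f : M ⟶ N) [Mono f] :
    CohB1.support M ⊆ CohB1.support N := by
  intro x hx hN
  refine hx (subsingleton_of_forall_eq 0 fun t => ?_)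
  obtain ⟨W, hxW, m, rfl⟩ := exists_germM_eq M x t
  have ht : stalkLin f x (M.presheaf.germ W x hxW m) = 0 := hN.elim _ _
  rw [stalkLin_germ] at ht
  obtain ⟨V, hxV, i₁, _, e⟩ := N.presheaf.germ_eq x hxW hxW _ 0
    (ht.trans (map_zero (N.presheaf.germ W x hxW).hom).symm)
  have hz : QCoh.res M i₁.le m = 0 := QCoh.app_injective_of_mono f V (by
    rw [QCoh.app_res, map_zero]
    exact e.trans (map_zero _))
  exact (M.presheaf.germ_res_apply i₁ x hxV m).symm.trans
    ((congrArg (M.presheaf.germ V x hxV) hz).trans (map_zero _))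

open Groth.Agent.PullStalk.Sky Groth.Agent.PullStalk.Exact in
theorem support_subset_of_epi {M N : X.Modules} (f : M ⟶ N) [Epi f] :
    CohB1.support N ⊆ CohB1.support M := fun x hx hM => hx (subsingleton_of_forall_eq 0 fun t => by
  obtain ⟨s, rfl⟩ := stalk_surjective f x t
  rw [hM.elim s 0, map_zero])

theorem id_eq_zero_of_sections (𝒰 : AffCov X) {M : X.Modules} (hM : M.IsQuasicoherent)
    (h : ∀ k (z : Γ(M, 𝒰.U k)), z = 0) : 𝟙 M = 0 := by
  apply Scheme.Modules.hom_ext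
  intro W
  ext s
  have hpt : ∀ w : W, ∃ (k : 𝒰.ι) (f : Γ(X, 𝒰.U k)), (w : X) ∈ X.basicOpen f ∧ X.basicOpen f ≤ W := by
    intro w
    obtain ⟨k, hk⟩ := Opens.mem_iSup.mp (𝒰.covers (Opens.mem_top (w : X)))
    obtain ⟨f, hf, hwf⟩ := (𝒰.isAffine k).exists_basicOpen_le (V := W) ⟨(w : X), w.2⟩ hk
    exact ⟨k, f, hwf, hf⟩
  choose k f hwf hfW using hpt
  refine QCoh.eq_zero_of_locally_eq_zero M hfW
    (fun w hw => Opens.mem_iSup.mpr ⟨⟨w, hw⟩, hwf ⟨w, hw⟩⟩) _ (fun w => ?_)
  show QCoh.res M (hfW w) s = 0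
  obtain ⟨n, t, ht⟩ := (@QCoh.isLocalizingAt _ M hM _ (𝒰.isAffine (k w)) (f w)).surj (QCoh.res M (hfW w) s)
  rw [h (k w) t, map_zero] at ht
  have hu : IsUnit (QCoh.rres (X.basicOpen_le (f w)) (f w)) := X.toRingedSpace.isUnit_res_basicOpen (f w)
  exact ((hu.pow n).smul_eq_zero).mp ht.symm

variable {𝒰 : AffCov X} {r : ℕ}

namespace GrSys

variable (A : Type u) [CommRing A] [X.Over (Spec (CommRingCat.of A))]

/-- The operators on cohomology. -/
abbrev HT (S : GrSys 𝒰 r) (p : ℕ) : Fin r → ∀ n, Coh.HH X (S.M n) p →ₗ[A] Coh.HH X (S.M (n + 1)) p :=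
  fun i n => CohLin.overLin A (CohLin.hMap (S.T i n) p)

theorem HT_comm (S : GrSys 𝒰 r) (p : ℕ) (i j : Fin r) (n : ℕ) (x : Coh.HH X (S.M n) p) :
    S.HT A p i (n + 1) (S.HT A p j n x) = S.HT A p j (n + 1) (S.HT A p i n x) := by
  show CohLin.hMap _ p (CohLin.hMap _ p x) = CohLin.hMap _ p (CohLin.hMap _ p x)
  rw [← CohLin.hMap_comp, ← CohLin.hMap_comp, S.comm]

end GrSys

theorem sections_sub_gen [IsLocallyNoetherian X] (S : GrSys 𝒰 r) (k : 𝒰.ι)
    (N : ∀ n, Submodule Γ(X, 𝒰.U k) Γ(S.M n, 𝒰.U k))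
    (hN : ∀ i n x, x ∈ N n → (S.T i n).app (𝒰.U k) x ∈ N (n + 1)) :
    ∃ d, ∀ n, d ≤ n → ∀ x ∈ N (n + 1), ∃ y : Fin r → Γ(S.M n, 𝒰.U k),
      (∀ i, y i ∈ N n) ∧ x = ∑ i, (S.T i n).app (𝒰.U k) (y i) := by
  haveI := IsLocallyNoetherian.component_noetherian ⟨𝒰.U k, 𝒰.isAffine k⟩
  haveI := fun n => CohDev.finite_sections (S.coh n) (𝒰.isAffine k)
  exact GrNoeth.exists_sub_gen (A := Γ(X, 𝒰.U k)) (H := fun n => Γ(S.M n, 𝒰.U k))
    (fun i n => CohDev.appLin (S.T i n) (𝒰.U k))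
    (fun i j n x => by
      show (S.T i (n + 1)).app _ ((S.T j n).app _ x) = (S.T j (n + 1)).app _ ((S.T i n).app _ x)
      rw [← app_comp, ← app_comp, S.comm]) (S.gen k) N hN

namespace GrSys

variable (S : GrSys 𝒰 (r + 1))

/-- The last operator. -/
abbrev last (n : ℕ) : S.M n ⟶ S.M (n + 1) := S.T (Fin.last r) n

theorem sq (i : Fin r) (n : ℕ) :
    S.T i.castSucc n ≫ S.last (n + 1) = S.last n ≫ S.T i.castSucc (n + 1) := S.comm _ _ _

abbrev Ker (n : ℕ) : X.Modules := kernel (S.last n)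
abbrev Coker (n : ℕ) : X.Modules := cokernel (S.last n)
abbrev Img (n : ℕ) : X.Modules := Abelian.image (S.last n)
abbrev toImg (n : ℕ) : S.M n ⟶ S.Img n := Abelian.factorThruImage (S.last n)
abbrev ofImg (n : ℕ) : S.Img n ⟶ S.M (n + 1) := kernel.ι (cokernel.π (S.last n))

theorem fac (n : ℕ) : S.toImg n ≫ S.ofImg n = S.last n := Abelian.image.fac _

def kT (i : Fin r) (n : ℕ) : S.Ker n ⟶ S.Ker (n + 1) :=
  kernel.map (S.last n) (S.last (n + 1)) (S.T i.castSucc n) (S.T i.castSucc (n + 1)) (S.sq i n).symm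

def cT (i : Fin r) (n : ℕ) : S.Coker n ⟶ S.Coker (n + 1) :=
  cokernel.map (S.last n) (S.last (n + 1)) (S.T i.castSucc n) (S.T i.castSucc (n + 1)) (S.sq i n).symm

@[reassoc]
theorem kT_ι (i : Fin r) (n : ℕ) : S.kT i n ≫ kernel.ι _ = kernel.ι _ ≫ S.T i.castSucc n :=
  kernel.lift_ι _ _ _

@[reassoc]
theorem π_cT (i : Fin r) (n : ℕ) : cokernel.π _ ≫ S.cT i n = S.T i.castSucc (n + 1) ≫ cokernel.π _ :=
  cokernel.π_desc _ _ _

def iT (i : Fin r) (n : ℕ) : S.Img n ⟶ S.Img (n + 1) :=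
  kernel.map (cokernel.π (S.last n)) (cokernel.π (S.last (n + 1))) (S.T i.castSucc (n + 1)) (S.cT i n)
    (S.π_cT i n)

@[reassoc]
theorem iT_ι (i : Fin r) (n : ℕ) : S.iT i n ≫ S.ofImg (n + 1) = S.ofImg n ≫ S.T i.castSucc (n + 1) :=
  kernel.lift_ι _ _ _

theorem toImg_iT (i : Fin r) (n : ℕ) : S.toImg n ≫ S.iT i n = S.T i.castSucc n ≫ S.toImg (n + 1) := by
  rw [← cancel_mono (S.ofImg (n + 1)), Category.assoc, Category.assoc, iT_ι, fac, ← Category.assoc, fac, S.sq i n]

abbrev seqK (n : ℕ) : ShortComplex X.Modules :=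
  ShortComplex.mk (kernel.ι (S.last n)) (S.toImg n)
    (by rw [← cancel_mono (S.ofImg n), Category.assoc, fac, zero_comp, kernel.condition])

theorem shortExact_seqK (n : ℕ) : (S.seqK n).ShortExact where
  exact := ShortComplex.exact_of_f_is_kernel _ (KernelFork.IsLimit.ofι _ _
    (fun g hg => kernel.lift _ g (by
      have hg' : g ≫ S.toImg n = 0 := hg
      rw [← S.fac n, ← Category.assoc, hg', zero_comp]))
    (fun g hg => kernel.lift_ι _ _ _)
    (fun g hg b hb => by
      apply (cancel_mono (kernel.ι (S.last n))).mp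
      rw [kernel.lift_ι]; exact hb))
  mono_f := inferInstanceAs (Mono (kernel.ι _))
  epi_g := inferInstanceAs (Epi (Abelian.factorThruImage _))

abbrev seqI (n : ℕ) : ShortComplex X.Modules :=
  ShortComplex.mk (S.ofImg n) (cokernel.π (S.last n)) (kernel.condition _)

theorem shortExact_seqI (n : ℕ) : (S.seqI n).ShortExact where
  exact := ShortComplex.exact_of_f_is_kernel _ (kernelIsKernel _)
  mono_f := inferInstanceAs (Mono (kernel.ι _))
  epi_g := inferInstanceAs (Epi (cokernel.π _))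

/-- The system of kernels of the last operator. -/
def kerSys [IsLocallyNoetherian X] : GrSys 𝒰 r where
  M := S.Ker
  T := S.kT
  comm i j n := by
    rw [← cancel_mono (kernel.ι (S.last (n + 1 + 1))), Category.assoc, Category.assoc, kT_ι, kT_ι,
      S.kT_ι_assoc, S.kT_ι_assoc, S.comm]
  coh n := CohDev.isCoh_kernel _ (S.coh n) (S.coh (n + 1)).1
  gen k := by
    obtain ⟨d, hd⟩ := sections_sub_gen S k (fun n => LinearMap.ker (CohDev.appLin (S.last n) (𝒰.U k)))
      (fun i n x hx => by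
        rw [LinearMap.mem_ker] at hx ⊢
        show (S.last (n + 1)).app _ ((S.T i n).app _ x) = 0
        rw [← app_comp, S.comm, app_comp]
        erw [hx]
        exact map_zero _)
    refine ⟨d, fun n hn x => ?_⟩
    obtain ⟨y, hy, hxy⟩ := hd n hn ((kernel.ι (S.last (n + 1))).app (𝒰.U k) x) (by
      rw [LinearMap.mem_ker]
      exact QCoh.app_app_eq_zero (ShortComplex.mk _ _ (kernel.condition (S.last (n + 1)))) _ x)
    choose z hz using fun i => QCoh.exists_app_eq_of_app_eq_zero (S.seqK n) (S.shortExact_seqK n).exact (𝒰.U k) (y i)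
      (QCoh.app_injective_of_mono (S.ofImg n) _ (by
        rw [← app_comp, fac, map_zero]
        exact hy i))
    refine ⟨fun i => z i.castSucc, QCoh.app_injective_of_mono (kernel.ι (S.last (n + 1))) _ ?_⟩
    rw [hxy, Fin.sum_univ_castSucc, map_sum]
    rw [show (S.T (Fin.last r) n).app (𝒰.U k) (y (Fin.last r)) = 0 from hy _, add_zero]
    refine Finset.sum_congr rfl fun i _ => ?_
    show _ = (kernel.ι (S.last (n + 1))).app _ ((S.kT i n).app _ (z i.castSucc))
    rw [← app_comp, kT_ι, app_comp]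
    exact congrArg _ (hz _).symm

/-- The system of cokernels of the last operator. -/
def cokerSys [IsLocallyNoetherian X] : GrSys 𝒰 r where
  M := S.Coker
  T := S.cT
  comm i j n := by
    rw [← cancel_epi (cokernel.π (S.last n)), S.π_cT_assoc, S.π_cT_assoc, π_cT, π_cT,
      ← Category.assoc, ← Category.assoc, S.comm]
  coh n := CohDev.isCoh_cokernel _ (S.coh n).1 (S.coh (n + 1))
  gen k := by
    obtain ⟨d, hd⟩ := S.gen k
    refine ⟨d, fun n hn x => ?_⟩
    haveI := (S.coh (n + 1 + 1)).1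
    haveI := (S.coh (n + 1)).1
    obtain ⟨x', rfl⟩ := QCoh.app_surjective_of_epi (cokernel.π (S.last (n + 1))) (𝒰.isAffine k) x
    obtain ⟨y, rfl⟩ := hd (n + 1) (by omega) x'
    refine ⟨fun i => (cokernel.π (S.last n)).app _ (y i.castSucc), ?_⟩
    rw [Fin.sum_univ_castSucc, map_add, map_sum]
    have h0 : (cokernel.π (S.last (n + 1))).app (𝒰.U k) ((S.T (Fin.last r) (n + 1)).app (𝒰.U k) (y (Fin.last r))) = 0 :=
      QCoh.app_app_eq_zero (ShortComplex.mk _ _ (cokernel.condition (S.last (n + 1)))) _ _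
    erw [h0, add_zero]
    refine Finset.sum_congr rfl fun i _ => ?_
    show _ = (S.cT i n).app _ ((cokernel.π (S.last n)).app _ (y i.castSucc))
    rw [← app_comp, π_cT, app_comp]
    rfl

end GrSys

open GrSys in
/-- The cohomology of a coherent graded system is eventually generated. -/
theorem gen_cohomology [IsLocallyNoetherian X] {A : Type u} [CommRing A] [IsNoetherianRing A]
    [X.Over (Spec (CommRingCat.of A))] {T : Set X} (hfin : FiniteOn A X T) :
    ∀ {r : ℕ} (S : GrSys 𝒰 r) (p : ℕ), [Finite 𝒰.ι] → (∀ n, CohB1.support (S.M n) ⊆ T) → ∃ d, GrNoeth.Gen (S.HT A p) d := by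
  intro r
  induction r with
  | zero =>
    intro S p _ _
    cases nonempty_fintype 𝒰.ι
    choose d hd using S.gen
    refine ⟨Finset.univ.sup d, fun n hn x => ⟨0, ?_⟩⟩
    have h0 : 𝟙 (S.M (n + 1)) = 0 := id_eq_zero_of_sections 𝒰 (S.coh (n + 1)).1 fun k z => by
      obtain ⟨y, hy⟩ := hd k n ((Finset.le_sup (Finset.mem_univ k)).trans hn) z
      simpa using hy
    rw [← CohLin.hMap_id (S.M (n + 1)) p x, h0]
    exact (map_zero (CohLin.hMapHom _ _ p x)).trans (by simp)
  | succ r ih =>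
    intro S p _ hS
    haveI := hfin
    have hC0 : ∀ n, CohB1.support (S.cokerSys.M n) ⊆ T := fun n =>
      (support_subset_of_epi (cokernel.π (S.last n))).trans (hS (n + 1))
    have hK0 : ∀ n, CohB1.support (S.kerSys.M n) ⊆ T := fun n =>
      (support_subset_of_mono (kernel.ι (S.last n))).trans (hS n)
    obtain ⟨dC, hC⟩ := ih S.cokerSys p hC0
    obtain ⟨dK, hK⟩ := ih S.kerSys (p + 1) hK0
    haveI : ∀ n, Module.Finite A (Coh.HH X (S.cokerSys.M n) p) := fun n => hfin _ (S.cokerSys.coh n) (hC0 n) _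
    haveI : ∀ n, Module.Finite A (Coh.HH X (S.kerSys.M n) (p + 1)) := fun n => hfin _ (S.kerSys.coh n) (hK0 n) _
    obtain ⟨dC', hC'⟩ := GrNoeth.exists_sub_gen (S.cokerSys.HT A p) (S.cokerSys.HT_comm A p) ⟨dC, hC⟩
      (fun n => LinearMap.range (CohLin.overLin A (CohLin.hMap (cokernel.π (S.last n)) p)))
      (fun i n x hx => by
        obtain ⟨y, rfl⟩ := hx
        refine ⟨CohLin.hMap (S.T i.castSucc (n + 1)) p y, ?_⟩
        show CohLin.hMap _ p (CohLin.hMap _ p y) = CohLin.hMap (S.cT i n) p (CohLin.hMap _ p y)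
        rw [← CohLin.hMap_comp, ← CohLin.hMap_comp, π_cT])
    have hnat : ∀ (i : Fin r) (n : ℕ) (l : Coh.HH X (S.Img n) p),
        CohLin.hδ (S.shortExact_seqK (n + 1)) p (CohLin.hMap (S.iT i n) p l) =
          CohLin.hMap (S.kT i n) (p + 1) (CohLin.hδ (S.shortExact_seqK n) p l) := fun i n l =>
      δ_natural (S.shortExact_seqK n) (S.shortExact_seqK (n + 1))
        { τ₁ := S.kT i n, τ₂ := S.T i.castSucc n, τ₃ := S.iT i n
          comm₁₂ := S.kT_ι i n
          comm₂₃ := (S.toImg_iT i n).symm } p l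
    obtain ⟨dK', hK'⟩ := GrNoeth.exists_sub_gen (S.kerSys.HT A (p + 1)) (S.kerSys.HT_comm A (p + 1)) ⟨dK, hK⟩
      (fun n => LinearMap.range (CohLin.overLin A (CohLin.hδ (S.shortExact_seqK n) p)))
      (fun i n x hx => by
        obtain ⟨l, rfl⟩ := hx
        exact ⟨CohLin.hMap (S.iT i n) p l, hnat i n l⟩)
    refine ⟨max dC' dK' + 1, fun m hm x => ?_⟩
    obtain ⟨n, rfl⟩ : ∃ n, m = n + 1 := ⟨m - 1, by omega⟩
    obtain ⟨c, hc, hcx⟩ := hC' n (by omega) (CohLin.hMap (cokernel.π (S.last (n + 1))) p x) ⟨x, rfl⟩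
    choose y hy using hc
    let x' : Coh.HH X (S.M (n + 1 + 1)) p := x - ∑ i : Fin r, CohLin.hMap (S.T i.castSucc (n + 1)) p (y i)
    have hx' : CohLin.hMap (cokernel.π (S.last (n + 1))) p x' = 0 := by
      rw [map_sub, map_sum, hcx, sub_eq_zero]
      refine Finset.sum_congr rfl fun i _ => ?_
      rw [← hy i]
      show CohLin.hMap (S.cT i n) p (CohLin.hMap (cokernel.π (S.last n)) p (y i)) = _
      rw [← CohLin.hMap_comp, π_cT, CohLin.hMap_comp]
    obtain ⟨l, hl⟩ := CohLin.exists_hMap_f_eq (S.shortExact_seqI (n + 1)) x' hx'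
    obtain ⟨e, he, hel⟩ := hK' n (by omega) (CohLin.hδ (S.shortExact_seqK (n + 1)) p l) ⟨l, rfl⟩
    choose li hli using he
    obtain ⟨m, hm'⟩ := CohLin.exists_hMap_g_eq (S.shortExact_seqK (n + 1))
      (l - ∑ i : Fin r, CohLin.hMap (S.iT i n) p (li i)) (by
        rw [map_sub, map_sum, hel, sub_eq_zero]
        refine Finset.sum_congr rfl fun i _ => ?_
        rw [hnat, ← hli i]
        rfl)
    refine ⟨Fin.lastCases m (fun i => y i + CohLin.hMap (S.ofImg n) p (li i)), ?_⟩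
    rw [Fin.sum_univ_castSucc]
    simp only [Fin.lastCases_castSucc, Fin.lastCases_last]
    show x = ∑ i : Fin r, CohLin.hMap (S.T i.castSucc (n + 1)) p (y i + CohLin.hMap (S.ofImg n) p (li i)) +
      CohLin.hMap (S.last (n + 1)) p m
    have h1 : CohLin.hMap (S.last (n + 1)) p m =
        x' - ∑ i : Fin r, CohLin.hMap (S.T i.castSucc (n + 1)) p (CohLin.hMap (S.ofImg n) p (li i)) := by
      rw [← S.fac (n + 1), CohLin.hMap_comp, ← hl, hm', map_sub, map_sum]
      congr 1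
      refine Finset.sum_congr rfl fun i _ => ?_
      rw [← CohLin.hMap_comp, iT_ι, CohLin.hMap_comp]
    rw [h1, Finset.sum_congr rfl fun i _ => map_add (CohLin.hMap (S.T i.castSucc (n + 1)) p) _ _, Finset.sum_add_distrib]
    simp only [x']
    abel

/-- Stable subfamilies of the cohomology of a coherent graded system are eventually generated. -/
theorem GrSys.cohomology_sub_gen [IsLocallyNoetherian X] {A : Type u} [CommRing A] [IsNoetherianRing A]
    [X.Over (Spec (CommRingCat.of A))] {T : Set X} (hfin : FiniteOn A X T) [Finite 𝒰.ι] (S : GrSys 𝒰 r)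
    (hS : ∀ n, CohB1.support (S.M n) ⊆ T) (p : ℕ)
    (N : ∀ n, Submodule A (Coh.HH X (S.M n) p))
    (hN : ∀ i n x, x ∈ N n → CohLin.hMap (S.T i n) p x ∈ N (n + 1)) :
    ∃ d, ∀ n, d ≤ n → ∀ x ∈ N (n + 1), ∃ y : Fin r → Coh.HH X (S.M n) p,
      (∀ i, y i ∈ N n) ∧ x = ∑ i, CohLin.hMap (S.T i n) p (y i) := by
  haveI : ∀ n, Module.Finite A (Coh.HH X (S.M n) p) := fun n => hfin _ (S.coh n) (hS n) _
  exact GrNoeth.exists_sub_gen (S.HT A p) (S.HT_comm A p) (gen_cohomology hfin S p hS) N hN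

end Groth.Agent.FormalFun
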