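import Groth.Agent.FormalFun.HomFib
import Groth.Agent.FormalFun.Finite
import Groth.Agent.ExtHom.Compare
import Groth.Agent.ExtHom.Coherent

/-!
# Lifting homomorphisms of vector bundles from the closed fibre
-/

set_option autoImplicit false

universe u

open CategoryTheory Limits AlgebraicGeometry Opposite TopologicalSpace IsLocalRing Abelian
open Groth.Agent

noncomputable section

namespace Groth.Agent.FormalFun

section General

variable {A : Type u} [CommRing A] [IsNoetherianRing A] {X : Scheme.{u}} [X.Over (Spec (CommRingCat.of A))]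
  (Φ : X.Modules ⥤ X.Modules) [Φ.Additive] [PreservesFiniteColimits Φ]
  (hΦ : ∀ (N : X.Modules) (a : A), Φ.map (Formal.smulMod A N a) = Formal.smulMod A (Φ.obj N) a)

include hΦ in
/-- A linear right exact functor commutes with `- / I^n`. -/
theorem exists_modPow_map (I : Ideal A) (n : ℕ) (G : X.Modules) :
    ∃ θ : Formal.modPow I n (Φ.obj G) ≅ Φ.obj (Formal.modPow I n G),
      Formal.modPowπ I n (Φ.obj G) ≫ θ.hom = Φ.map (Formal.modPowπ I n G) := by
  classical
  obtain ⟨s, hs⟩ := IsNoetherian.noetherian (I ^ n)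
  let κ : Type u := ↥s
  let a : κ → A := fun k => k.1
  have hJ : I ^ n = Ideal.span (Set.range a) := by
    rw [show Set.range a = ↑s from Subtype.range_coe]
    exact hs.symm
  have key : ∀ {T : X.Modules} (N : X.Modules) (t : N ⟶ T), (∀ k, Formal.smulMod A N (a k) ≫ t = 0) →
      Formal.smulFamily (I ^ n) N ≫ t = 0 := by
    intro T N t ht
    have key' : ∀ b ∈ Ideal.span (Set.range a), Formal.smulMod A N b ≫ t = 0 := by
      intro b hb
      induction hb using Submodule.span_induction with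
      | mem b hb => obtain ⟨k, rfl⟩ := hb; exact ht k
      | zero => rw [smulMod_zero, zero_comp]
      | add b c _ _ hb hc => rw [smulMod_add, Preadditive.add_comp, hb, hc, add_zero]
      | smul c b _ hb => rw [smul_eq_mul, mul_comm, CohIII.smulMod_mul, Category.assoc, hb, comp_zero]
    apply Sigma.hom_ext
    intro b
    rw [comp_zero, ← Category.assoc, Formal.smulFamily, Sigma.ι_desc]
    exact key' _ (hJ.le b.2)
  let c := combo a G
  have hmem : ∀ k, a k ∈ I ^ n := fun k => hJ.ge (Ideal.subset_span ⟨k, rfl⟩)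
  have hc : c ≫ Formal.modPowπ I n G = 0 := by
    apply biproduct.hom_ext'
    intro k
    rw [comp_zero, ← Category.assoc, show biproduct.ι (fun _ : κ => G) k ≫ c = Formal.smulMod A G (a k) from biproduct.ι_desc _ _]
    exact smulMod_comp_π G (hmem k)
  have hπ : Formal.smulFamily (I ^ n) G ≫ cokernel.π c = 0 := key G _ fun k => by
    rw [show Formal.smulMod A G (a k) = biproduct.ι (fun _ : κ => G) k ≫ c from (biproduct.ι_desc (fun k => Formal.smulMod A G (a k)) k).symm,
      Category.assoc, cokernel.condition, comp_zero]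
  have h' : Φ.map c ≫ Formal.modPowπ I n (Φ.obj G) = 0 := by
    have hid : 𝟙 (⨁ fun _ : κ => G) = ∑ k, biproduct.π (fun _ : κ => G) k ≫ biproduct.ι (fun _ : κ => G) k := by
      apply biproduct.hom_ext'
      intro j
      rw [Category.comp_id, Preadditive.comp_sum, Finset.sum_eq_single j
        (fun k _ hk => by rw [biproduct.ι_π_ne_assoc _ (Ne.symm hk), zero_comp]) (by simp),
        biproduct.ι_π_self_assoc]
    rw [← Category.id_comp c, hid, Preadditive.sum_comp, Functor.map_sum, Preadditive.sum_comp]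
    refine Finset.sum_eq_zero fun k _ => ?_
    rw [Category.assoc, show biproduct.ι (fun _ : κ => G) k ≫ c = Formal.smulMod A G (a k) from biproduct.ι_desc _ _,
      Functor.map_comp, hΦ, Category.assoc]
    exact (congrArg (_ ≫ ·) (smulMod_comp_π (Φ.obj G) (hmem k))).trans comp_zero
  have hΦπ : Formal.smulFamily (I ^ n) (Φ.obj G) ≫ Φ.map (Formal.modPowπ I n G) = 0 := key _ _ fun k => by
    rw [← hΦ, ← Φ.map_comp]
    exact (congrArg Φ.map (smulMod_comp_π G (hmem k))).trans (Φ.map_zero _ _)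
  let u : Formal.modPow I n (Φ.obj G) ⟶ Φ.obj (Formal.modPow I n G) := cokernel.desc _ _ hΦπ
  let v : Φ.obj (Formal.modPow I n G) ⟶ Formal.modPow I n (Φ.obj G) :=
    Φ.map (cokernel.desc _ (cokernel.π c) hπ) ≫ (PreservesCokernel.iso Φ c).hom ≫ cokernel.desc _ _ h'
  have hv : Φ.map (Formal.modPowπ I n G) ≫ v = Formal.modPowπ I n (Φ.obj G) := by
    show Φ.map _ ≫ Φ.map _ ≫ _ ≫ _ = _
    refine Eq.trans (Category.assoc _ _ _).symm ?_
    refine Eq.trans (congrArg (· ≫ _) ((Φ.map_comp _ _).symm.trans (congrArg Φ.map (cokernel.π_desc _ _ _)))) ?_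
    refine Eq.trans (PreservesCokernel.π_iso_hom_assoc _ _ _) ?_
    exact cokernel.π_desc _ _ _
  haveI : Epi (Formal.modPowπ I n G) := inferInstanceAs (Epi (cokernel.π _))
  haveI : Epi (Formal.modPowπ I n (Φ.obj G)) := inferInstanceAs (Epi (cokernel.π _))
  refine ⟨⟨u, v, ?_, ?_⟩, cokernel.π_desc _ _ _⟩
  · rw [← cancel_epi (Formal.modPowπ I n (Φ.obj G)), ← Category.assoc, Category.comp_id]
    exact (congrArg (· ≫ v) (cokernel.π_desc _ _ _)).trans hv
  · rw [← cancel_epi (Φ.map (Formal.modPowπ I n G)), ← Category.assoc, hv, Category.comp_id]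
    exact cokernel.π_desc _ _ _

end General

/-- `Hom(F, N) = H⁰(X, ℋom(F, N))`, naturally in `N`. -/
theorem exists_homHH₀ {X : Scheme.{u}} (F : X.Modules) [DCoh.HasSheafHom F] :
    ∃ e : ∀ N : X.Modules, (F ⟶ N) ≃ Coh.HH X ((DCoh.sheafHom F).obj N) 0,
      ∀ {N N' : X.Modules} (φ : N ⟶ N') (f : F ⟶ N),
        e N' (f ≫ φ) = CohLin.hMap ((DCoh.sheafHom F).map φ) 0 (e N f) := by
  obtain ⟨θ₀, hθ₀⟩ := ExtHom.exists_constUnit (Opens.grothendieckTopology X) X.ringCatSheaf
  let e : ∀ N : X.Modules, (F ⟶ N) ≃ Coh.HH X ((DCoh.sheafHom F).obj N) 0 := fun N =>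
    ((ExtHom.tensorUnitIso F).homFromEquiv.symm.trans ((DCoh.sheafHomAdj F).homEquiv _ _)).trans
      ((Equiv.ofBijective _ (hθ₀ ((DCoh.sheafHom F).obj N))).trans Ext.homEquiv₀.symm)
  refine ⟨e, fun {N N'} φ f => ?_⟩
  show Ext.mk₀ (θ₀ ≫ (SheafOfModules.toSheaf X.ringCatSheaf).map
      ((DCoh.sheafHomAdj F).homEquiv _ N' ((ExtHom.tensorUnitIso F).hom ≫ f ≫ φ))) =
    (Ext.mk₀ (θ₀ ≫ (SheafOfModules.toSheaf X.ringCatSheaf).map
      ((DCoh.sheafHomAdj F).homEquiv _ N ((ExtHom.tensorUnitIso F).hom ≫ f)))).comp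
      (Ext.mk₀ (CohLin.abMap ((DCoh.sheafHom F).map φ))) (add_zero 0)
  refine Eq.trans ?_ (Ext.mk₀_comp_mk₀ _ _).symm
  refine congrArg Ext.mk₀ (Eq.trans (congrArg (θ₀ ≫ ·) ?_) (Category.assoc _ _ _).symm)
  refine Eq.trans (congrArg (SheafOfModules.toSheaf X.ringCatSheaf).map ?_) (Functor.map_comp _ _ _)
  refine Eq.trans (congrArg ((DCoh.sheafHomAdj F).homEquiv _ N') (Category.assoc _ _ _).symm) ?_
  exact (DCoh.sheafHomAdj F).homEquiv_naturality_right _ φ

section Lift

variable (A : Type u) [CommRing A] [IsNoetherianRing A] [IsLocalRing A] (X : Scheme.{u})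
  [X.Over (Spec (CommRingCat.of A))] [IsProper (X ↘ Spec (CommRingCat.of A))]

theorem exists_hom_lift (F G : X.Modules) [DCoh.HasSheafHom F]
    [DCoh.HasSheafHom ((Scheme.Modules.pullback (cι A X)).obj F)]
    (hF : FlatMod.IsFinLocFree F) (hG : Coh.IsCoh G) (hfl : FlatMod.IsFlatOver (X ↘ Spec (CommRingCat.of A)) G)
    (hq : Coh.IsQCoh ((DCoh.sheafHom ((Scheme.Modules.pullback (cι A X)).obj F)).obj
      ((Scheme.Modules.pullback (cι A X)).obj G)))
    (h1 : Subsingleton (Coh.HH (cfib A X) ((DCoh.sheafHom ((Scheme.Modules.pullback (cι A X)).obj F)).obj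
      ((Scheme.Modules.pullback (cι A X)).obj G)) 1))
    (u₀ : (Scheme.Modules.pullback (cι A X)).obj F ⟶ (Scheme.Modules.pullback (cι A X)).obj G) :
    ∃ u : F ⟶ G, (Scheme.Modules.pullback (cι A X)).map u = u₀ := by
  haveI := isLocallyNoetherian_of_proper A X
  haveI := compactSpace_of_proper A X
  haveI := isClosedImmersion_cι A X
  haveI : G.IsQuasicoherent := hG.1
  haveI := ExtHom.additive_sheafHom F
  haveI := ExtHom.preservesFiniteLimits_sheafHom F
  haveI := ExtHom.preservesFiniteColimits_sheafHom hF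
  let π := X ↘ Spec (CommRingCat.of A)
  let m := maximalIdeal A
  let Φ := DCoh.sheafHom F
  let ι := cι A X
  have hΦ : ∀ (N : X.Modules) (a : A), Φ.map (Formal.smulMod A N a) = Formal.smulMod A (Φ.obj N) a :=
    fun N a => ExtHom.sheafHom_map_smulModΓ F N _
  obtain ⟨ψ⟩ := nonempty_tAUnit (A := A) G
  choose θ hθ using fun n => exists_iso_tA_of G ψ m n
  choose σ hσ using fun n => exists_modPow_map Φ hΦ m n G
  obtain ⟨ε, hε⟩ := exists_iso_unit A X G
  -- `H¹(Φ(G ⊗ V))` vanishes for vector spaces over the residue field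
  let Z : ModuleCat.{u} A → Prop := fun V => Subsingleton (Coh.HH X (Φ.obj (CBC.tA G V)) 1)
  have hiso : ∀ {M N : X.Modules} (_ : M ≅ N), Subsingleton (Coh.HH X M 1) → Subsingleton (Coh.HH X N 1) :=
    fun {M N} e h => subsingleton_of_forall_eq 0 fun x => by
      rw [← CohLin.hMap_id N 1 x, ← e.inv_hom_id, CohLin.hMap_comp, h.elim (CohLin.hMap e.inv 1 x) 0, map_zero]
  have hbase : Z (ModuleCat.of A (A ⧸ m ^ 1)) := by
    obtain ⟨e⟩ := nonempty_homPushIso ι F
    refine hiso (Φ.mapIso (ε.symm ≪≫ θ 1)) (hiso (e.app _).symm ?_)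
    haveI := hq
    exact subsingleton_HH_push ι _ 1 h1
  have hext : ∀ (S : ShortComplex (ModuleCat.{u} A)), S.ShortExact → Z S.X₁ → Z S.X₃ → Z S.X₂ := by
    intro S hS h₁ h₃
    have hS' := (tA_shortExact G hfl hS).map_of_exact Φ
    refine subsingleton_of_forall_eq 0 fun x => ?_
    obtain ⟨y, rfl⟩ := CohLin.exists_hMap_f_eq hS' x (h₃.elim _ _)
    exact (congrArg _ (h₁.elim y 0)).trans (map_zero _)
  have htrans : ∀ {M N : ModuleCat.{u} A} (_ : M ≅ N), Z M → Z N := fun {M N} e h =>
    hiso (Φ.mapIso ((CohIII.tensorAFunctor A G).mapIso e)) h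
  let k := A ⧸ m
  have hk : Z (ModuleCat.of A k) :=
    htrans (Submodule.quotEquivOfEq _ _ (pow_one m)).toModuleIso hbase
  have hpow : ∀ r : ℕ, Z (ModuleCat.of A (Fin r → k)) := by
    intro r
    induction r with
    | zero =>
      have hz : IsZero (ModuleCat.of A (Fin 0 → k)) := ModuleCat.isZero_of_subsingleton _
      refine subsingleton_of_forall_eq 0 fun x => ?_
      rw [← CohLin.hMap_id _ 1 x, ← Φ.map_id, show 𝟙 (CBC.tA G (ModuleCat.of A (Fin 0 → k))) =
        CBC.tAMap G (mulA (ModuleCat.of A (Fin 0 → k)) 0) from by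
          rw [show mulA (ModuleCat.of A (Fin 0 → k)) 0 = 𝟙 _ from hz.eq_of_src _ _]
          exact ((CohIII.tensorAFunctor A G).map_id _).symm,
        tAMap_mulA, smulMod_zero, Φ.map_zero]
      exact map_zero (CohLin.hMapHom _ _ 1 x)
    | succ r ih =>
      let f : k →ₗ[A] (Fin (r + 1) → k) := LinearMap.single A (fun _ : Fin (r + 1) => k) 0
      let g : (Fin (r + 1) → k) →ₗ[A] (Fin r → k) := LinearMap.funLeft A k Fin.succ
      let S : ShortComplex (ModuleCat.{u} A) := ShortComplex.mk (ModuleCat.ofHom f) (ModuleCat.ofHom g)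
        (ModuleCat.hom_ext (LinearMap.ext fun x => funext fun j =>
          show (Pi.single (M := fun _ : Fin (r + 1) => k) 0 x) (Fin.succ j) = 0 from Pi.single_eq_of_ne (Fin.succ_ne_zero j) _))
      refine hext S
        { exact := (ShortComplex.ShortExact.moduleCat_exact_iff_function_exact S).2 fun y => ?_
          mono_f := (ModuleCat.mono_iff_injective _).2
            (show Function.Injective (Pi.single (M := fun _ : Fin (r + 1) => k) 0) from Pi.single_injective _)
          epi_g := (ModuleCat.epi_iff_surjective _).2 fun y =>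
            ⟨Fin.cons 0 y, funext fun j => by simp [S, g, LinearMap.funLeft]⟩ } hk ih
      refine ⟨fun hy => ⟨y 0, funext fun j => ?_⟩, ?_⟩
      · show (Pi.single (M := fun _ : Fin (r + 1) => k) 0 (y 0)) j = y j
        rcases Fin.eq_zero_or_eq_succ j with rfl | ⟨i, rfl⟩
        · exact Pi.single_eq_same _ _
        · exact (Pi.single_eq_of_ne (Fin.succ_ne_zero i) _).trans (congrFun hy i).symm
      · rintro ⟨x, rfl⟩
        exact funext fun j =>
          show (Pi.single (M := fun _ : Fin (r + 1) => k) 0 x) (Fin.succ j) = 0 from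
            Pi.single_eq_of_ne (Fin.succ_ne_zero j) _
  -- lifting from level to level
  let q : ∀ n, ModuleCat.of A (A ⧸ m ^ (n + 1)) ⟶ ModuleCat.of A (A ⧸ m ^ n) := fun n =>
    ModuleCat.ofHom (Submodule.factor (Ideal.pow_le_pow_right (Nat.le_succ n)))
  have hlift : ∀ n, 1 ≤ n → Function.Surjective (CohLin.hMap (Φ.map (CBC.tAMap G (q n))) 0) := by
    intro n hn y
    let V : Submodule A (A ⧸ m ^ (n + 1)) := LinearMap.ker (q n).hom
    haveI : Module.Finite A V := Module.Finite.iff_fg.2 (IsNoetherian.noetherian _)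
    have hV : Z (ModuleCat.of A V) := by
      have htor : Module.IsTorsionBySet A V (m : Set A) := by
        rintro ⟨v, hv⟩ ⟨a, ha⟩
        obtain ⟨b, rfl⟩ := Submodule.Quotient.mk_surjective _ v
        have hb : b ∈ m ^ n := (Submodule.Quotient.mk_eq_zero _).1 hv
        exact Subtype.ext ((Submodule.Quotient.mk_eq_zero _).2 (by
          show a * b ∈ m ^ (n + 1)
          rw [pow_succ']
          exact Ideal.mul_mem_mul ha hb))
      letI := htor.module
      haveI : IsScalarTower A (A ⧸ m) V := htor.isScalarTower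
      haveI : Module.Finite (A ⧸ m) V := Module.Finite.of_restrictScalars_finite A (A ⧸ m) V
      letI := Ideal.Quotient.field m
      let b := Module.finBasis (A ⧸ m) V
      exact htrans (b.equivFun.symm.restrictScalars A).toModuleIso (hpow _)
    let S : ShortComplex (ModuleCat.{u} A) := ShortComplex.mk (ModuleCat.ofHom V.subtype) (q n)
      (ModuleCat.hom_ext (LinearMap.ext fun v => v.2))
    have hS : S.ShortExact :=
      { exact := (ShortComplex.ShortExact.moduleCat_exact_iff_function_exact S).2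
          (LinearMap.exact_subtype_ker_map (q n).hom)
        mono_f := (ModuleCat.mono_iff_injective _).2 Subtype.val_injective
        epi_g := (ModuleCat.epi_iff_surjective _).2 (Submodule.factor_surjective (Ideal.pow_le_pow_right (Nat.le_succ n))) }
    exact CohLin.exists_hMap_g_eq ((tA_shortExact G hfl hS).map_of_exact Φ) y (hV.elim _ _)
  -- the completion of `H⁰(Φ G)`
  let H := Φ.obj G
  have hH : Coh.IsCoh H := ExtHom.isCoh_sheafHom hF hG
  let τ : ∀ n, Formal.modPow m n H ≅ Φ.obj (CBC.tA G (ModuleCat.of A (A ⧸ m ^ n))) :=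
    fun n => σ n ≪≫ Φ.mapIso (θ n)
  have hτ : ∀ n, Formal.modPowπ m n H ≫ (τ n).hom = Φ.map (ψ.inv ≫ CBC.tAMap G (quotA (m ^ n))) := fun n => by
    rw [Iso.trans_hom, ← Category.assoc, hσ, Functor.mapIso_hom, ← Φ.map_comp, hθ]
  have hτ' : ∀ n, 1 ≤ n → Function.Surjective (CohLin.hMap (Formal.modPowTrans m n H) 0) := by
    intro n hn y
    have e : Formal.modPowTrans m n H ≫ (τ n).hom = (τ (n + 1)).hom ≫ Φ.map (CBC.tAMap G (q n)) := by
      haveI : Epi (Formal.modPowπ m (n + 1) H) := inferInstanceAs (Epi (cokernel.π _))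
      rw [← cancel_epi (Formal.modPowπ m (n + 1) H), ← Category.assoc, Formal.modPowπ_trans, hτ, ← Category.assoc, hτ,
        ← Φ.map_comp, Category.assoc]
      refine congrArg (fun t => Φ.map (ψ.inv ≫ t)) ?_
      refine Eq.trans (congrArg (CBC.tAMap G) ?_) ((CohIII.tensorAFunctor A G).map_comp _ _)
      exact ModuleCat.hom_ext (LinearMap.ext fun x => rfl)
    obtain ⟨x, hx⟩ := hlift n hn (CohLin.hMap (τ n).hom 0 y)
    refine ⟨CohLin.hMap (τ (n + 1)).inv 0 x, ?_⟩
    have e' : (τ (n + 1)).inv ≫ Formal.modPowTrans m n H = Φ.map (CBC.tAMap G (q n)) ≫ (τ n).inv := by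
      rw [Iso.inv_comp_eq, ← Category.assoc, ← e, Category.assoc, Iso.hom_inv_id, Category.comp_id]
    rw [← CohLin.hMap_comp, e', CohLin.hMap_comp, hx, ← CohLin.hMap_comp, Iso.hom_inv_id, CohLin.hMap_id]
  have hsurj : Function.Surjective (Formal.toHHmodPow m H 0 0) := by
    intro y
    obtain ⟨c, hc⟩ := mittag_leffler m (finiteCoh_of_proper A X) hH 0
    have hall : ∀ k, ∃ z, CohLin.hMap ((Formal.completion m H).map (homOfLE (Nat.zero_le k)).op) 0 z = y := by
      intro k
      induction k with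
      | zero =>
        refine ⟨y, ?_⟩
        rw [show (homOfLE (Nat.zero_le 0)).op = 𝟙 (op 0) from rfl, CategoryTheory.Functor.map_id]
        exact CohLin.hMap_id _ 0 y
      | succ k ih =>
        obtain ⟨z, rfl⟩ := ih
        obtain ⟨z', rfl⟩ := hτ' (k + 1) (Nat.succ_pos k) z
        refine ⟨z', ?_⟩
        rw [show (homOfLE (Nat.zero_le (k + 1))).op = (homOfLE (Nat.le_succ k)).op ≫ (homOfLE (Nat.zero_le k)).op from rfl,
          Functor.map_comp, completion_map_succ]
        exact CohLin.hMap_comp _ _ 0 z'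
    obtain ⟨z, hz⟩ := hall c
    exact (hc 0 c (Nat.zero_le c) (by omega)).le ⟨z, hz⟩
  have hunit : Function.Surjective
      (CohLin.hMap (Φ.map ((Scheme.Modules.pullbackPushforwardAdjunction ι).unit.app G)) 0) := by
    intro y
    obtain ⟨x, hx⟩ := hsurj (CohLin.hMap (σ 1).inv 0 (CohLin.hMap (Φ.map ε.inv) 0 y))
    refine ⟨x, ?_⟩
    rw [← hε, Φ.map_comp, CohLin.hMap_comp, ← hσ, CohLin.hMap_comp]
    rw [toHHmodPow_eq] at hx
    rw [hx, ← CohLin.hMap_comp (σ 1).inv, Iso.inv_hom_id, CohLin.hMap_id, ← CohLin.hMap_comp, ← Φ.map_comp,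
      Iso.inv_hom_id, Φ.map_id, CohLin.hMap_id]
  obtain ⟨e, he⟩ := exists_homHH₀ F
  let adj := Scheme.Modules.pullbackPushforwardAdjunction ι
  obtain ⟨z, hz⟩ := hunit (e _ (adj.homEquiv _ _ u₀))
  refine ⟨(e G).symm z, (adj.homEquiv _ _).injective ?_⟩
  rw [Adjunction.homEquiv_unit]
  refine Eq.trans (adj.unit.naturality ((e G).symm z)).symm ((e _).injective ?_)
  refine (he (adj.unit.app G) ((e G).symm z)).trans ((congrArg _ ((e G).apply_symm_apply z)).trans ?_)
  exact hz

end Lift

end Groth.Agent.FormalFun
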