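import Groth.Agent.FormalFun.Connected
import Groth.Agent.RegLoc.Completion
import Groth.Agent.S2363
import Mathlib.AlgebraicGeometry.Morphisms.Flat
import Mathlib.RingTheory.AdicCompletion.LocalRing
import Mathlib.Algebra.Category.Ring.Constructions

/-!
# Separating clopen pieces of the fibres of a proper morphism

* `exists_complete_ext`: complete flat local extensions with prescribed residue field.
* `exists_section_separating`: for `f : X ⟶ Y` proper, `Y` locally Noetherian, two disjoint closed sets covering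
  the fibre over `y` are separated on that fibre by a section over the preimage of any affine `V ∋ y`.
-/

set_option autoImplicit false

universe u

open CategoryTheory Limits AlgebraicGeometry Opposite TopologicalSpace TensorProduct
open Groth.Agent

noncomputable section

namespace Groth.Agent.FormalFun

/-- A complete Noetherian local ring, flat over `R`, with residue field `K`. -/
theorem exists_complete_ext (R : Type u) [CommRing R] [IsNoetherianRing R] [IsLocalRing R]
    (K : Type u) [Field K] (ψ : IsLocalRing.ResidueField R →+* K) :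
    ∃ (B : Type u) (_ : CommRing B) (_ : IsLocalRing B), IsNoetherianRing B ∧
      IsAdicComplete (IsLocalRing.maximalIdeal B) B ∧
      ∃ (ι : R →+* B) (ρ : B →+* K), ι.Flat ∧ IsLocalHom ι ∧ Function.Surjective ρ ∧
        RingHom.ker ρ = IsLocalRing.maximalIdeal B ∧ ρ.comp ι = ψ.comp (IsLocalRing.residue R) := by
  letI : Algebra (IsLocalRing.ResidueField R) K := ψ.toAlgebra
  obtain ⟨B₀, _, _, hn, hl, hlh, hfl, e, he⟩ := S2363.result (A := R) K
  haveI := hn
  haveI := hl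
  haveI := hlh
  haveI := hfl
  let B := AdicCompletion (IsLocalRing.maximalIdeal B₀) B₀
  haveI : IsNoetherianRing B := RegLoc.Completion.isNoetherianRing_adicCompletion' _
  let ρ₀ : B₀ →+* K := e.toRingHom.comp (Ideal.Quotient.mk _)
  have hρ₀ : Function.Surjective ρ₀ := e.surjective.comp Ideal.Quotient.mk_surjective
  have hk₀ : RingHom.ker ρ₀ = IsLocalRing.maximalIdeal B₀ := by
    haveI : (RingHom.ker ρ₀).IsMaximal := RingHom.ker_isMaximal_of_surjective ρ₀ hρ₀
    exact IsLocalRing.eq_maximalIdeal ‹_›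
  let ev : B →+* B₀ ⧸ IsLocalRing.maximalIdeal B₀ := (AdicCompletion.evalOneₐ _).toRingHom
  have hev : ∀ b, ev (algebraMap B₀ B b) = Ideal.Quotient.mk _ b := fun b =>
    RingHom.congr_fun (AdicCompletion.evalOneₐ_comp_algebraMap_eq_mk (I := IsLocalRing.maximalIdeal B₀)) b
  let ρ₁ : B₀ ⧸ IsLocalRing.maximalIdeal B₀ →+* K := Ideal.Quotient.lift _ ρ₀ fun b hb => (hk₀.symm ▸ hb : b ∈ RingHom.ker ρ₀)
  refine ⟨B, inferInstance, inferInstance, inferInstance, inferInstance, (algebraMap B₀ B).comp (algebraMap R B₀),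
    ρ₁.comp ev, ?_, ?_, ?_, ?_, ?_⟩
  · exact RingHom.Flat.comp (RingHom.flat_algebraMap_iff.mpr hfl) (RingHom.flat_algebraMap_iff.mpr inferInstance)
  · haveI : IsLocalHom (algebraMap B₀ B) := AdicCompletion.algebraMap_isLocalHom_of_fg (IsNoetherian.noetherian _)
    exact RingHom.isLocalHom_comp _ _
  · intro k
    obtain ⟨b, rfl⟩ := hρ₀ k
    exact ⟨algebraMap B₀ B b, (congrArg ρ₁ (hev b)).trans (Ideal.Quotient.lift_mk _ _ _)⟩
  · haveI : (RingHom.ker (ρ₁.comp ev)).IsMaximal := RingHom.ker_isMaximal_of_surjective _ (by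
      intro k
      obtain ⟨b, rfl⟩ := hρ₀ k
      exact ⟨algebraMap B₀ B b, (congrArg ρ₁ (hev b)).trans (Ideal.Quotient.lift_mk _ _ _)⟩)
    exact IsLocalRing.eq_maximalIdeal ‹_›
  · ext a
    show ρ₁ (ev (algebraMap B₀ B (algebraMap R B₀ a))) = _
    rw [hev]
    exact he a

variable {X Y : Scheme.{u}} (f : X ⟶ Y) {V : Y.Opens} (hV : IsAffineOpen V)

section

variable {B : Type u} [CommRing B] (φ : Γ(Y, V) →+* B)

/-- `Spec B → Y` through `V`. -/
def specTo : Spec (CommRingCat.of B) ⟶ Y := Spec.map (CommRingCat.ofHom φ) ≫ hV.fromSpec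

theorem flat_specTo (hφ : φ.Flat) : Flat (specTo hV φ) := by
  haveI : Flat (Spec.map (CommRingCat.ofHom φ)) := (HasRingHomProperty.Spec_iff (P := @Flat)).mpr hφ
  unfold specTo
  infer_instance

theorem top_le_specTo : (⊤ : (Spec (CommRingCat.of B)).Opens) ≤ specTo hV φ ⁻¹ᵁ V := fun x _ => by
  show (specTo hV φ).base x ∈ V
  have : hV.fromSpec.base ((Spec.map (CommRingCat.ofHom φ)).base x) ∈ (Set.range hV.fromSpec.base) := ⟨_, rfl⟩
  rw [hV.range_fromSpec] at this
  exact this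

theorem specTo_appLE :
    (specTo hV φ).appLE V ⊤ (top_le_specTo hV φ) = CommRingCat.ofHom φ ≫ (Scheme.ΓSpecIso (CommRingCat.of B)).inv := by
  rw [Scheme.ΓSpecIso_inv_naturality]
  refine Eq.trans ?_ (congrArg (fun z => (Scheme.ΓSpecIso (CommRingCat.of Γ(Y, V))).inv ≫ z)
    (Scheme.Hom.appLE_eq_app (f := Spec.map (CommRingCat.ofHom φ)) (U := ⊤)))
  refine (Scheme.Hom.appLE_comp_appLE (Spec.map (CommRingCat.ofHom φ)) hV.fromSpec V ⊤ ⊤
    (le_of_eq hV.fromSpec_preimage_self.symm) le_rfl).symm.trans ?_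
  congr 1
  rw [Scheme.Hom.appLE, hV.fromSpec_app_self, Category.assoc]
  refine Eq.trans ?_ (Category.comp_id _)
  refine congrArg ((Scheme.ΓSpecIso (CommRingCat.of Γ(Y, V))).inv ≫ ·) ?_
  exact ((Spec Γ(Y, V)).presheaf.map_comp _ _).symm.trans
    ((congrArg (Spec Γ(Y, V)).presheaf.map (Subsingleton.elim _ _)).trans ((Spec Γ(Y, V)).presheaf.map_id _))

/-- The base change of `X` to `Spec B`. -/
abbrev bcX : Scheme.{u} := pullback f (specTo hV φ)

instance : (bcX f hV φ).Over (Spec (CommRingCat.of B)) := ⟨pullback.snd f (specTo hV φ)⟩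

instance [IsProper f] : IsProper (bcX f hV φ ↘ Spec (CommRingCat.of B)) :=
  inferInstanceAs (IsProper (pullback.snd f (specTo hV φ)))

theorem bc_le : (⊤ : (bcX f hV φ).Opens) ≤ pullback.fst f (specTo hV φ) ⁻¹ᵁ (f ⁻¹ᵁ V) := fun x _ => by
  show f.base ((pullback.fst f (specTo hV φ)).base x) ∈ V
  rw [← Scheme.Hom.comp_apply, pullback.condition, Scheme.Hom.comp_apply]
  exact top_le_specTo hV φ trivial

/-- Pullback of sections of `X` over `f⁻¹V`. -/
def bcPull : Γ(X, f ⁻¹ᵁ V) ⟶ Γ(bcX f hV φ, ⊤) :=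
  (pullback.fst f (specTo hV φ)).appLE (f ⁻¹ᵁ V) ⊤ (bc_le f hV φ)

theorem isPushout_bc [IsProper f] (hφ : φ.Flat) :
    IsPushout (f.app V) (CommRingCat.ofHom φ) (bcPull f hV φ)
      (CommRingCat.ofHom (Coh.toGlobal (bcX f hV φ ↘ Spec (CommRingCat.of B)))) := by
  haveI := flat_specTo hV φ hφ
  have hUY : (⊤ : (bcX f hV φ).Opens) = pullback.fst f (specTo hV φ) ⁻¹ᵁ (f ⁻¹ᵁ V) ⊓
      pullback.snd f (specTo hV φ) ⁻¹ᵁ ⊤ :=
    le_antisymm (le_inf (bc_le f hV φ) le_top) le_top
  have hqc : IsCompact (↑(f ⁻¹ᵁ V) : Set X) := f.isCompact_preimage hV.isCompact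
  have hqs : IsQuasiSeparated (↑(f ⁻¹ᵁ V) : Set X) :=
    f.isQuasiSeparated_preimage hV.isQuasiSeparated
  have hi : IsIso (pushoutSection (IsPullback.of_hasPullback f (specTo hV φ)) (top_le_specTo hV φ) (le_refl (f ⁻¹ᵁ V)) hUY) :=
    isIso_pushoutSection_of_isQuasiSeparated_of_flat_right _ _ _ _ hV (isAffineOpen_top _) hqc hqs
  have h := (isIso_pushoutSection_iff ..).mp hi
  rw [Scheme.Hom.appLE_eq_app, specTo_appLE] at h
  refine h.of_iso (Iso.refl _) (Iso.refl _) (Scheme.ΓSpecIso (CommRingCat.of B)) (Iso.refl _) ?_ ?_ ?_ ?_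
  · simp
  · simp
  · simp [bcPull]
  · simp only [Iso.refl_hom, Category.comp_id]
    ext b
    show _ = (pullback.snd f (specTo hV φ)).appTop ((Scheme.ΓSpecIso (CommRingCat.of B)).inv ((Scheme.ΓSpecIso (CommRingCat.of B)).hom b))
    refine Eq.trans ?_ (congrArg (fun z => (pullback.snd f (specTo hV φ)).appTop z)
      (Iso.hom_inv_id_apply (Scheme.ΓSpecIso (CommRingCat.of B)) b).symm)
    exact ConcreteCategory.congr_hom (Scheme.Hom.appLE_eq_app (f := pullback.snd f (specTo hV φ)) (U := ⊤)) b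

theorem toGlobal_φ (v : Γ(Y, V)) [IsProper f] (hφ : φ.Flat) :
    Coh.toGlobal (bcX f hV φ ↘ Spec (CommRingCat.of B)) (φ v) = bcPull f hV φ (f.app V v) :=
  (ConcreteCategory.congr_hom (isPushout_bc f hV φ hφ).w v).symm

/-- Every global function on the base change is, modulo `mB`, the pullback of a section over `f⁻¹V`. -/
theorem exists_approx [IsProper f] (hφ : φ.Flat) (m : Ideal B)
    (hres : ∀ β : B, ∃ v w : Γ(Y, V), IsUnit (φ w) ∧ φ w * β - φ v ∈ m) (a : Γ(bcX f hV φ, ⊤)) :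
    ∃ (w : Γ(Y, V)) (b : Γ(X, f ⁻¹ᵁ V)), IsUnit (φ w) ∧
      (bcPull f hV φ (f.app V w)) * a - bcPull f hV φ b ∈
        m.map (Coh.toGlobal (bcX f hV φ ↘ Spec (CommRingCat.of B))) := by
  let tg : B →+* Γ(bcX f hV φ, ⊤) := Coh.toGlobal (bcX f hV φ ↘ Spec (CommRingCat.of B))
  let J : Ideal Γ(bcX f hV φ, ⊤) := m.map tg
  have htg : ∀ v, tg (φ v) = bcPull f hV φ (f.app V v) := fun v => toGlobal_φ f hV φ v hφ
  show ∃ (w : Γ(Y, V)) (b : Γ(X, f ⁻¹ᵁ V)), IsUnit (φ w) ∧ (bcPull f hV φ (f.app V w)) * a - bcPull f hV φ b ∈ J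
  letI : Algebra Γ(Y, V) Γ(X, f ⁻¹ᵁ V) := (f.app V).hom.toAlgebra
  letI : Algebra Γ(Y, V) B := φ.toAlgebra
  have hP := isPushout_bc f hV φ hφ
  have hT := CommRingCat.isPushout_tensorProduct Γ(Y, V) Γ(X, f ⁻¹ᵁ V) B
  let e := hT.isoIsPushout _ _ hP
  obtain ⟨t, rfl⟩ : ∃ t, e.hom t = a := ⟨e.inv a, by rw [← ConcreteCategory.comp_apply, e.inv_hom_id]; rfl⟩
  induction t using TensorProduct.induction_on with
  | zero => exact ⟨1, 0, by rw [map_one]; exact isUnit_one, by erw [map_zero e.hom.hom]; simp only [map_zero, mul_zero, sub_zero]; exact J.zero_mem⟩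
  | tmul x β =>
    obtain ⟨v, w, hw, hvw⟩ := hres β
    refine ⟨w, f.app V v * x, hw, ?_⟩
    have hx : e.hom (x ⊗ₜ[Γ(Y, V)] β) = bcPull f hV φ x * tg β := by
      rw [show x ⊗ₜ[Γ(Y, V)] β = Algebra.TensorProduct.includeLeftRingHom x *
        (Algebra.TensorProduct.includeRight : B →ₐ[Γ(Y, V)] _) β by simp, map_mul]
      exact congrArg₂ (· * ·) (ConcreteCategory.congr_hom (hT.inl_isoIsPushout_hom _ _ hP) x)
        (ConcreteCategory.congr_hom (hT.inr_isoIsPushout_hom _ _ hP) β)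
    rw [hx, map_mul, ← htg, ← htg, show tg (φ w) * (bcPull f hV φ x * tg β) - tg (φ v) * bcPull f hV φ x =
      bcPull f hV φ x * tg (φ w * β - φ v) by rw [map_sub, map_mul]; ring]
    exact Ideal.mul_mem_left _ _ (Ideal.mem_map_of_mem tg hvw)
  | add s t hs ht =>
    obtain ⟨w₁, b₁, hw₁, h₁⟩ := hs
    obtain ⟨w₂, b₂, hw₂, h₂⟩ := ht
    refine ⟨w₁ * w₂, f.app V w₂ * b₁ + f.app V w₁ * b₂, by rw [map_mul]; exact hw₁.mul hw₂, ?_⟩
    erw [map_add e.hom.hom]
    simp only [map_mul, map_add]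
    convert J.add_mem (J.mul_mem_left (bcPull f hV φ (f.app V w₂)) h₁) (J.mul_mem_left (bcPull f hV φ (f.app V w₁)) h₂) using 1
    ring

end

/-- The closed fibre is connected when there are no more functions than on the base. -/
theorem isConnected_closedFibre {B : Type u} [CommRing B] [IsLocalRing B] [IsNoetherianRing B]
    [IsAdicComplete (IsLocalRing.maximalIdeal B) B] {X : Scheme.{u}} [X.Over (Spec (CommRingCat.of B))]
    [IsProper (X ↘ Spec (CommRingCat.of B))] (hX : Nonempty X)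
    (hsurj : Function.Surjective (Coh.toGlobal (X ↘ Spec (CommRingCat.of B)))) :
    _root_.IsConnected ((X ↘ Spec (CommRingCat.of B)).base ⁻¹' {IsLocalRing.closedPoint B}) := by
  set p := X ↘ Spec (CommRingCat.of B)
  refine ⟨?_, ?_⟩
  · obtain ⟨x⟩ := hX
    have hc : IsClosed (p.base '' Set.univ) := p.isClosedMap _ isClosed_univ
    have := (IsLocalRing.specializes_closedPoint (p.base x)).mem_closed hc ⟨x, trivial, rfl⟩
    obtain ⟨z, -, hz⟩ := this
    exact ⟨z, hz⟩
  · rw [isPreconnected_closed_iff]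
    intro s t hs ht hst hs0 ht0
    by_contra hne
    set F := p.base ⁻¹' {IsLocalRing.closedPoint B}
    have hF : IsClosed F := IsClosed.preimage p.continuous (IsLocalRing.isClosed_singleton_closedPoint B)
    obtain ⟨a, ha⟩ := exists_global_one_zero (A := B) (hF.inter hs) (hF.inter ht)
      (Set.disjoint_left.mpr fun x hx hx' => hne ⟨x, hx.1, hx.2, hx'.2⟩)
      (fun x hx => (hst hx).imp (fun h => ⟨hx, h⟩) (fun h => ⟨hx, h⟩))
    obtain ⟨b, rfl⟩ := hsurj a
    have key : ∀ x ∈ F, x ∈ X.basicOpen (Coh.toGlobal p b) ↔ IsLocalRing.closedPoint B ∈ PrimeSpectrum.basicOpen b := by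
      intro x hx
      have h1 : X.basicOpen (gA (A := B) (X := X) ⊤ b) = p ⁻¹ᵁ PrimeSpectrum.basicOpen b := basicOpen_gA_top b
      have h2 : gA (A := B) (X := X) ⊤ b = Coh.toGlobal p b := by
        show X.presheaf.map (𝟙 (op (⊤ : X.Opens))) (Coh.toGlobal p b) = _
        rw [X.presheaf.map_id]; rfl
      rw [← h2, h1, ← (show p.base x = IsLocalRing.closedPoint B from hx)]
      rfl
    obtain ⟨x, hx, hxs⟩ := hs0
    obtain ⟨x', hx', hxt⟩ := ht0
    have := ((key x' hx').trans (key x hx).symm).mpr ((ha x hx).mpr ⟨hx, hxs⟩)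
    exact hne ⟨x', hx', ((ha x' hx').mp this).2, hxt⟩

include hV in
/-- Two disjoint closed sets covering a fibre are separated on it by a section over `f⁻¹V`. -/
theorem exists_section_separating [IsProper f] [IsLocallyNoetherian Y] {y : Y} (hy : y ∈ V)
    {Z Z' : Set X} (hZ : IsClosed Z) (hZ' : IsClosed Z') (hd : ∀ x, f.base x = y → x ∈ Z → x ∉ Z')
    (hun : f.base ⁻¹' {y} ⊆ Z ∪ Z') :
    ∃ b : Γ(X, f ⁻¹ᵁ V), ∀ x, f.base x = y → (x ∈ X.basicOpen b ↔ x ∈ Z) := by
  let R := Y.presheaf.stalk y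
  obtain ⟨B, _, _, _, _, ι, ρ, hι, hloc, hρ, hker, hcomp⟩ :=
    exists_complete_ext R (IsLocalRing.ResidueField R) (RingHom.id _)
  haveI := hloc
  let germ : Γ(Y, V) →+* R := (Y.presheaf.germ V y hy).hom
  let φ : Γ(Y, V) →+* B := ι.comp germ
  haveI hlocz := IsAffineOpen.isLocalization_stalk hV ⟨y, hy⟩
  have hgflat : germ.Flat := by
    letI := TopCat.Presheaf.algebra_section_stalk Y.presheaf ⟨y, hy⟩
    exact RingHom.flat_algebraMap_iff.mpr (IsLocalization.flat _ (hV.primeIdealOf ⟨y, hy⟩).asIdeal.primeCompl)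
  have hφ : φ.Flat := RingHom.Flat.comp hgflat hι
  have hcl : (specTo hV φ).base (IsLocalRing.closedPoint B) = y := by
    show hV.fromSpec.base ((Spec.map (CommRingCat.ofHom φ)).base (IsLocalRing.closedPoint B)) = y
    rw [show (Spec.map (CommRingCat.ofHom φ)).base (IsLocalRing.closedPoint B) = hV.primeIdealOf ⟨y, hy⟩ from ?_]
    · exact hV.fromSpec_primeIdealOf ⟨y, hy⟩
    · rw [IsAffineOpen.primeIdealOf_eq_map_closedPoint]
      show PrimeSpectrum.comap φ (IsLocalRing.closedPoint B) = PrimeSpectrum.comap germ (IsLocalRing.closedPoint R)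
      rw [PrimeSpectrum.comap_comp, Function.comp_apply, IsLocalRing.comap_closedPoint]
  set q := pullback.fst f (specTo hV φ)
  set p := bcX f hV φ ↘ Spec (CommRingCat.of B)
  have hF : IsClosed (p.base ⁻¹' {IsLocalRing.closedPoint B}) :=
    IsClosed.preimage p.continuous (IsLocalRing.isClosed_singleton_closedPoint B)
  have hover : ∀ z ∈ p.base ⁻¹' {IsLocalRing.closedPoint B}, f.base (q.base z) = y := fun z hz => by
    rw [← Scheme.Hom.comp_apply, pullback.condition, Scheme.Hom.comp_apply]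
    exact (congrArg (specTo hV φ).base hz).trans hcl
  obtain ⟨a, ha⟩ := exists_global_one_zero (A := B) (hF.inter (hZ.preimage q.continuous))
    (hF.inter (hZ'.preimage q.continuous))
    (Set.disjoint_left.mpr fun z hz hz' => hd _ (hover z hz.1) hz.2 hz'.2)
    (fun z hz => (hun (hover z hz)).imp (fun h => ⟨hz, h⟩) (fun h => ⟨hz, h⟩))
  have hres : ∀ β : B, ∃ v w : Γ(Y, V), IsUnit (φ w) ∧ φ w * β - φ v ∈ IsLocalRing.maximalIdeal B := by
    intro β
    obtain ⟨c, hc⟩ := IsLocalRing.residue_surjective (ρ β)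
    letI := TopCat.Presheaf.algebra_section_stalk Y.presheaf ⟨y, hy⟩
    obtain ⟨v, w, hvw⟩ := IsLocalization.exists_mk'_eq (hV.primeIdealOf ⟨y, hy⟩).asIdeal.primeCompl c
    refine ⟨v, w, (IsLocalization.map_units R w).map ι, ?_⟩
    rw [← hker, RingHom.mem_ker, map_sub, map_mul, ← hc]
    show (ρ.comp ι) (germ (w : Γ(Y, V))) * IsLocalRing.residue R c - (ρ.comp ι) (germ v) = 0
    rw [hcomp]
    show IsLocalRing.residue R (germ (w : Γ(Y, V))) * IsLocalRing.residue R c - IsLocalRing.residue R (germ v) = 0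
    rw [← map_mul, ← map_sub, ← hvw, show germ (w : Γ(Y, V)) = algebraMap Γ(Y, V) R w from rfl,
      IsLocalization.mk'_spec', show germ v = algebraMap Γ(Y, V) R v from rfl, sub_self, map_zero]
  obtain ⟨w, b, hw, hb⟩ := exists_approx f hV φ hφ _ hres a
  refine ⟨b, fun x hx => ?_⟩
  obtain ⟨z, hz1, hz2⟩ := Scheme.Pullback.exists_preimage_pullback (f := f) (g := specTo hV φ) x (IsLocalRing.closedPoint B)
    (hx.trans hcl.symm)
  have hpz : p.base z = IsLocalRing.closedPoint B := hz2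
  rw [← hz1]
  refine Iff.trans ?_ ((ha z hpz).trans ⟨fun h => h.2, fun h => ⟨hpz, h⟩⟩)
  have e1 : q.base z ∈ X.basicOpen b ↔ z ∈ (bcX f hV φ).basicOpen (bcPull f hV φ b) := by
    rw [bcPull, Scheme.Hom.appLE, CommRingCat.comp_apply, Scheme.basicOpen_res, ← Scheme.preimage_basicOpen]
    exact ⟨fun h => ⟨trivial, h⟩, fun h => h.2⟩
  rw [e1, Scheme.mem_basicOpen_top, Scheme.mem_basicOpen_top]
  set G := ((bcX f hV φ).presheaf.germ ⊤ z trivial).hom
  have hu : IsUnit (G (bcPull f hV φ (f.app V w))) := by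
    rw [← toGlobal_φ f hV φ w hφ]
    exact (hw.map _).map G
  have hJ : G (bcPull f hV φ (f.app V w) * a - bcPull f hV φ b) ∈ IsLocalRing.maximalIdeal _ := by
    refine (Ideal.map_le_iff_le_comap.mpr fun c hc => ?_ : (IsLocalRing.maximalIdeal B).map (Coh.toGlobal p) ≤
      (IsLocalRing.maximalIdeal ((bcX f hV φ).presheaf.stalk z)).comap G) hb
    show G (Coh.toGlobal p c) ∈ IsLocalRing.maximalIdeal _
    rw [IsLocalRing.mem_maximalIdeal]
    intro hu
    have h0 : z ∈ (bcX f hV φ).basicOpen (gA (A := B) (X := bcX f hV φ) ⊤ c) := by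
      refine ((bcX f hV φ).mem_basicOpen_top (gA (A := B) (X := bcX f hV φ) ⊤ c) z).mpr ?_
      rw [show gA (A := B) (X := bcX f hV φ) ⊤ c = Coh.toGlobal p c from by
        show (bcX f hV φ).presheaf.map (𝟙 (op _)) (Coh.toGlobal p c) = _
        rw [(bcX f hV φ).presheaf.map_id]; rfl]
      exact hu
    rw [basicOpen_gA_top] at h0
    have h1 : c ∉ (p.base z).asIdeal := h0
    rw [hpz] at h1
    exact h1 hc
  rw [map_sub, map_mul] at hJ
  constructor
  · intro h
    by_contra hna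
    exact (IsLocalRing.mem_maximalIdeal _).mp ((Submodule.sub_mem_iff_right _
      (Ideal.mul_mem_left _ _ ((IsLocalRing.mem_maximalIdeal _).mpr hna))).mp hJ) h
  · intro h
    by_contra hna
    exact (IsLocalRing.mem_maximalIdeal _).mp ((Submodule.sub_mem_iff_left _
      ((IsLocalRing.mem_maximalIdeal _).mpr hna)).mp hJ) (hu.mul h)

end Groth.Agent.FormalFun
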