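import Groth.Agent.FormalFun.GrVan
import Groth.Agent.FormalFun.Powers
import Groth.Agent.FormalFun.Finite

/-!
# Uniform vanishing for the kernels of a coherent formal module
-/

set_option autoImplicit false

universe u

open CategoryTheory Limits AlgebraicGeometry Opposite TopologicalSpace
open Groth.Agent

noncomputable section

namespace Groth.Agent.FormalFun.FormalVanish

variable {A : Type u} [CommRing A] {X : Scheme.{u}} [X.Over (Spec (CommRingCat.of A))]
  {I : Ideal A} {G : ℕᵒᵖ ⥤ X.Modules} (hG : Formal.IsCohFormal I G)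

/-- transition map -/
abbrev tr (G : ℕᵒᵖ ⥤ X.Modules) (n : ℕ) : G.obj (op (n + 1)) ⟶ G.obj (op n) :=
  G.map (homOfLE (Nat.le_succ n)).op

/-- kernel of the transition map -/
abbrev K (G : ℕᵒᵖ ⥤ X.Modules) (n : ℕ) : X.Modules := kernel (tr G n)

include hG

theorem smulFamily_tr (n : ℕ) : Formal.smulFamily (I ^ (n + 1)) (G.obj (op (n + 1))) ≫ tr G n = 0 :=
  (hG.2.2 n).choose

/-- The transition map is the cokernel of multiplication by `I^(n+1)`. -/
def isColimitTr (n : ℕ) : IsColimit (CokernelCofork.ofπ (tr G n) (smulFamily_tr hG n)) :=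
  IsColimit.ofIsoColimit (cokernelIsCokernel _)
    (Cofork.ext (@asIso _ _ _ _ _ (hG.2.2 n).choose_spec) (cokernel.π_desc _ _ _))

theorem epi_tr (n : ℕ) : Epi (tr G n) := Cofork.IsColimit.epi (isColimitTr hG n)

/-- `I^(n+1) G → K` -/
abbrev cover (n : ℕ) : (∐ fun _ : ↥(I ^ (n + 1)) => G.obj (op (n + 1))) ⟶ K G n :=
  kernel.lift _ _ (smulFamily_tr hG n)

theorem epi_cover (n : ℕ) : Epi (cover hG n) := by
  have h : (ShortComplex.mk _ _ (smulFamily_tr hG n)).Exact :=
    ShortComplex.exact_of_g_is_cokernel _ (isColimitTr hG n)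
  exact (ShortComplex.exact_iff_epi_kernel_lift _).1 h

theorem μ_condition (n : ℕ) {a : A} (ha : a ∈ I) :
    Formal.smulFamily (I ^ (n + 1)) (G.obj (op (n + 1))) ≫ Formal.smulMod A (G.obj (op (n + 1))) a = 0 := by
  apply Sigma.hom_ext
  intro b
  rw [comp_zero, ← Category.assoc, Formal.smulFamily, Sigma.ι_desc, ← CohIII.smulMod_mul, hG.2.1 (n + 1)]
  refine (pow_succ' I (n + 1)).ge ?_
  exact Ideal.mul_mem_mul ha b.2

/-- multiplication by `a ∈ I` -/
def μ (n : ℕ) {a : A} (ha : a ∈ I) : G.obj (op n) ⟶ G.obj (op (n + 1)) :=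
  (isColimitTr hG n).desc (CokernelCofork.ofπ _ (μ_condition hG n ha))

@[reassoc]
theorem tr_μ (n : ℕ) {a : A} (ha : a ∈ I) : tr G n ≫ μ hG n ha = Formal.smulMod A (G.obj (op (n + 1))) a :=
  (isColimitTr hG n).fac (CokernelCofork.ofπ _ (μ_condition hG n ha)) WalkingParallelPair.one

theorem smulMod_K (n : ℕ) {a : A} (ha : a ∈ I) : Formal.smulMod A (K G n) a = 0 := by
  haveI := epi_cover hG n
  refine (cancel_epi (cover hG n)).1 ((cancel_mono (kernel.ι (tr G n))).1 ?_)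
  rw [comp_zero, zero_comp, Category.assoc, smulMod_natural, kernel.lift_ι_assoc, μ_condition hG n ha]

theorem μ_tr (n : ℕ) {a : A} (ha : a ∈ I) : μ hG n ha ≫ tr G n = Formal.smulMod A _ a := by
  haveI := epi_tr hG n
  refine (cancel_epi (tr G n)).1 ?_
  rw [tr_μ_assoc, smulMod_natural]

theorem ι_μ_tr (n : ℕ) {a : A} (ha : a ∈ I) :
    (kernel.ι (tr G n) ≫ μ hG (n + 1) ha) ≫ tr G (n + 1) = 0 := by
  rw [Category.assoc, μ_tr, ← smulMod_natural, smulMod_K hG n ha, zero_comp]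

/-- the operator -/
def T (n : ℕ) {a : A} (ha : a ∈ I) : K G n ⟶ K G (n + 1) := kernel.lift _ _ (ι_μ_tr hG n ha)

@[reassoc]
theorem T_ι (n : ℕ) {a : A} (ha : a ∈ I) :
    T hG n ha ≫ kernel.ι (tr G (n + 1)) = kernel.ι (tr G n) ≫ μ hG (n + 1) ha := kernel.lift_ι _ _ _

theorem μ_comm (n : ℕ) {a b : A} (ha : a ∈ I) (hb : b ∈ I) :
    μ hG n ha ≫ μ hG (n + 1) hb = μ hG n hb ≫ μ hG (n + 1) ha := by
  haveI := epi_tr hG n
  haveI := epi_tr hG (n + 1)
  have key : ∀ {c d : A} (hc : c ∈ I) (hd : d ∈ I), tr G (n + 1) ≫ tr G n ≫ μ hG n hc ≫ μ hG (n + 1) hd =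
      Formal.smulMod A (G.obj (op (n + 1 + 1))) c ≫ Formal.smulMod A _ d := by
    intro c d hc hd
    rw [tr_μ_assoc, ← Category.assoc, ← smulMod_natural, Category.assoc, tr_μ]
  refine (cancel_epi (tr G n)).1 ((cancel_epi (tr G (n + 1))).1 ((key ha hb).trans (Eq.trans ?_ (key hb ha).symm)))
  rw [← CohIII.smulMod_mul, ← CohIII.smulMod_mul, mul_comm]

theorem T_comm (n : ℕ) {a b : A} (ha : a ∈ I) (hb : b ∈ I) :
    T hG n ha ≫ T hG (n + 1) hb = T hG n hb ≫ T hG (n + 1) ha := by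
  refine (cancel_mono (kernel.ι (tr G (n + 1 + 1)))).1 ?_
  rw [Category.assoc, Category.assoc, T_ι, T_ι, T_ι_assoc, T_ι_assoc, μ_comm]

theorem epi_desc {r : ℕ} (a : Fin r → A) (ha : ∀ l, a l ∈ I) (hspan : I = Ideal.span (Set.range a)) (n : ℕ) :
    Epi (biproduct.desc fun l : ULift.{u} (Fin r) => T hG n (ha l.down)) := by
  let D := biproduct.desc fun l : ULift.{u} (Fin r) => T hG n (ha l.down)
  let F := G.obj (op (n + 1 + 1))
  haveI := epi_cover hG (n + 1)
  suffices h : cover hG (n + 1) ≫ cokernel.π D = 0 by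
    exact Abelian.epi_of_cokernel_π_eq_zero _ ((cancel_epi (cover hG (n + 1))).1 (h.trans comp_zero.symm))
  have key : ∀ x ∈ I * I ^ (n + 1), ∃ t : F ⟶ ⨁ fun _ : ULift.{u} (Fin r) => K G n,
      t ≫ D ≫ kernel.ι (tr G (n + 1)) = Formal.smulMod A F x := by
    intro x hx
    refine Submodule.mul_induction_on hx (fun c hc d hd => ?_) (fun x y hx hy => ?_)
    · rw [hspan] at hc
      induction hc using Submodule.span_induction with
      | mem c hc =>
        obtain ⟨l, rfl⟩ := hc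
        refine ⟨tr G (n + 1) ≫ (Sigma.ι (fun _ : ↥(I ^ (n + 1)) => G.obj (op (n + 1))) ⟨d, hd⟩ ≫ cover hG n) ≫
          biproduct.ι (fun _ : ULift.{u} (Fin r) => K G n) ⟨l⟩, ?_⟩
        simp only [Category.assoc, D, biproduct.ι_desc_assoc, T_ι]
        rw [kernel.lift_ι_assoc, Formal.smulFamily, Sigma.ι_desc_assoc, ← Category.assoc, ← smulMod_natural,
          Category.assoc, tr_μ, ← CohIII.smulMod_mul]
      | zero => exact ⟨0, by rw [zero_mul, smulMod_zero, zero_comp]⟩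
      | add c c' _ _ h h' =>
        obtain ⟨t, ht⟩ := h
        obtain ⟨t', ht'⟩ := h'
        exact ⟨t + t', by rw [add_mul, smulMod_add, Preadditive.add_comp, ht, ht']⟩
      | smul e c _ h =>
        obtain ⟨t, ht⟩ := h
        refine ⟨Formal.smulMod A F e ≫ t, ?_⟩
        rw [Category.assoc, ht, smul_eq_mul, ← CohIII.smulMod_mul]
        congr 1
        ring
    · obtain ⟨t, ht⟩ := hx
      obtain ⟨t', ht'⟩ := hy
      exact ⟨t + t', by rw [smulMod_add, Preadditive.add_comp, ht, ht']⟩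
  apply Sigma.hom_ext
  intro b
  rw [comp_zero, ← Category.assoc]
  obtain ⟨t, ht⟩ := key b.1 ((pow_succ' I (n + 1)).le b.2)
  have e : Sigma.ι (fun _ : ↥(I ^ (n + 1 + 1)) => F) b ≫ cover hG (n + 1) = t ≫ D := by
    refine (cancel_mono (kernel.ι (tr G (n + 1)))).1 ?_
    rw [Category.assoc, Category.assoc, kernel.lift_ι, Formal.smulFamily, Sigma.ι_desc, ht]
  rw [e, Category.assoc, cokernel.condition, comp_zero]

/-- The graded system of the kernels. -/
def sys [IsLocallyNoetherian X] (𝒰 : AffCov X) {r : ℕ} (a : Fin r → A)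
    (ha : ∀ l, a l ∈ I) (hspan : I = Ideal.span (Set.range a)) : GrSys 𝒰 r where
  M := K G
  T l n := T hG n (ha l)
  comm l l' n := T_comm hG n (ha l) (ha l')
  coh n := CohDev.isCoh_kernel _ (hG.1 (n + 1)) (hG.1 n).1
  gen k := by
    refine ⟨0, fun n _ x => ?_⟩
    haveI hq : ∀ m, (K G m).IsQuasicoherent := fun m => (CohDev.isCoh_kernel _ (hG.1 (m + 1)) (hG.1 m).1).1
    let D := biproduct.desc fun l : ULift.{u} (Fin r) => T hG n (ha l.down)
    haveI : Epi D := epi_desc hG a ha hspan n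
    obtain ⟨z, rfl⟩ := QCoh.app_surjective_of_epi D (𝒰.isAffine k) x
    refine ⟨fun l => (biproduct.π (fun _ : ULift.{u} (Fin r) => K G n) ⟨l⟩).app (𝒰.U k) z, ?_⟩
    let φ : ((⨁ fun _ : ULift.{u} (Fin r) => K G n) ⟶ K G (n + 1)) →+ Γ(K G (n + 1), 𝒰.U k) :=
      AddMonoidHom.mk' (fun f => f.app (𝒰.U k) z) fun _ _ => rfl
    have hD : D = ∑ l : ULift.{u} (Fin r), biproduct.π _ l ≫ T hG n (ha l.down) := by
      apply biproduct.hom_ext'
      intro l
      simp [D, Preadditive.comp_sum, biproduct.ι_π_assoc, ite_comp]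
    refine (congrArg φ hD).trans ((map_sum φ _ _).trans ?_)
    refine Fintype.sum_equiv Equiv.ulift _ _ fun l => ?_
    exact app_comp _ _ _ _

theorem exists_bound [IsNoetherianRing A] [IsProper (X ↘ Spec (CommRingCat.of A))] {L : X.Modules}
    (hL : CohB1.IsAmple L) :
    ∃ d₀ : ℕ, ∀ n d : ℕ, d₀ ≤ d → ∀ q, 0 < q → Subsingleton (Coh.HH X ((twist L d).obj (K G n)) q) := by
  haveI := isLocallyNoetherian_of_proper A X
  haveI := compactSpace_of_proper A X
  obtain ⟨r, a, hspan⟩ := Submodule.fg_iff_exists_fin_generating_family.mp (IsNoetherian.noetherian I)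
  have hspan' : I = Ideal.span (Set.range a) := hspan.symm
  obtain ⟨𝒰, _⟩ := exists_affCov (X := X)
  obtain ⟨d₀, h⟩ := GrSys.uniform_vanishing (X ↘ Spec (CommRingCat.of A)) hL
    (sys hG 𝒰 a (fun l => hspan'.ge (Ideal.subset_span ⟨l, rfl⟩)) hspan')
  exact ⟨d₀, fun n d hd q hq => h d hd n q hq⟩

end Groth.Agent.FormalFun.FormalVanish
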