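import Groth.Agent.FormalFun.Main
import Groth.Agent.HomShQC.Basic
import Groth.Agent.ProperFin.Descend
import Mathlib.RingTheory.Filtration

/-!
# Morphisms of completions of coherent modules

`existsUnique_hom_of_completion` : on a locally Noetherian scheme over a Noetherian ring `A`, if the
global sections of `𝓗om(M, N)` are those of its completion, then every morphism of the completions
of coherent modules `M`, `N` comes from a unique morphism `M ⟶ N`.
-/

set_option autoImplicit false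

universe u

open CategoryTheory Limits AlgebraicGeometry Opposite TopologicalSpace
open Groth.Agent

noncomputable section

namespace Groth.Agent.FormalFun

namespace HomCompl

section Algebra

variable {B M N : Type*} [CommRing B] [IsNoetherianRing B] [AddCommGroup M] [Module B M] [Module.Finite B M]
  [AddCommGroup N] [Module B N] [Module.Finite B N] (J : Ideal B)

omit [IsNoetherianRing B] [Module.Finite B N] in
theorem mem_smul_top_pi {ι : Type*} [Fintype ι] {J : Ideal B} {v : ι → N}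
    (h : ∀ i, v i ∈ J • (⊤ : Submodule B N)) : v ∈ J • (⊤ : Submodule B (ι → N)) := by
  classical
  rw [← Finset.univ_sum_single v]
  refine Submodule.sum_mem _ fun i _ => ?_
  have : (J • (⊤ : Submodule B N)).map (LinearMap.single B (fun _ => N) i) ≤ J • ⊤ := by
    rw [Submodule.map_smul'']
    exact Submodule.smul_mono le_rfl le_top
  exact this ⟨_, h i, rfl⟩

omit [Module.Finite B M] in
theorem exists_artinRees {P : Type*} [AddCommGroup P] [Module B P] [Module.Finite B P] (T : M →ₗ[B] P) :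
    ∃ c : ℕ, ∀ n x, T x ∈ J ^ (n + c) • (⊤ : Submodule B P) →
      ∃ y ∈ J ^ n • (⊤ : Submodule B M), T y = T x := by
  obtain ⟨c, hc⟩ := J.exists_pow_inf_eq_pow_smul (LinearMap.range T)
  refine ⟨c, fun n x hx => ?_⟩
  have h := hc (n + c) (Nat.le_add_left c n)
  rw [Nat.add_sub_cancel] at h
  have h2 : T x ∈ J ^ n • LinearMap.range T :=
    Submodule.smul_mono le_rfl inf_le_right (h.le ⟨hx, LinearMap.mem_range_self T x⟩)
  rw [LinearMap.range_eq_map, ← Submodule.map_smul''] at h2
  obtain ⟨y, hy, hy'⟩ := h2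
  exact ⟨y, hy, hy'⟩

theorem exists_hom_mem : ∃ c : ℕ, ∀ (n : ℕ) (h : M →ₗ[B] N),
    (∀ m, h m ∈ J ^ (n + c) • (⊤ : Submodule B N)) → h ∈ J ^ n • (⊤ : Submodule B (M →ₗ[B] N)) := by
  obtain ⟨b, π, hπ⟩ := Module.Finite.exists_fin' B M
  let T : (M →ₗ[B] N) →ₗ[B] (Fin b → N) :=
    LinearMap.pi fun i => LinearMap.applyₗ (π (Pi.single i 1))
  have hT : Function.Injective T := fun f g e => by
    refine LinearMap.ext fun m => ?_
    obtain ⟨v, rfl⟩ := hπ m
    have : f.comp π = g.comp π := LinearMap.pi_ext' fun i => LinearMap.ext_ring (congrFun e i)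
    exact LinearMap.congr_fun this v
  obtain ⟨c, hc⟩ := exists_artinRees J T
  refine ⟨c, fun n h hh => ?_⟩
  obtain ⟨y, hy, e⟩ := hc n h (mem_smul_top_pi fun i => hh _)
  rwa [hT e] at hy

theorem exists_hom_approx : ∃ c : ℕ, ∀ (n : ℕ) {Q : Type*} [AddCommGroup Q] [Module B Q] (p : N →ₗ[B] Q),
    Function.Surjective p → (∀ x, p x = 0 → x ∈ J ^ (n + c) • (⊤ : Submodule B N)) →
    ∀ f : M →ₗ[B] Q, ∃ h : M →ₗ[B] N, ∀ m x, p x = f m → h m - x ∈ J ^ n • (⊤ : Submodule B N) := by
  obtain ⟨b, π, hπ⟩ := Module.Finite.exists_fin' B M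
  obtain ⟨a, rel, hrel⟩ := Submodule.fg_iff_exists_fin_generating_family.mp
    (IsNoetherian.noetherian (LinearMap.ker π))
  let T : (Fin b → N) →ₗ[B] (Fin a → N) := LinearMap.pi fun j => ∑ i, rel j i • LinearMap.proj i
  have hT : ∀ (g : Fin b → N) j, T g j = ∑ i, rel j i • g i := fun g j => by
    simp [T]
  obtain ⟨c, hc⟩ := exists_artinRees J T
  refine ⟨c, fun n Q _ _ p hp hker f => ?_⟩
  choose x hx using fun i => hp (f (π (Pi.single i 1)))
  have hj : ∀ j, p (T x j) = 0 := fun j => by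
    rw [hT, map_sum]
    simp only [map_smul, hx]
    rw [← show f (π (rel j)) = ∑ i, rel j i • f (π (Pi.single i 1)) from by
      conv_lhs => rw [← Finset.univ_sum_single (rel j)]
      rw [map_sum, map_sum]
      refine Finset.sum_congr rfl fun i _ => ?_
      rw [← map_smul, ← map_smul, ← Pi.single_smul, smul_eq_mul, mul_one]]
    have h0 : rel j ∈ LinearMap.ker π := hrel ▸ Submodule.subset_span ⟨j, rfl⟩
    rw [LinearMap.mem_ker.mp h0, map_zero]
  obtain ⟨y, hy, hy'⟩ := hc n x (mem_smul_top_pi fun j => hker _ (hj j))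
  let G : (Fin b → B) →ₗ[B] N := Fintype.linearCombination B (x - y)
  have hG : LinearMap.ker π ≤ LinearMap.ker G := by
    rw [← hrel, Submodule.span_le]
    rintro _ ⟨j, rfl⟩
    have h1 : T (x - y) j = 0 := by rw [map_sub, hy', sub_self]; rfl
    rw [hT] at h1
    simpa [G, Fintype.linearCombination_apply] using h1
  let h : M →ₗ[B] N :=
    ((LinearMap.ker π).liftQ G hG).comp (π.quotKerEquivOfSurjective hπ).symm.toLinearMap
  have hh : ∀ v, h (π v) = G v := fun v => by
    have e : (π.quotKerEquivOfSurjective hπ).symm (π v) = Submodule.Quotient.mk v :=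
      (π.quotKerEquivOfSurjective hπ).symm_apply_eq.mpr rfl
    simp [h, e]
  refine ⟨h, fun m z hz => ?_⟩
  obtain ⟨v, rfl⟩ := hπ m
  let F : N := Fintype.linearCombination B x v
  have hF : F - z ∈ J ^ n • (⊤ : Submodule B N) := by
    refine Submodule.smul_mono (Ideal.pow_le_pow_right (Nat.le_add_right n c)) le_rfl (hker _ ?_)
    rw [map_sub, hz, sub_eq_zero]
    conv_rhs => rw [← Finset.univ_sum_single v]
    simp only [F, Fintype.linearCombination_apply, map_sum, map_smul, hx]
    refine Finset.sum_congr rfl fun i _ => ?_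
    rw [← map_smul, ← map_smul, ← Pi.single_smul, smul_eq_mul, mul_one]
  have hy2 : Fintype.linearCombination B y v ∈ J ^ n • (⊤ : Submodule B N) := by
    rw [Fintype.linearCombination_apply]
    refine Submodule.sum_mem _ fun i _ => Submodule.smul_mem _ _ ?_
    have := Submodule.mem_map_of_mem (f := LinearMap.proj (R := B) (φ := fun _ : Fin b => N) i) hy
    rw [Submodule.map_smul''] at this
    exact Submodule.smul_mono le_rfl le_top this
  have e : h (π v) - z = (F - z) - Fintype.linearCombination B y v := by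
    rw [hh]
    simp only [G, F, Fintype.linearCombination_apply, Pi.sub_apply, smul_sub, Finset.sum_sub_distrib]
    abel
  rw [e]
  exact sub_mem hF hy2

end Algebra

open HomShQC RefHull Groth.Agent.QCoh Groth.Agent.PullStalk.Sky

variable {A : Type u} [CommRing A] {X : Scheme.{u}} [X.Over (Spec (CommRingCat.of A))]

/-- sections of `M ⟶ M / I^n M` over an affine open -/
theorem π_app_eq_zero_iff [IsNoetherianRing A] (I : Ideal A) (n : ℕ) (P : X.Modules) [P.IsQuasicoherent]
    {U : X.Opens} (hU : IsAffineOpen U) (x : Γ(P, U)) :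
    (Formal.modPowπ I n P).app U x = 0 ↔
      x ∈ (I.map (gA (A := A) U)) ^ n • (⊤ : Submodule Γ(X, U) Γ(P, U)) := by
  obtain ⟨r, a, ha⟩ := Submodule.fg_iff_exists_fin_generating_family.mp (IsNoetherian.noetherian (I ^ n))
  let c : ULift.{u} (Fin r) → A := fun k => a k.down
  have hc : I ^ n = Ideal.span (Set.range c) := by
    rw [show c = a ∘ Equiv.ulift from rfl, EquivLike.range_comp]
    exact ha.symm
  rw [← Ideal.map_pow, hc, Ideal.map_span, ← Set.range_comp]
  constructor
  · intro h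
    obtain ⟨y, rfl⟩ := (ker_iff c P hc hU x).mp h
    refine Submodule.sum_mem _ fun k _ => ?_
    rw [smulMod_app]
    exact Submodule.smul_mem_smul (Ideal.subset_span ⟨k, rfl⟩) Submodule.mem_top
  · intro h
    refine Submodule.smul_induction_on h (fun r hr m _ => ?_) (fun s t hs ht => by rw [map_add, hs, ht, add_zero])
    induction hr using Submodule.span_induction with
    | mem r hr =>
      obtain ⟨k, rfl⟩ := hr
      have h0 : Formal.smulMod A P (c k) ≫ Formal.modPowπ I n P = 0 :=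
        smulMod_comp_π P (hc.ge (Ideal.subset_span ⟨k, rfl⟩))
      refine (congrArg ((Formal.modPowπ I n P).app U) (smulMod_app P (c k) U m).symm).trans ?_
      refine (app_comp _ _ U m).symm.trans ?_
      rw [h0]
      rfl
    | zero => rw [zero_smul, map_zero]
    | add r s _ _ hr hs => rw [add_smul, map_add, hr, hs, add_zero]
    | smul s r _ hr => rw [smul_eq_mul, mul_smul, Scheme.Modules.Hom.app_smul, hr, smul_zero]

variable (I : Ideal A) {M N : X.Modules} (τ : Formal.completion I M ⟶ Formal.completion I N)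

/-- the `k`-th component, on `M` -/
def f (k : ℕ) : M ⟶ Formal.modPow I (k + 1) N := Formal.modPowπ I (k + 1) M ≫ τ.app (op k)

theorem f_map {n k : ℕ} (h : n ≤ k) :
    f I τ k ≫ (Formal.completion I N).map (homOfLE h).op = f I τ n :=
  ((Category.assoc _ _ _).trans (congrArg (Formal.modPowπ I (k + 1) M ≫ ·) (τ.naturality _).symm)).trans
    ((Category.assoc _ _ _).symm.trans (congrArg (· ≫ τ.app (op n)) (π_completion_map I M h)))

theorem stalkMap_comp {P Q R : X.Modules} (φ : P ⟶ Q) (ψ : Q ⟶ R) (y : X) (v : P.presheaf.stalk y) :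
    stalkMapₗ (φ ≫ ψ) y v = stalkMapₗ ψ y (stalkMapₗ φ y v) := by
  obtain ⟨U, hy, m, rfl⟩ := P.presheaf.exists_germ_eq v
  rw [stalkMapₗ_germ, stalkMapₗ_germ, stalkMapₗ_germ]
  rfl

/-- a section of `𝓗om(M,N)` over `U` inducing the `k`-th component -/
def Good {U : X.Opens} (k : ℕ) (h : Γ(homSh M N, U)) : Prop :=
  ∀ (y : U) (v : M.presheaf.stalk y.1),
    stalkMapₗ (Formal.modPowπ I (k + 1) N) y.1 (h.1 y v) = stalkMapₗ (f I τ k) y.1 v

theorem Good.mono {U : X.Opens} {n k : ℕ} {h : Γ(homSh M N, U)} (hg : Good I τ k h) (hn : n ≤ k) :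
    Good I τ n h := fun y v => by
  rw [← π_completion_map I N hn, ← f_map I τ hn]
  exact (stalkMap_comp _ _ y.1 _).trans ((congrArg _ (hg y v)).trans (stalkMap_comp _ _ y.1 v).symm)

theorem Good.res {U V : X.Opens} {k : ℕ} {h : Γ(homSh M N, U)} (hg : Good I τ k h) (hV : V ≤ U) :
    Good I τ k (res (homSh M N) hV h) := fun y v => hg ⟨y.1, hV y.2⟩ v

theorem Good.sec_eq {U : X.Opens} {k : ℕ} {h : Γ(homSh M N, U)} (hg : Good I τ k h) (m : Γ(M, U)) :
    (Formal.modPowπ I (k + 1) N).app U (sec M N h m) = (f I τ k).app U m := by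
  refine sec_ext _ fun y hy => ?_
  refine (stalkMapₗ_germ (Formal.modPowπ I (k + 1) N) y hy (sec M N h m)).symm.trans ?_
  refine Eq.trans ?_ (stalkMapₗ_germ (f I τ k) y hy m)
  exact (congrArg _ (germM_sec M N h m ⟨y, hy⟩)).trans (hg ⟨y, hy⟩ _)

theorem good_of_sec [M.IsQuasicoherent] {U : X.Opens} (hU : IsAffineOpen U) {k : ℕ} {h : Γ(homSh M N, U)}
    (hh : ∀ m, (Formal.modPowπ I (k + 1) N).app U (sec M N h m) = (f I τ k).app U m) :
    Good I τ k h := by
  intro y v
  refine LinearMap.congr_fun (stalkHom_ext M (Formal.modPow I (k + 1) N) hU y.2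
    (f := (stalkMapₗ (Formal.modPowπ I (k + 1) N) y.1).comp (h.1 y)) (g := stalkMapₗ (f I τ k) y.1) fun m => ?_) v
  rw [LinearMap.comp_apply, ← germM_sec M N h m y]
  exact (stalkMapₗ_germ _ y.1 y.2 _).trans ((congrArg _ (hh m)).trans (stalkMapₗ_germ _ y.1 y.2 m).symm)

variable [IsNoetherianRing A] [IsLocallyNoetherian X] (hM : Coh.IsCoh M) (hN : Coh.IsCoh N)

include hM hN in
theorem exists_bound {U : X.Opens} (hU : IsAffineOpen U) :
    ∃ c : ℕ, (∀ (n : ℕ) (h h' : Γ(homSh M N, U)), Good I τ (n + c) h → Good I τ (n + c) h' →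
        (Formal.modPowπ I (n + 1) (homSh M N)).app U h = (Formal.modPowπ I (n + 1) (homSh M N)).app U h') ∧
      ∀ k, ∃ h : Γ(homSh M N, U), Good I τ k h := by
  haveI := hM.1
  haveI := hM.2
  haveI := hN.1
  haveI := hN.2
  haveI : IsNoetherianRing Γ(X, U) := IsLocallyNoetherian.component_noetherian ⟨U, hU⟩
  haveI := finite_sections_of_isFiniteType M hU
  haveI := finite_sections_of_isFiniteType N hU
  haveI : (homSh M N).IsQuasicoherent := (isCoh_homSh M N hM hN).1
  let J := I.map (gA (A := A) U)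
  obtain ⟨c₁, hc₁⟩ := exists_hom_mem (M := Γ(M, U)) (N := Γ(N, U)) J
  obtain ⟨c₂, hc₂⟩ := exists_hom_approx (M := Γ(M, U)) (N := Γ(N, U)) J
  refine ⟨c₁, fun n h h' hg hg' => ?_, fun k => ?_⟩
  · rw [← sub_eq_zero, ← map_sub, π_app_eq_zero_iff I (n + 1) _ hU]
    have h1 := hc₁ (n + 1) (sec M N (h - h')) fun m => by
      rw [← Nat.add_right_comm n c₁ 1, ← π_app_eq_zero_iff I _ _ hU, map_sub, LinearMap.sub_apply, map_sub,
        hg.sec_eq, hg'.sec_eq, sub_self]
    obtain ⟨z, hz, e⟩ : sec M N (h - h') ∈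
        (J ^ (n + 1) • (⊤ : Submodule Γ(X, U) Γ(homSh M N, U))).map (secEquiv M N hU).toLinearMap := by
      rw [Submodule.map_smul'', Submodule.map_top, LinearEquiv.range]
      exact h1
    exact (sec_injective M N hU e) ▸ hz
  · haveI : (Formal.modPow I (k + c₂ + 1) N).IsQuasicoherent := isQuasicoherent_modPow I hN.1 _
    haveI : Epi (Formal.modPowπ I (k + c₂ + 1) N) := inferInstanceAs (Epi (cokernel.π _))
    let K := k + c₂
    let p : Γ(N, U) →ₗ[Γ(X, U)] Γ(Formal.modPow I (K + 1) N, U) :=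
      { toFun := (Formal.modPowπ I (K + 1) N).app U
        map_add' := map_add _
        map_smul' := fun r x => Scheme.Modules.Hom.app_smul _ r x }
    let φ : Γ(M, U) →ₗ[Γ(X, U)] Γ(Formal.modPow I (K + 1) N, U) :=
      { toFun := (f I τ K).app U
        map_add' := map_add _
        map_smul' := fun r x => Scheme.Modules.Hom.app_smul _ r x }
    obtain ⟨h₀, hh₀⟩ := hc₂ (k + 1) p (QCoh.app_surjective_of_epi _ hU) (fun x hx => by
      rw [Nat.add_right_comm k 1 c₂]
      exact (π_app_eq_zero_iff I _ _ hU x).mp hx) φ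
    obtain ⟨h, rfl⟩ := sec_surjective M N hU h₀
    refine ⟨h, good_of_sec I τ hU fun m => ?_⟩
    obtain ⟨x, hx⟩ := QCoh.app_surjective_of_epi (Formal.modPowπ I (K + 1) N) hU (φ m)
    have h2 := (π_app_eq_zero_iff I (k + 1) _ hU _).mpr (hh₀ m x hx)
    rw [map_sub, sub_eq_zero] at h2
    rw [h2, ← π_completion_map I N (Nat.le_add_right k c₂), ← f_map I τ (Nat.le_add_right k c₂)]
    refine (app_comp _ _ U x).trans ?_
    refine (congrArg _ hx).trans ?_
    exact (app_comp (f I τ K) _ U m).symm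

/-- `e` is the class modulo `I^(n+1)` of sections inducing the components -/
def IsClass (U : X.Opens) (n : ℕ) (e : Γ(Formal.modPow I (n + 1) (homSh M N), U)) : Prop :=
  ∀ k, n ≤ k → ∃ h : Γ(homSh M N, U), Good I τ k h ∧ (Formal.modPowπ I (n + 1) (homSh M N)).app U h = e

include hM hN in
theorem exists_isClass {U : X.Opens} (hU : IsAffineOpen U) (n : ℕ) :
    ∃ e, IsClass I τ U n e ∧ ∀ e', IsClass I τ U n e' → e' = e := by
  obtain ⟨c, hc, hex⟩ := exists_bound I τ hM hN hU
  obtain ⟨h₀, hh₀⟩ := hex (n + c)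
  refine ⟨(Formal.modPowπ I (n + 1) (homSh M N)).app U h₀, fun k hk => ?_, fun e' he' => ?_⟩
  · obtain ⟨h, hh⟩ := hex (max k (n + c))
    exact ⟨h, hh.mono I τ (le_max_left _ _), hc n h h₀ (hh.mono I τ (le_max_right _ _)) hh₀⟩
  · obtain ⟨h, hh, rfl⟩ := he' (n + c) (Nat.le_add_right n c)
    exact hc n h h₀ hh hh₀

theorem IsClass.res {U V : X.Opens} {n : ℕ} {e : Γ(Formal.modPow I (n + 1) (homSh M N), U)}
    (he : IsClass I τ U n e) (hV : V ≤ U) : IsClass I τ V n (res _ hV e) := fun k hk => by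
  obtain ⟨h, hh, rfl⟩ := he k hk
  exact ⟨QCoh.res _ hV h, hh.res I τ hV,
    congr($((Formal.modPowπ I (n + 1) (homSh M N)).mapPresheaf.naturality (homOfLE hV).op) h)⟩

include hM hN in
theorem eq_of_isClass {U : X.Opens} {n : ℕ} {e e' : Γ(Formal.modPow I (n + 1) (homSh M N), U)}
    (he : IsClass I τ U n e) (he' : IsClass I τ U n e') : e = e' := by
  refine HomShQC.sec_ext _ fun y hy => ?_
  obtain ⟨_, ⟨W, hW, rfl⟩, hyW, hWU⟩ := X.isBasis_affineOpens.exists_subset_of_mem_open hy U.2
  obtain ⟨e₀, -, hu⟩ := exists_isClass I τ hM hN hW n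
  have := (hu _ (he.res I τ hWU)).trans (hu _ (he'.res I τ hWU)).symm
  refine (germM_res _ hWU y hyW e).symm.trans ((congrArg _ this).trans (germM_res _ hWU y hyW e'))

include hM hN in
theorem exists_global (n : ℕ) :
    ∃ e : Γ(Formal.modPow I (n + 1) (homSh M N), ⊤),
      ∀ U : X.Opens, IsAffineOpen U → IsClass I τ U n (res _ le_top e) := by
  choose e he _ using fun U : X.affineOpens => exists_isClass I τ hM hN U.2 n
  obtain ⟨s, hs⟩ := exists_glue (Formal.modPow I (n + 1) (homSh M N)) (U := fun U : X.affineOpens => U.1) (V := ⊤)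
    (fun _ => le_top) (fun y _ => by
      obtain ⟨_, ⟨W, hW, rfl⟩, hyW, -⟩ := X.isBasis_affineOpens.exists_subset_of_mem_open (Set.mem_univ y) isOpen_univ
      exact Opens.mem_iSup.mpr ⟨⟨W, hW⟩, hyW⟩) e
    (fun i j => eq_of_isClass I τ hM hN ((he i).res I τ _) ((he j).res I τ _))
  exact ⟨s, fun U hU => by rw [hs ⟨U, hU⟩]; exact he ⟨U, hU⟩⟩

omit [IsNoetherianRing A] [IsLocallyNoetherian X] in
theorem exists_ofHom_eq (g : Γ(homSh M N, ⊤)) :
    ∃ φ : M ⟶ N, ∀ (y : X) (v : M.presheaf.stalk y), stalkMapₗ φ y v = g.1 ⟨y, trivial⟩ v := by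
  let g' : ∀ V : X.Opens, Γ(homSh M N, V) := fun V => QCoh.res _ le_top g
  let ψ : M.presheaf ⟶ N.presheaf :=
    { app := fun V => AddCommGrpCat.ofHom (sec M N (g' V.unop)).toAddMonoidHom
      naturality := fun V W i => by
        ext m
        refine HomShQC.sec_ext _ fun y hy => ?_
        refine (germM_sec M N (g' W.unop) _ ⟨y, hy⟩).trans ?_
        refine Eq.trans ?_ (N.presheaf.germ_res_apply i.unop y hy (sec M N (g' V.unop) m)).symm
        refine Eq.trans ?_ (germM_sec M N (g' V.unop) m ⟨y, i.unop.le hy⟩).symm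
        exact congrArg _ (M.presheaf.germ_res_apply i.unop y hy m) }
  let φ : M ⟶ N :=
    ⟨PresheafOfModules.homMk ψ (fun V r m => (sec M N (g' V.unop)).map_smul r m)⟩
  refine ⟨φ, fun y v => ?_⟩
  obtain ⟨V, hyV, m, rfl⟩ := M.presheaf.exists_germ_eq v
  rw [stalkMapₗ_germ]
  exact germM_sec M N (g' V) m ⟨y, hyV⟩

omit [IsNoetherianRing A] [IsLocallyNoetherian X] in
theorem hom_ext_stalk {P Q : X.Modules} {φ ψ : P ⟶ Q}
    (h : ∀ (y : X) (v : P.presheaf.stalk y), stalkMapₗ φ y v = stalkMapₗ ψ y v) : φ = ψ := by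
  refine Scheme.Modules.hom_ext _ _ fun U => ?_
  ext m
  refine HomShQC.sec_ext _ fun y hy => ?_
  exact (stalkMapₗ_germ φ y hy m).symm.trans ((h y _).trans (stalkMapₗ_germ ψ y hy m))

include hM hN in
/-- Full faithfulness of completion for a pair of coherent modules. -/
theorem existsUnique_hom_of_completion (hbij : Function.Bijective (Formal.toHHlim I (homSh M N) 0)) :
    ∃! φ : M ⟶ N, ∀ n : ℕ, Formal.modPowπ I (n + 1) M ≫ τ.app (op n) = φ ≫ Formal.modPowπ I (n + 1) N := by
  choose e he using exists_global I τ hM hN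
  let H := homSh M N
  -- the classes form a compatible family
  let z : ∀ n, Formal.HHmodPow I H 0 n := fun n => (ProperFin.h0Sec (Formal.modPow I (n + 1) H)).symm (e n)
  have hz : z ∈ Formal.HHlim I H 0 := fun n => by
    apply (ProperFin.h0Sec (Formal.modPow I (n + 1) H)).injective
    refine (ProperFin.h0Sec_hMap (Formal.modPowTrans I (n + 1) H) (z (n + 1))).trans ?_
    rw [AddEquiv.apply_symm_apply, AddEquiv.apply_symm_apply]
    refine HomShQC.sec_ext _ fun y _ => ?_
    obtain ⟨_, ⟨W, hW, rfl⟩, hyW, -⟩ := X.isBasis_affineOpens.exists_subset_of_mem_open (Set.mem_univ y) isOpen_univ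
    obtain ⟨h, hh, heq⟩ : ∃ h, Good I τ (n + 1) h ∧
        (Formal.modPowπ I (n + 1 + 1) H).app W h = QCoh.res _ le_top (e (n + 1)) := he (n + 1) W hW (n + 1) le_rfl
    rw [← germM_res _ (le_top : W ≤ ⊤) y hyW, ← germM_res _ (le_top : W ≤ ⊤) y hyW]
    refine congrArg _ (eq_of_isClass I τ hM hN ?_ (he n W hW))
    intro k hk
    obtain ⟨h', hh', heq'⟩ := he (n + 1) W hW (max k (n + 1)) (le_max_right _ _)
    refine ⟨h', hh'.mono I τ (le_max_left _ _), ?_⟩
    refine Eq.trans ?_ (congr($((Formal.modPowTrans I (n + 1) H).mapPresheaf.naturality (homOfLE (le_top : W ≤ ⊤)).op) (e (n + 1))))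
    show _ = (Formal.modPowTrans I (n + 1) H).app W (QCoh.res _ le_top (e (n + 1)))
    rw [← heq', ← app_comp, Formal.modPowπ_trans]
  obtain ⟨x, hx⟩ := hbij.2 ⟨z, hz⟩
  obtain ⟨φ, hφ⟩ := exists_ofHom_eq (ProperFin.h0Sec H x)
  have hxe : ∀ n, (Formal.modPowπ I (n + 1) H).app ⊤ (ProperFin.h0Sec H x) = e n := fun n => by
    refine (ProperFin.h0Sec_hMap (Formal.modPowπ I (n + 1) H) x).symm.trans ?_
    rw [show CohLin.hMap (Formal.modPowπ I (n + 1) H) 0 x = z n from congrFun (congrArg Subtype.val hx) n,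
      AddEquiv.apply_symm_apply]
  refine ⟨φ, fun n => hom_ext_stalk fun y v => ?_, fun ψ hψ => hom_ext_stalk fun y v => ?_⟩
  · obtain ⟨_, ⟨W, hW, rfl⟩, hyW, -⟩ := X.isBasis_affineOpens.exists_subset_of_mem_open (Set.mem_univ y) isOpen_univ
    obtain ⟨h, hh, heq⟩ := he n W hW n le_rfl
    -- `φ` and `h` agree modulo `I^(n+1)` on `W`
    haveI := hN.1
    haveI := hM.1
    haveI : H.IsQuasicoherent := (isCoh_homSh M N hM hN).1
    let g := QCoh.res H (le_top : W ≤ ⊤) (ProperFin.h0Sec H x)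
    have hg : (Formal.modPowπ I (n + 1) H).app W (g - h) = 0 := by
      rw [map_sub, heq, ← hxe, sub_eq_zero]
      exact congr($((Formal.modPowπ I (n + 1) H).mapPresheaf.naturality (homOfLE (le_top : W ≤ ⊤)).op) (ProperFin.h0Sec H x))
    have hgd : Good I τ n g := good_of_sec I τ hW fun m => by
      rw [← hh.sec_eq I τ m, ← sub_eq_zero, ← map_sub, ← LinearMap.sub_apply, ← map_sub,
        π_app_eq_zero_iff I (n + 1) _ hW]
      have hmem := Submodule.mem_map_of_mem
        (f := (LinearMap.applyₗ m).comp (sec M N : Γ(H, W) →ₗ[Γ(X, W)] _)) ((π_app_eq_zero_iff I (n + 1) H hW _).mp hg)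
      rw [Submodule.map_smul''] at hmem
      exact Submodule.smul_mono le_rfl le_top hmem
    refine Eq.trans ?_ (stalkMap_comp φ (Formal.modPowπ I (n + 1) N) y v).symm
    refine Eq.trans ?_ (congrArg _ (hφ y v)).symm
    exact (hgd ⟨y, hyW⟩ v).symm
  · -- uniqueness
    have key : ofHom ψ ⊤ = ProperFin.h0Sec H x := by
      have hinj : ∀ n, (Formal.modPowπ I (n + 1) H).app ⊤ (ofHom ψ ⊤) = e n := fun n => by
        refine HomShQC.sec_ext _ fun y _ => ?_
        obtain ⟨_, ⟨W, hW, rfl⟩, hyW, -⟩ := X.isBasis_affineOpens.exists_subset_of_mem_open (Set.mem_univ y) isOpen_univ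
        rw [← germM_res _ (le_top : W ≤ ⊤) y hyW, ← germM_res _ (le_top : W ≤ ⊤) y hyW]
        refine congrArg _ (eq_of_isClass I τ hM hN (fun k hk => ⟨ofHom ψ W, fun y v => ?_, ?_⟩) (he n W hW))
        · rw [ofHom_apply, ← stalkMap_comp, ← hψ k]
          rfl
        · exact congr($((Formal.modPowπ I (n + 1) H).mapPresheaf.naturality (homOfLE (le_top : W ≤ ⊤)).op) (ofHom ψ ⊤))
      refine ((ProperFin.h0Sec H).apply_symm_apply _).symm.trans (congrArg (ProperFin.h0Sec H) (hbij.1 ?_))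
      rw [hx]
      refine Subtype.ext (funext fun n => ?_)
      apply (ProperFin.h0Sec (Formal.modPow I (n + 1) H)).injective
      refine (ProperFin.h0Sec_hMap (Formal.modPowπ I (n + 1) H) _).trans ?_
      rw [AddEquiv.apply_symm_apply]
      exact (hinj n).trans ((ProperFin.h0Sec (Formal.modPow I (n + 1) H)).apply_symm_apply _).symm
    rw [hφ, ← key]
    rfl

end HomCompl

end Groth.Agent.FormalFun
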