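import Groth.Agent.FormalFun.HomCompl
import Groth.Agent.FormalFun.Main
import Groth.Agent.FormalSupp.Finite
import Groth.Agent.S0020

/-!
# Full faithfulness of completion for proper supports
-/

set_option autoImplicit false

universe u

open CategoryTheory Limits AlgebraicGeometry Opposite TopologicalSpace
open Groth.Agent

noncomputable section

namespace Groth.Agent.FormalFun.HomCompl

variable {X : Scheme.{u}}

theorem support_homSh_subset [IsLocallyNoetherian X] {M N : X.Modules} (hM : Coh.IsCoh M) (hN : Coh.IsCoh N) :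
    CohB1.support (RefHull.homSh M N) ⊆ CohB1.support M ∩ CohB1.support N := by
  intro x hx
  by_contra hn
  obtain ⟨W, hxW, hW⟩ : ∃ W : X.Opens, x ∈ W ∧ ∀ y ∈ W, ∀ f : RefHull.StalkHom M N y, f = 0 := by
    by_cases h : x ∈ CohB1.support M
    · refine ⟨⟨_, (S0020.result X N hN.2).isOpen_compl⟩, fun h' => hn ⟨h, h'⟩, fun y hy f => ?_⟩
      haveI : Subsingleton (N.presheaf.stalk y) := not_not.mp hy
      exact LinearMap.ext fun v => Subsingleton.elim _ _
    · refine ⟨⟨_, (S0020.result X M hM.2).isOpen_compl⟩, h, fun y hy f => ?_⟩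
      haveI : Subsingleton (M.presheaf.stalk y) := not_not.mp hy
      exact LinearMap.ext fun v => by rw [Subsingleton.elim v 0, map_zero, map_zero]
  refine hx (subsingleton_of_forall_eq 0 fun t => ?_)
  obtain ⟨U, hxU, g, rfl⟩ := (RefHull.homSh M N).presheaf.exists_germ_eq t
  rw [← TopCat.Presheaf.germ_res_apply (RefHull.homSh M N).presheaf (homOfLE (inf_le_left : U ⊓ W ≤ U)) x ⟨hxU, hxW⟩,
    show (RefHull.homSh M N).presheaf.map (homOfLE (inf_le_left : U ⊓ W ≤ U)).op g = 0 from
      Subtype.ext (funext fun y => hW y.1 y.2.2 _), map_zero]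

/-- Coherent modules whose supports meet in a subset proper over a complete Noetherian ring. -/
theorem existsUnique_of_properSupport (A : Type u) [CommRing A] [IsNoetherianRing A] (I : Ideal A)
    [IsAdicComplete I A] [X.Over (Spec (CommRingCat.of A))] [LocallyOfFiniteType (X ↘ Spec (CommRingCat.of A))]
    [QuasiCompact (X ↘ Spec (CommRingCat.of A))] {M N : X.Modules} (hM : Coh.IsCoh M) (hN : Coh.IsCoh N)
    (hs : ClSub.IsProperOver (X ↘ Spec (CommRingCat.of A)) (CohB1.support M ∩ CohB1.support N))
    (τ : Formal.completion I M ⟶ Formal.completion I N) :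
    ∃! φ : M ⟶ N, ∀ n : ℕ, Formal.modPowπ I (n + 1) M ≫ τ.app (op n) = φ ≫ Formal.modPowπ I (n + 1) N := by
  haveI : IsLocallyNoetherian X :=
    LocallyOfFiniteType.isLocallyNoetherian (X ↘ Spec (CommRingCat.of A))
  haveI : CompactSpace X :=
    QuasiCompact.compactSpace_of_compactSpace (X ↘ Spec (CommRingCat.of A))
  exact existsUnique_hom_of_completion I τ hM hN
    (FormalFun.On.toHHlim_bijective I (p := 0) (FormalSupp.finIn_of_isProperOver hs)
      (HomShQC.isCoh_homSh M N hM hN) (support_homSh_subset hM hN))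

end Groth.Agent.FormalFun.HomCompl
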