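import Groth.Agent.CBC.Setup
import Groth.Agent.CBC.Noeth
import Groth.Agent.CBC.Fibre
import Groth.Agent.Props.QStalk
import Mathlib.RingTheory.Localization.BaseChange

/-!
# The stalk of a higher direct image is cohomology over the local ring

* `hTensorEquiv`: `H(K) ⊗ M = H(K ⊗ M)` for flat `M`.
* `nonempty_stalkEquiv`: `(R^p f_* F)_y ≅ H^p(X ×_Y Spec O_y, g^* F)`, linearly over `O_y`.
-/

set_option autoImplicit false

universe u

open CategoryTheory Limits AlgebraicGeometry Opposite TopologicalSpace TensorProduct Function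
open Groth.Agent Groth.Agent.CBC

noncomputable section

namespace Groth.Agent.FormalFun

section Tensor

variable {A : Type u} [CommRing A] (K : SCx A) (n : ℕ) (M : Type u) [AddCommGroup M] [Module A M]

/-- `Z₀ ⊗ M → H(K ⊗ M)`. -/
def zTensorHom : K.Z₀ n ⊗[A] M →ₗ[A] K.H M n :=
  (Submodule.mkQ _) ∘ₗ LinearMap.codRestrict (K.Z M n) ((K.Z₀ n).subtype.rTensor M) fun t => by
    show (K.d n).rTensor M ((K.Z₀ n).subtype.rTensor M t) = 0
    rw [← LinearMap.rTensor_comp_apply, show K.d n ∘ₗ (K.Z₀ n).subtype = 0 from LinearMap.ext fun z => z.2,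
      LinearMap.rTensor_zero, LinearMap.zero_apply]

theorem zTensorHom_natural {N : Type u} [AddCommGroup N] [Module A N] (g : M →ₗ[A] N) (t : K.Z₀ n ⊗[A] M) :
    K.Hmap g n (zTensorHom K n M t) = zTensorHom K n N (g.lTensor _ t) := by
  refine (SCx.Hmap_mk (K := K) g n _).trans (congrArg Submodule.Quotient.mk (Subtype.ext ?_))
  show g.lTensor (K.X n) ((K.Z₀ n).subtype.rTensor M t) = (K.Z₀ n).subtype.rTensor N (g.lTensor _ t)
  exact (FlatCx.rTensor_lTensor_comm g (K.Z₀ n).subtype t).symm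

theorem zTensorHom_surjective [Module.Flat A M] : Surjective (zTensorHom K n M) := by
  intro x
  obtain ⟨⟨z, hz⟩, rfl⟩ := Submodule.Quotient.mk_surjective _ x
  have hex : Exact (K.Z₀ n).subtype (K.d n) := fun w => ⟨fun h => ⟨⟨w, h⟩, rfl⟩, by rintro ⟨v, rfl⟩; exact v.2⟩
  obtain ⟨t, ht⟩ := (Module.Flat.rTensor_exact M hex z).mp hz
  exact ⟨t, congrArg Submodule.Quotient.mk (Subtype.ext ht)⟩

theorem ker_zTensorHom [Module.Flat A M] :
    LinearMap.ker (zTensorHom K n M) =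
      LinearMap.ker ((Submodule.mkQ ((K.B₀ n).comap (K.Z₀ n).subtype)).rTensor M) := by
  have hinj := Module.Flat.rTensor_preserves_injective_linearMap (M := M) (K.Z₀ n).subtype Subtype.val_injective
  ext t
  rw [LinearMap.mem_ker, LinearMap.mem_ker]
  rw [show zTensorHom K n M t = 0 ↔ (K.Z₀ n).subtype.rTensor M t ∈ K.B M n from Submodule.Quotient.mk_eq_zero _]
  have hex : Exact ((K.B₀ n).comap (K.Z₀ n).subtype).subtype (Submodule.mkQ ((K.B₀ n).comap (K.Z₀ n).subtype)) :=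
    LinearMap.exact_subtype_mkQ _
  rw [(_root_.rTensor_exact M hex (Submodule.mkQ_surjective _)) t]
  cases n with
  | zero =>
    constructor
    · intro h
      exact ⟨0, by rw [map_zero]; exact (hinj ((show (K.Z₀ 0).subtype.rTensor M t = 0 from h).trans (map_zero _).symm)).symm⟩
    · rintro ⟨b, rfl⟩
      show _ = 0
      rw [← LinearMap.rTensor_comp_apply, show (K.Z₀ 0).subtype ∘ₗ ((K.B₀ 0).comap (K.Z₀ 0).subtype).subtype = 0 from
        LinearMap.ext fun z => z.2, LinearMap.rTensor_zero, LinearMap.zero_apply]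
  | succ k =>
    let d' : K.X k →ₗ[A] (K.B₀ (k + 1)).comap (K.Z₀ (k + 1)).subtype :=
      LinearMap.codRestrict _ (LinearMap.codRestrict (K.Z₀ (k + 1)) (K.d k)
        fun x => K.B₀_le (k + 1) ⟨x, rfl⟩) fun x => ⟨x, rfl⟩
    have hd' : Surjective d' := by
      rintro ⟨⟨z, hz⟩, ⟨x, hx⟩⟩
      exact ⟨x, Subtype.ext (Subtype.ext hx)⟩
    have e : ∀ y, (K.d k).rTensor M y =
        (K.Z₀ (k + 1)).subtype.rTensor M (((K.B₀ (k + 1)).comap (K.Z₀ (k + 1)).subtype).subtype.rTensor M (d'.rTensor M y)) := fun y => by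
      rw [← LinearMap.rTensor_comp_apply, ← LinearMap.rTensor_comp_apply]
      rfl
    constructor
    · rintro ⟨y, hy⟩
      rw [e] at hy
      exact ⟨_, hinj hy⟩
    · rintro ⟨b, rfl⟩
      obtain ⟨y, rfl⟩ := LinearMap.rTensor_surjective M hd' b
      exact ⟨y, e y⟩

/-- `H(K) ⊗ M = H(K ⊗ M)` for flat `M`. -/
def hTensorEquiv [Module.Flat A M] : K.H₀ n ⊗[A] M ≃ₗ[A] K.H M n :=
  (LinearMap.quotKerEquivOfSurjective _
      (LinearMap.rTensor_surjective M (Submodule.mkQ_surjective ((K.B₀ n).comap (K.Z₀ n).subtype)))).symm ≪≫ₗ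
    Submodule.quotEquivOfEq _ _ (ker_zTensorHom K n M).symm ≪≫ₗ
    LinearMap.quotKerEquivOfSurjective _ (zTensorHom_surjective K n M)

theorem hTensorEquiv_rTensor [Module.Flat A M] (t : K.Z₀ n ⊗[A] M) :
    hTensorEquiv K n M ((Submodule.mkQ ((K.B₀ n).comap (K.Z₀ n).subtype)).rTensor M t) = zTensorHom K n M t := by
  rw [hTensorEquiv, LinearEquiv.trans_apply, LinearEquiv.trans_apply]
  rw [show (LinearMap.quotKerEquivOfSurjective _
      (LinearMap.rTensor_surjective M (Submodule.mkQ_surjective ((K.B₀ n).comap (K.Z₀ n).subtype)))).symm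
      ((Submodule.mkQ ((K.B₀ n).comap (K.Z₀ n).subtype)).rTensor M t) = Submodule.Quotient.mk t from
    (LinearEquiv.symm_apply_eq _).mpr rfl]
  rfl

theorem hTensorEquiv_natural [Module.Flat A M] {N : Type u} [AddCommGroup N] [Module A N] [Module.Flat A N]
    (g : M →ₗ[A] N) (x : K.H₀ n ⊗[A] M) :
    K.Hmap g n (hTensorEquiv K n M x) = hTensorEquiv K n N (g.lTensor _ x) := by
  obtain ⟨t, rfl⟩ := LinearMap.rTensor_surjective M (Submodule.mkQ_surjective ((K.B₀ n).comap (K.Z₀ n).subtype)) x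
  rw [hTensorEquiv_rTensor, zTensorHom_natural, ← hTensorEquiv_rTensor, FlatCx.rTensor_lTensor_comm]

end Tensor

section Stalk

variable {X Y : Scheme.{u}} (f : X ⟶ Y) [IsSeparated f] [QuasiCompact f] [HasInjectiveResolutions X.Modules]
  (F : X.Modules) [F.IsQuasicoherent]

/-- `(R^p f_* F)_y ≅ H^p(X ×_Y Spec O_y, g^* F)`. -/
theorem nonempty_stalkEquiv (y : Y) (p : ℕ) (X₁ : Scheme.{u})
    [X₁.Over (Spec (CommRingCat.of (Y.presheaf.stalk y)))] (g : X₁ ⟶ X)
    (hsq : IsPullback g (X₁ ↘ Spec (CommRingCat.of (Y.presheaf.stalk y))) f (Y.fromSpecStalk y)) :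
    Nonempty (((Coh.Rpush f p).obj F).presheaf.stalk y ≃ₗ[Y.presheaf.stalk y]
      Coh.HH X₁ ((Scheme.Modules.pullback g).obj F) p) := by
  obtain ⟨_, ⟨V, hV, rfl⟩, hy, -⟩ := Y.isBasis_affineOpens.exists_subset_of_mem_open (Set.mem_univ y) isOpen_univ
  obtain ⟨D⟩ := nonempty_model f hV
  let R := Y.presheaf.stalk y
  letI : Algebra Γ(Y, V) R := (Y.presheaf.germ V y hy).hom.toAlgebra
  haveI := IsAffineOpen.isLocalization_stalk hV ⟨y, hy⟩
  let S := (hV.primeIdealOf ⟨y, hy⟩).asIdeal.primeCompl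
  haveI : Module.Flat Γ(Y, V) R := IsLocalization.flat R S
  let M := (Coh.Rpush f p).obj F
  haveI : M.IsQuasicoherent := CBC.isQuasicoherent_Rpush f F p
  letI := Props.QStalk.moduleSections M hy
  haveI := Props.QStalk.isLocalizedModule_germLin M hy hV
  haveI : IsScalarTower Γ(Y, V) R (M.presheaf.stalk y) := IsScalarTower.of_algebraMap_smul fun _ _ => rfl
  have hbc : IsBaseChange R (Props.QStalk.germLin M hy) := IsLocalizedModule.isBaseChange S R _
  have hT : ⊤ ≤ Y.fromSpecStalk y ⁻¹ᵁ V := fun z _ =>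
    (Scheme.range_fromSpecStalk.le ⟨z, rfl⟩ : Y.fromSpecStalk y z ⤳ y).mem_open V.2 hy
  have halg : ∀ a, (Y.fromSpecStalk y).appLE V ⊤ hT a =
      (Scheme.ΓSpecIso (CommRingCat.of R)).inv (algebraMap Γ(Y, V) R a) := by
    intro a
    rw [Scheme.Hom.appLE, Scheme.fromSpecStalk_app hy, Category.assoc, Category.assoc, ← Functor.map_comp]
    rw [show ((homOfLE le_top).op ≫ (homOfLE hT).op : op (⊤ : (Spec (Y.presheaf.stalk y)).Opens) ⟶ op ⊤) = 𝟙 _ from
      Quiver.Hom.unop_inj (Subsingleton.elim _ _), CategoryTheory.Functor.map_id]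
    rfl
  let e₁ := ringEquivCat (R := R) hV D F (Y.fromSpecStalk y) g (X₁ ↘ Spec (CommRingCat.of (Y.presheaf.stalk y))) hsq hT halg p
  let c : R ⊗[Γ(Y, V)] Γ(M, V) ≃ₗ[Γ(Y, V)] (D.K F).H R p :=
    TensorProduct.comm Γ(Y, V) R Γ(M, V) ≪≫ₗ TensorProduct.congr (rpushEquiv D F hV p).symm (LinearEquiv.refl Γ(Y, V) R) ≪≫ₗ
      hTensorEquiv (D.K F) p R
  have hc : ∀ (r : R) (t : R ⊗[Γ(Y, V)] Γ(M, V)),
      c (r • t) = (D.K F).Hmap (LinearMap.mulLeft Γ(Y, V) r) p (c t) := by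
    intro r t
    induction t using TensorProduct.induction_on with
    | zero => rw [smul_zero, map_zero, map_zero]
    | tmul a m =>
      rw [TensorProduct.smul_tmul', smul_eq_mul]
      show hTensorEquiv (D.K F) p R ((rpushEquiv D F hV p).symm m ⊗ₜ[Γ(Y, V)] (r * a)) =
        (D.K F).Hmap _ p (hTensorEquiv (D.K F) p R ((rpushEquiv D F hV p).symm m ⊗ₜ[Γ(Y, V)] a))
      rw [hTensorEquiv_natural]
      rfl
    | add s t hs ht => rw [smul_add, map_add, hs, ht, map_add, map_add]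
  let e₂ : R ⊗[Γ(Y, V)] Γ(M, V) ≃ₗ[R] Coh.HH X₁ ((Scheme.Modules.pullback g).obj F) p :=
    { c.toAddEquiv.trans e₁ with
      map_smul' := fun r t => by
        show e₁ (c (r • t)) = r • e₁ (c t)
        rw [hc]
        exact ringEquivCat_smul (R := R) hV D F (Y.fromSpecStalk y) g (X₁ ↘ Spec (CommRingCat.of (Y.presheaf.stalk y))) hsq hT halg p r (c t) }
  exact ⟨hbc.equiv.symm ≪≫ₗ e₂⟩

end Stalk

end Groth.Agent.FormalFun
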