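import Groth.Agent.FormalFun.Main
import Groth.Agent.CBC.TensorCx
import Groth.Agent.CBC.Funct
import Groth.Agent.KFlat.TensorLocFree

/-!
# `F / J F` as `F ⊗_A A/J`, and surjectivity of `H^n(F) → H^n(F/JF)` through a representing complex
-/

set_option autoImplicit false

universe u

open CategoryTheory Limits AlgebraicGeometry Opposite TopologicalSpace TensorProduct
open Groth.Agent

noncomputable section

namespace Groth.Agent.FormalFun

variable {X : Scheme.{u}}

/-- A map out of a quasi-coherent module that vanishes on affine opens is zero. -/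
theorem hom_eq_zero_of_affine {M N : X.Modules} [M.IsQuasicoherent] (φ : M ⟶ N)
    (h : ∀ (U : X.Opens), IsAffineOpen U → ∀ z : Γ(M, U), φ.app U z = 0) : φ = 0 := by
  apply Scheme.Modules.hom_ext
  intro W
  ext s
  have hpt : ∀ w : W, ∃ U : X.Opens, IsAffineOpen U ∧ (w : X) ∈ U ∧ U ≤ W := fun w => by
    obtain ⟨U, hU, hw, hle⟩ := exists_isAffineOpen_mem_and_subset w.2
    exact ⟨U, hU, hw, hle⟩
  choose U hU hwU hUW using hpt
  refine QCoh.eq_zero_of_locally_eq_zero N hUW
    (fun w hw => Opens.mem_iSup.mpr ⟨⟨w, hw⟩, hwU ⟨w, hw⟩⟩) _ fun w => ?_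
  exact (QCoh.app_res φ (hUW w) s).symm.trans (h (U w) (hU w) _)

/-- A map of quasi-coherent modules that is bijective on affine opens is an isomorphism. -/
theorem isIso_of_affine_bijective {M N : X.Modules} [M.IsQuasicoherent] [N.IsQuasicoherent] (φ : M ⟶ N)
    (h : ∀ (U : X.Opens), IsAffineOpen U → Function.Bijective (φ.app U)) : IsIso φ := by
  haveI : (kernel φ).IsQuasicoherent := QCoh.isQuasicoherent_kernel φ
  haveI : Mono φ := by
    refine Preadditive.mono_of_kernel_zero (hom_eq_zero_of_affine _ fun U hU z => (h U hU).1 ?_)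
    rw [map_zero, ← app_comp, kernel.condition]
    rfl
  haveI : Epi φ := by
    refine Preadditive.epi_of_cokernel_zero (hom_eq_zero_of_affine _ fun U hU z => ?_)
    obtain ⟨w, rfl⟩ := (h U hU).2 z
    rw [← app_comp, cokernel.condition]
    rfl
  exact isIso_of_mono_of_epi φ

variable {A : Type u} [CommRing A] [X.Over (Spec (CommRingCat.of A))]

/-- `F ⊗_A A ≅ F`. -/
theorem nonempty_tAUnit (F : X.Modules) : Nonempty (CBC.tA F (ModuleCat.of A A) ≅ F) :=
  ⟨(DCoh.tensorRightMod F).mapIso ((Scheme.Modules.pullback (X ↘ Spec (CommRingCat.of A))).mapIso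
      (tildeSelf (R := CommRingCat.of A)) ≪≫ QCoh.pullbackUnitIso _) ≪≫
    KFlat.TensorLocFree.unitTensorIso F⟩

/-- the quotient map as a map of modules -/
abbrev quotA (J : Ideal A) : ModuleCat.of A A ⟶ ModuleCat.of A (A ⧸ J) :=
  ModuleCat.ofHom (Submodule.mkQ J)

variable (F : X.Modules) [F.IsQuasicoherent]

theorem smulMod_tA_eq_zero (J : Ideal A) {a : A} (ha : a ∈ J) :
    Formal.smulMod A (CBC.tA F (ModuleCat.of A (A ⧸ J))) a = 0 := by
  haveI := CBC.isQuasicoherent_tA (A := A) F (ModuleCat.of A (A ⧸ J))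
  refine hom_eq_zero_of_affine _ fun W hW z => ?_
  rw [smulMod_app]
  obtain ⟨t, ht⟩ := (CBC.kap_bijective F (ModuleCat.of A (A ⧸ J)) hW).2 z
  have e : a • t = 0 := by
    induction t using TensorProduct.induction_on generalizing z with
    | zero => rw [smul_zero]
    | tmul s q =>
      rw [← TensorProduct.tmul_smul]
      obtain ⟨b, rfl⟩ := Submodule.Quotient.mk_surjective J q
      rw [← Submodule.Quotient.mk_smul, (Submodule.Quotient.mk_eq_zero J).2 (show a • b ∈ J from J.mul_mem_right b ha),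
        tmul_zero]
    | add x y hx hy => rw [smul_add, hx _ rfl, hy _ rfl, add_zero]
  rw [← ht]
  exact (map_smul (CBC.kap F (ModuleCat.of A (A ⧸ J)) W) a t).symm.trans (by rw [e, map_zero]; rfl)

theorem exists_iso_tA_of (ψ : CBC.tA F (ModuleCat.of A A) ≅ F) (I : Ideal A) (n : ℕ) :
    ∃ θ : Formal.modPow I n F ≅ CBC.tA F (ModuleCat.of A (A ⧸ I ^ n)),
      Formal.modPowπ I n F ≫ θ.hom = ψ.inv ≫ CBC.tAMap F (quotA (I ^ n)) := by
  let J := I ^ n
  let q := ψ.inv ≫ CBC.tAMap F (quotA J)
  haveI := CBC.isQuasicoherent_tA (A := A) F (ModuleCat.of A A)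
  haveI := CBC.isQuasicoherent_tA (A := A) F (ModuleCat.of A (A ⧸ J))
  haveI := isQuasicoherent_modPow (A := A) I (M := F) inferInstance n
  have hq : Formal.smulFamily J F ≫ q = 0 := by
    apply Sigma.hom_ext
    intro a
    rw [comp_zero, ← Category.assoc, Formal.smulFamily, Sigma.ι_desc, smulMod_natural,
      smulMod_tA_eq_zero F J a.2, comp_zero]
  let θ : Formal.modPow I n F ⟶ CBC.tA F (ModuleCat.of A (A ⧸ J)) := cokernel.desc _ q hq
  have hθ : Formal.modPowπ I n F ≫ θ = q := cokernel.π_desc _ _ _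
  have hsurj : ∀ (W : X.Opens), IsAffineOpen W → Function.Surjective (q.app W) := fun W hW z => by
    obtain ⟨t, ht⟩ := (CBC.kap_bijective F (ModuleCat.of A (A ⧸ J)) hW).2 z
    obtain ⟨t', rfl⟩ := LinearMap.lTensor_surjective _ (Submodule.mkQ_surjective J) t
    refine ⟨ψ.hom.app W (CBC.kap F (ModuleCat.of A A) W t'), ?_⟩
    show (ψ.inv ≫ CBC.tAMap F (quotA J)).app W _ = _
    refine (app_comp _ _ _ _).symm.trans ?_
    rw [ψ.hom_inv_id_assoc]
    exact (CBC.kap_natural F (quotA J) W t').trans ht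
  have : IsIso θ := by
    refine isIso_of_affine_bijective θ fun W hW => ⟨(injective_iff_map_eq_zero (θ.app W).hom).2 fun z hz => ?_,
      fun z => ?_⟩
    · obtain ⟨x, rfl⟩ : ∃ x, (Formal.modPowπ I n F).app W x = z := by
        haveI : Epi (Formal.modPowπ I n F) := inferInstanceAs (Epi (cokernel.π _))
        exact QCoh.app_surjective_of_epi _ hW z
      have h0 : (CBC.tAMap F (quotA J)).app W (ψ.inv.app W x) = 0 := by
        rw [← app_comp]
        refine Eq.trans ?_ hz
        show q.app W x = θ.app W ((Formal.modPowπ I n F).app W x)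
        rw [← app_comp, hθ]
      obtain ⟨t, ht⟩ := (CBC.kap_bijective F (ModuleCat.of A A) hW).2 (ψ.inv.app W x)
      have hk : (Submodule.mkQ J).lTensor _ t = 0 := by
        refine (CBC.kap_bijective F (ModuleCat.of A (A ⧸ J)) hW).1 ?_
        rw [map_zero]
        refine (CBC.kap_natural F (quotA J) W t).symm.trans ?_
        rw [ht]
        exact h0
      obtain ⟨r, rfl⟩ := (lTensor_exact _ (LinearMap.exact_subtype_mkQ J) (Submodule.mkQ_surjective J) t).1 hk
      have key : ∀ r, (Formal.modPowπ I n F).app W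
          (ψ.hom.app W (CBC.kap F (ModuleCat.of A A) W (J.subtype.lTensor _ r))) = 0 := by
        intro r
        induction r using TensorProduct.induction_on with
        | zero =>
          rw [map_zero, map_zero]
          exact (congrArg _ (map_zero (ψ.hom.app W).hom)).trans (map_zero ((Formal.modPowπ I n F).app W).hom)
        | tmul s b =>
          have e2 : s ⊗ₜ[A] (b : A) = (b : A) • (s ⊗ₜ[A] (1 : A)) := by
            rw [← TensorProduct.tmul_smul, smul_eq_mul, mul_one]
          rw [LinearMap.lTensor_tmul, Submodule.subtype_apply]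
          refine (congrArg (fun t => (Formal.modPowπ I n F).app W (ψ.hom.app W
            (CBC.kap F (ModuleCat.of A A) W t))) e2).trans ?_
          refine (congrArg (fun t => (Formal.modPowπ I n F).app W (ψ.hom.app W t))
            (map_smul (CBC.kap F (ModuleCat.of A A) W) (b : A) (s ⊗ₜ[A] (1 : A)))).trans ?_
          show (Formal.modPowπ I n F).app W (ψ.hom.app W ((Formal.smulMod A _ (b : A)).app W _)) = 0
          refine ((app_comp _ _ _ _).symm.trans (app_comp _ _ _ _).symm).trans ?_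
          have e3 : Formal.smulMod A (CBC.tA F (ModuleCat.of A A)) (b : A) ≫ ψ.hom ≫ Formal.modPowπ I n F = 0 := by
            rw [← Category.assoc, smulMod_natural, Category.assoc,
              show Formal.smulMod A F (b : A) ≫ Formal.modPowπ I n F = 0 from smulMod_comp_π F b.2, comp_zero]
          rw [e3]
          rfl
        | add a b ha hb =>
          rw [map_add, map_add]
          refine (congrArg _ (map_add (ψ.hom.app W).hom _ _)).trans ?_
          refine (map_add ((Formal.modPowπ I n F).app W).hom _ _).trans ?_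
          rw [show ((Formal.modPowπ I n F).app W).hom _ = 0 from ha, show ((Formal.modPowπ I n F).app W).hom _ = 0 from hb, add_zero]
      have hx : x = ψ.hom.app W (CBC.kap F (ModuleCat.of A A) W (J.subtype.lTensor _ r)) := by
        rw [ht, ← app_comp, ψ.inv_hom_id]
        rfl
      rw [hx]
      exact key r
    · obtain ⟨y, rfl⟩ := hsurj W hW z
      exact ⟨(Formal.modPowπ I n F).app W y, by rw [← app_comp, hθ]⟩
  exact ⟨asIso θ, hθ⟩

theorem exists_iso_tA (I : Ideal A) (n : ℕ) :
    ∃ (q : F ⟶ CBC.tA F (ModuleCat.of A (A ⧸ I ^ n))) (ψ : CBC.tA F (ModuleCat.of A A) ≅ F)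
      (θ : Formal.modPow I n F ≅ CBC.tA F (ModuleCat.of A (A ⧸ I ^ n))),
      q = ψ.inv ≫ CBC.tAMap F (quotA (I ^ n)) ∧ Formal.modPowπ I n F ≫ θ.hom = q := by
  obtain ⟨ψ⟩ := nonempty_tAUnit (A := A) F
  obtain ⟨θ, hθ⟩ := exists_iso_tA_of F ψ I n
  exact ⟨_, ψ, θ, rfl, hθ⟩

/-- A complex exact on the right in degree `p` gives surjectivity onto `H^p(F/I^(n+1)F)`. -/
theorem toHHmodPow_surjective_of_rExact (R : CBC.Rep (A := A) F) (p : ℕ) (h : R.K.RExact p)
    (I : Ideal A) (n : ℕ) : Function.Surjective (Formal.toHHmodPow I F p n) := by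
  obtain ⟨q, ψ, θ, rfl, hθ⟩ := exists_iso_tA F I (n + 1)
  have hs : Function.Surjective (CohLin.hMap (CBC.tAMap F (quotA (I ^ (n + 1)))) p) :=
    (R.surjective_map_iff p (quotA (I ^ (n + 1)))).2 (h _ _ _ (Submodule.mkQ_surjective _))
  intro y
  obtain ⟨z, hz⟩ := hs (CohLin.hMap θ.hom p y)
  refine ⟨CohLin.hMap ψ.hom p z, ?_⟩
  have e : θ.hom ≫ θ.inv = 𝟙 _ := θ.hom_inv_id
  calc Formal.toHHmodPow I F p n (CohLin.hMap ψ.hom p z)
      = CohLin.hMap (Formal.modPowπ I (n + 1) F) p (CohLin.hMap ψ.hom p z) := rfl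
    _ = CohLin.hMap ((ψ.hom ≫ (ψ.inv ≫ CBC.tAMap F (quotA (I ^ (n + 1))))) ≫ θ.inv) p z := by
        rw [← hθ, Category.assoc, Category.assoc, e, Category.comp_id, CohLin.hMap_comp]
    _ = y := by
        rw [ψ.hom_inv_id_assoc, CohLin.hMap_comp, hz, ← CohLin.hMap_comp, e, CohLin.hMap_id]

end Groth.Agent.FormalFun
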