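import Groth.Agent.FormalFun.ClosedCut
import Groth.Agent.LimTop.ModDescend
import Groth.Agent.Adic.Levels
import Groth.Agent.ZClosLib.CohDescent
import Groth.Agent.FormalFun.Finite
import Groth.Prelude.Def_CohB1
import Mathlib.RingTheory.Spectrum.Prime.RingHom

/-!
# Towers of infinitesimal thickenings over an adic ring and their coherent modules

`Tower.K` : the kernels of the transition maps, `Tower.M` : their pullbacks to the bottom level,
`Tower.T` : the operators given by elements of the ideal.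
-/

set_option autoImplicit false

universe u

open CategoryTheory Limits AlgebraicGeometry Opposite TopologicalSpace
open Groth.Agent

noncomputable section

namespace Groth.Agent.FormalFun

/-- Thickenings over `A/J^(k+1)` with cartesian transition maps. -/
structure Tower (A : Type u) [CommRing A] (J : Ideal A) where
  X : ℕ → Scheme.{u}
  p : (k : ℕ) → (X k ⟶ Spec (CommRingCat.of (A ⧸ J ^ (k + 1))))
  i : (k : ℕ) → (X k ⟶ X (k + 1))
  cart : ∀ k, IsPullback (i k) (p k) (p (k + 1)) (CohB1.specQuotTrans J k)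

variable {A : Type u} [CommRing A] {J : Ideal A}

theorem isClosedImmersion_specQuot (J : Ideal A) (k : ℕ) : IsClosedImmersion (CohB1.specQuot J k) :=
  IsClosedImmersion.spec_of_surjective _ Ideal.Quotient.mk_surjective

instance (J : Ideal A) (k : ℕ) : IsClosedImmersion (CohB1.specQuotTrans J k) :=
  IsClosedImmersion.spec_of_surjective _ (Ideal.Quotient.factor_surjective (Ideal.pow_le_pow_right (Nat.le_succ (k + 1))))

theorem surjective_specQuotTrans (J : Ideal A) (k : ℕ) : Surjective (CohB1.specQuotTrans J k) := by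
  refine ⟨fun x => ?_⟩
  let φ : A ⧸ J ^ (k + 2) →+* A ⧸ J ^ (k + 1) :=
    Ideal.Quotient.factor (Ideal.pow_le_pow_right (Nat.le_succ (k + 1)))
  have h : x ∈ Set.range (PrimeSpectrum.comap φ) := by
    refine (range_comap_of_surjective _ φ (Ideal.Quotient.factor_surjective (Ideal.pow_le_pow_right (Nat.le_succ (k + 1))))).ge ?_
    intro b hb
    obtain ⟨a, rfl⟩ := Ideal.Quotient.mk_surjective b
    have ha : a ∈ J ^ (k + 1) := Ideal.Quotient.eq_zero_iff_mem.mp hb
    refine x.2.mem_of_pow_mem 2 ?_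
    rw [← map_pow, Ideal.Quotient.eq_zero_iff_mem.mpr ?_]
    · exact x.asIdeal.zero_mem
    · exact Ideal.pow_le_pow_right (show k + 2 ≤ (k + 1) * 2 by omega) (by rw [pow_mul]; exact Ideal.pow_mem_pow ha 2)
  exact h

namespace Tower

variable (W : Tower A J)

/-- structure map to `Spec A` -/
abbrev q (k : ℕ) : W.X k ⟶ Spec (CommRingCat.of A) := W.p k ≫ CohB1.specQuot J k

instance instOver (k : ℕ) : (W.X k).Over (Spec (CommRingCat.of A)) := ⟨W.q k⟩

theorem i_over (k : ℕ) :
    W.i k ≫ (W.X (k + 1) ↘ Spec (CommRingCat.of A)) = W.X k ↘ Spec (CommRingCat.of A) := by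
  show W.i k ≫ W.p (k + 1) ≫ CohB1.specQuot J (k + 1) = W.p k ≫ CohB1.specQuot J k
  rw [← Category.assoc, (W.cart k).w, Category.assoc, CohB1.specQuotTrans_specQuot]

instance isClosedImmersion_i (k : ℕ) : IsClosedImmersion (W.i k) :=
  MorphismProperty.of_isPullback (P := @IsClosedImmersion) (W.cart k).flip inferInstance

/-- `X 0 ⟶ X k` -/
def toX : ∀ k, W.X 0 ⟶ W.X k
  | 0 => 𝟙 _
  | k + 1 => toX k ≫ W.i k

theorem isClosedImmersion_toX : ∀ k, IsClosedImmersion (W.toX k)
  | 0 => inferInstanceAs (IsClosedImmersion (𝟙 _))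
  | k + 1 => haveI := isClosedImmersion_toX k; inferInstanceAs (IsClosedImmersion (W.toX k ≫ W.i k))

instance (k : ℕ) : IsClosedImmersion (W.toX k) := W.isClosedImmersion_toX k

theorem isPullback_i (k : ℕ) :
    IsPullback (W.i k) (W.p k) (W.X (k + 1) ↘ Spec (CommRingCat.of A)) (CohB1.specQuot J k) := by
  haveI := isClosedImmersion_specQuot J (k + 1)
  haveI : Mono (CohB1.specQuot J (k + 1)) := inferInstance
  have h := (W.cart k).paste_vert (IsPullback.of_vert_isIso_mono (fst := CohB1.specQuotTrans J k)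
    (snd := 𝟙 _) (f := CohB1.specQuot J (k + 1)) (g := CohB1.specQuot J k) ⟨by simp⟩)
  rwa [Category.comp_id] at h

theorem isPullback_toX : ∀ k,
    IsPullback (W.toX k) (W.p 0) (W.X k ↘ Spec (CommRingCat.of A)) (CohB1.specQuot J 0)
  | 0 => by
    haveI := isClosedImmersion_specQuot J 0
    haveI : Mono (CohB1.specQuot J 0) := inferInstance
    haveI : IsIso (W.toX 0) := inferInstanceAs (IsIso (𝟙 (W.X 0)))
    exact IsPullback.of_horiz_isIso_mono ⟨show 𝟙 _ ≫ W.p 0 ≫ CohB1.specQuot J 0 = W.p 0 ≫ CohB1.specQuot J 0 from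
      Category.id_comp _⟩
  | k + 1 => by
    haveI := isClosedImmersion_specQuot J k
    haveI : Mono (CohB1.specQuot J k) := inferInstance
    have h₁ := isPullback_toX k
    -- factor the square of level `k` through `Spec A/J^(k+1)`
    let t : Spec (CommRingCat.of (A ⧸ J ^ (0 + 1))) ⟶ Spec (CommRingCat.of (A ⧸ J ^ (k + 1))) :=
      Spec.map (CommRingCat.ofHom (Ideal.Quotient.factor (Ideal.pow_le_pow_right (by omega))))
    have ht : t ≫ CohB1.specQuot J k = CohB1.specQuot J 0 := by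
      simp only [t, CohB1.specQuot, ← Spec.map_comp, ← CommRingCat.ofHom_comp]
      rfl
    have h₂ : IsPullback (W.toX k) (W.p 0) (W.p k) t := by
      refine IsPullback.of_bot (v₂₁ := 𝟙 _) ?_ ?_ (IsPullback.of_vert_isIso_mono (fst := t) (snd := 𝟙 _)
        (f := CohB1.specQuot J k) (g := CohB1.specQuot J 0) ⟨by simp [ht]⟩)
      · rw [Category.comp_id]; exact h₁
      · refine (cancel_mono (CohB1.specQuot J k)).1 ?_
        rw [Category.assoc, Category.assoc, ht]
        exact h₁.w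
    have h₃ := h₂.paste_horiz (W.cart k)
    haveI := isClosedImmersion_specQuot J (k + 1)
    haveI : Mono (CohB1.specQuot J (k + 1)) := inferInstance
    have h₄ := h₃.paste_vert (IsPullback.of_vert_isIso_mono (fst := t ≫ CohB1.specQuotTrans J k)
      (snd := 𝟙 _) (f := CohB1.specQuot J (k + 1)) (g := CohB1.specQuot J 0) ⟨by simp [ht]⟩)
    rwa [Category.comp_id] at h₄

theorem isCut_i (k : ℕ) : IsCut (W.i k) (J ^ (k + 1)) :=
  isCut_of_isPullback _ J k (W.isPullback_i k)

theorem isCut_toX (k : ℕ) : IsCut (W.toX k) (J ^ (0 + 1)) :=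
  isCut_of_isPullback _ J 0 (W.isPullback_toX k)

/-- `J^(k+1)` kills level `k`. -/
theorem smulMod_eq_zero (k : ℕ) {b : A} (hb : b ∈ J ^ (k + 1)) (G : (W.X k).Modules) :
    Formal.smulMod A G b = 0 := by
  refine Scheme.Modules.hom_ext _ _ fun U => ?_
  ext x
  refine (smulMod_app G b U x).trans ?_
  have e : gA (A := A) (X := W.X k) U b = 0 := by
    show (W.X k).presheaf.map _ ((W.p k ≫ CohB1.specQuot J k).appTop ((Scheme.ΓSpecIso (CommRingCat.of A)).inv b)) = 0
    refine (congrArg _ ((congr($(Scheme.Hom.comp_appTop (W.p k) (CohB1.specQuot J k)) _)).trans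
      ((congrArg (W.p k).appTop (S5742.specQuot_kills J k hb)).trans (map_zero _)))).trans (map_zero _)
  rw [e]
  exact zero_smul _ _

theorem isProper_p [IsNoetherianRing A] (h : IsProper (W.p 0)) : ∀ k, IsProper (W.p k)
  | 0 => h
  | k + 1 => by
    haveI := isProper_p h k
    haveI := surjective_specQuotTrans J k
    exact Adic.Levels.isProper (W.cart k)

theorem isNoetherian_X [IsNoetherianRing A] (h : IsProper (W.p 0)) (k : ℕ) : IsNoetherian (W.X k) := by
  haveI := W.isProper_p h k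
  haveI : IsLocallyNoetherian (W.X k) := LocallyOfFiniteType.isLocallyNoetherian (W.p k)
  haveI : CompactSpace (W.X k) := QuasiCompact.compactSpace_of_compactSpace (W.p k)
  exact {}

end Tower

/-- A coherent module on a tower. -/
structure TowerMod {A : Type u} [CommRing A] {J : Ideal A} (W : Tower A J) where
  F : (k : ℕ) → (W.X k).Modules
  coh : ∀ k, Coh.IsCoh (F k)
  ψ : ∀ k, (Scheme.Modules.pullback (W.i k)).obj (F (k + 1)) ≅ F k

namespace TowerMod

variable {W : Tower A J} (S : TowerMod W)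

/-- the transition map -/
def π (k : ℕ) : S.F (k + 1) ⟶ (Scheme.Modules.pushforward (W.i k)).obj (S.F k) :=
  (Scheme.Modules.pullbackPushforwardAdjunction (W.i k)).unit.app (S.F (k + 1)) ≫
    (Scheme.Modules.pushforward (W.i k)).map (S.ψ k).hom

theorem exists_iso_π (k : ℕ) :
    ∃ θ : Formal.modPow J (k + 1) (S.F (k + 1)) ≅ (Scheme.Modules.pushforward (W.i k)).obj (S.F k),
      Formal.modPowπ J (k + 1) (S.F (k + 1)) ≫ θ.hom = S.π k := by
  obtain ⟨θ, hθ⟩ := (W.isCut_i k).exists_iso_unit (S.F (k + 1))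
  exact ⟨θ ≪≫ (Scheme.Modules.pushforward (W.i k)).mapIso (S.ψ k), by
    rw [Iso.trans_hom, ← Category.assoc, hθ]; rfl⟩

theorem smulFamily_π (k : ℕ) : Formal.smulFamily (J ^ (k + 1)) (S.F (k + 1)) ≫ S.π k = 0 := by
  obtain ⟨θ, hθ⟩ := S.exists_iso_π k
  rw [← hθ, ← Category.assoc]
  exact (congrArg (· ≫ θ.hom) (cokernel.condition _)).trans zero_comp

/-- `π k` is the cokernel of multiplication by `J^(k+1)`. -/
def isColimitπ (k : ℕ) : IsColimit (CokernelCofork.ofπ (S.π k) (S.smulFamily_π k)) :=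
  IsColimit.ofIsoColimit (cokernelIsCokernel _)
    (Cofork.ext (S.exists_iso_π k).choose (S.exists_iso_π k).choose_spec)

instance epi_π (k : ℕ) : Epi (S.π k) := Cofork.IsColimit.epi (S.isColimitπ k)

/-- the kernel of the transition map -/
abbrev K (k : ℕ) : (W.X (k + 1)).Modules := kernel (S.π k)

/-- `J^(k+1) F → K` -/
abbrev cover (k : ℕ) : (∐ fun _ : ↥(J ^ (k + 1)) => S.F (k + 1)) ⟶ S.K k :=
  kernel.lift _ _ (S.smulFamily_π k)

instance epi_cover (k : ℕ) : Epi (S.cover k) := by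
  have h : (ShortComplex.mk _ _ (S.smulFamily_π k)).Exact :=
    ShortComplex.exact_of_g_is_cokernel _ (S.isColimitπ k)
  exact (ShortComplex.exact_iff_epi_kernel_lift _).1 h

theorem smulMod_K (k : ℕ) {a : A} (ha : a ∈ J) : Formal.smulMod A (S.K k) a = 0 := by
  refine (cancel_epi (S.cover k)).1 ((cancel_mono (kernel.ι (S.π k))).1 ?_)
  rw [comp_zero, zero_comp, Category.assoc, smulMod_natural, kernel.lift_ι_assoc]
  apply Sigma.hom_ext
  intro b
  rw [comp_zero, ← Category.assoc, Formal.smulFamily, Sigma.ι_desc, ← CohIII.smulMod_mul,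
    W.smulMod_eq_zero]
  rw [show J ^ (k + 1 + 1) = J ^ (k + 1) * J from pow_succ J (k + 1)]
  first
    | exact Ideal.mul_mem_mul b.2 ha
    | (rw [mul_comm a]; exact Ideal.mul_mem_mul b.2 ha)

theorem isCoh_K [IsNoetherianRing A] (h : IsProper (W.p 0)) (k : ℕ) : Coh.IsCoh (S.K k) := by
  haveI := W.isNoetherian_X h (k + 1)
  obtain ⟨θ, hθ⟩ := S.exists_iso_π k
  refine CohDev.isCoh_kernel _ (S.coh (k + 1)) ?_
  haveI := (S.coh k).1
  haveI := (isCoh_modPow (I := J) (S.coh (k + 1)) (k + 1)).1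
  exact QCoh.isQuasicoherent_of_iso θ

/-- the kernel on the bottom level -/
abbrev M (k : ℕ) : (W.X 0).Modules := (Scheme.Modules.pullback (W.toX (k + 1))).obj (S.K k)

theorem isIso_unit_K (k : ℕ) :
    IsIso ((Scheme.Modules.pullbackPushforwardAdjunction (W.toX (k + 1))).unit.app (S.K k)) :=
  (W.isCut_toX (k + 1)).isIso_unit _ fun a ha => S.smulMod_K k ((pow_one J).le ha)

theorem μ_condition (k : ℕ) {a : A} (ha : a ∈ J) :
    Formal.smulFamily (J ^ (k + 1 + 1)) (S.F (k + 1 + 1)) ≫ Formal.smulMod A (S.F (k + 1 + 1)) a = 0 := by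
  apply Sigma.hom_ext
  intro b
  rw [comp_zero, ← Category.assoc, Formal.smulFamily, Sigma.ι_desc, ← CohIII.smulMod_mul, W.smulMod_eq_zero]
  refine (pow_succ J (k + 1 + 1)).ge ?_
  first
    | exact Ideal.mul_mem_mul b.2 ha
    | (rw [mul_comm a]; exact Ideal.mul_mem_mul b.2 ha)

/-- multiplication by `a ∈ J`, as a map from level `k + 1` to level `k + 2` -/
def μ (k : ℕ) {a : A} (ha : a ∈ J) :
    (Scheme.Modules.pushforward (W.i (k + 1))).obj (S.F (k + 1)) ⟶ S.F (k + 1 + 1) :=
  (S.isColimitπ (k + 1)).desc (CokernelCofork.ofπ _ (S.μ_condition k ha))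

@[reassoc]
theorem π_μ (k : ℕ) {a : A} (ha : a ∈ J) : S.π (k + 1) ≫ S.μ k ha = Formal.smulMod A (S.F (k + 1 + 1)) a :=
  (S.isColimitπ (k + 1)).fac (CokernelCofork.ofπ _ (S.μ_condition k ha)) WalkingParallelPair.one

theorem μ_π (k : ℕ) {a : A} (ha : a ∈ J) :
    S.μ k ha ≫ S.π (k + 1) = Formal.smulMod A _ a := by
  refine (cancel_epi (S.π (k + 1))).1 ?_
  rw [π_μ_assoc, smulMod_natural]

theorem push_ι_μ_π (k : ℕ) {a : A} (ha : a ∈ J) :
    ((Scheme.Modules.pushforward (W.i (k + 1))).map (kernel.ι (S.π k)) ≫ S.μ k ha) ≫ S.π (k + 1) = 0 := by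
  rw [Category.assoc, μ_π, ← smulMod_natural, ← push_map_smulMod (W.i (k + 1)) (W.i_over (k + 1)),
    S.smulMod_K k ha, Functor.map_zero, zero_comp]

/-- the operator -/
def τ (k : ℕ) {a : A} (ha : a ∈ J) :
    (Scheme.Modules.pushforward (W.i (k + 1))).obj (S.K k) ⟶ S.K (k + 1) :=
  kernel.lift _ _ (S.push_ι_μ_π k ha)

@[reassoc]
theorem τ_ι (k : ℕ) {a : A} (ha : a ∈ J) :
    S.τ k ha ≫ kernel.ι (S.π (k + 1)) =
      (Scheme.Modules.pushforward (W.i (k + 1))).map (kernel.ι (S.π k)) ≫ S.μ k ha :=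
  kernel.lift_ι _ _ _

theorem μ_comm (k : ℕ) {a b : A} (ha : a ∈ J) (hb : b ∈ J) :
    (Scheme.Modules.pushforward (W.i (k + 1 + 1))).map (S.μ k ha) ≫ S.μ (k + 1) hb =
      (Scheme.Modules.pushforward (W.i (k + 1 + 1))).map (S.μ k hb) ≫ S.μ (k + 1) ha := by
  haveI : (Scheme.Modules.pushforward (W.i (k + 1 + 1))).IsLeftAdjoint := Props.KilledSub.isLeftAdjoint _
  haveI : Epi ((Scheme.Modules.pushforward (W.i (k + 1 + 1))).map (S.π (k + 1))) := inferInstance
  have key : ∀ {c d : A} (hc : c ∈ J) (hd : d ∈ J),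
      S.π (k + 1 + 1) ≫ (Scheme.Modules.pushforward (W.i (k + 1 + 1))).map (S.π (k + 1)) ≫
        (Scheme.Modules.pushforward (W.i (k + 1 + 1))).map (S.μ k hc) ≫ S.μ (k + 1) hd =
      Formal.smulMod A (S.F (k + 1 + 1 + 1)) c ≫ Formal.smulMod A (S.F (k + 1 + 1 + 1)) d := by
    intro c d hc hd
    rw [← Functor.map_comp_assoc, π_μ, push_map_smulMod (W.i (k + 1 + 1)) (W.i_over (k + 1 + 1)),
      ← Category.assoc, ← smulMod_natural, Category.assoc, π_μ]
  refine (cancel_epi ((Scheme.Modules.pushforward (W.i (k + 1 + 1))).map (S.π (k + 1)))).1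
    ((cancel_epi (S.π (k + 1 + 1))).1 ((key ha hb).trans (Eq.trans ?_ (key hb ha).symm)))
  rw [← CohIII.smulMod_mul, ← CohIII.smulMod_mul, mul_comm]

@[reassoc]
theorem τ_comm (k : ℕ) {a b : A} (ha : a ∈ J) (hb : b ∈ J) :
    (Scheme.Modules.pushforward (W.i (k + 1 + 1))).map (S.τ k ha) ≫ S.τ (k + 1) hb =
      (Scheme.Modules.pushforward (W.i (k + 1 + 1))).map (S.τ k hb) ≫ S.τ (k + 1) ha := by
  refine (cancel_mono (kernel.ι (S.π (k + 1 + 1)))).1 ?_
  simp only [Category.assoc, τ_ι]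
  rw [← Functor.map_comp_assoc, ← Functor.map_comp_assoc, τ_ι, τ_ι, Functor.map_comp_assoc,
    Functor.map_comp_assoc, μ_comm]

theorem epi_desc_τ {r : ℕ} (a : Fin r → A) (ha : ∀ l, a l ∈ J) (hspan : J = Ideal.span (Set.range a)) (k : ℕ) :
    Epi (biproduct.desc fun l => S.τ k (ha l)) := by
  let P := Scheme.Modules.pushforward (W.i (k + 1))
  haveI : P.IsLeftAdjoint := Props.KilledSub.isLeftAdjoint _
  let D := biproduct.desc fun l => S.τ k (ha l)
  suffices h : S.cover (k + 1) ≫ cokernel.π D = 0 by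
    exact Abelian.epi_of_cokernel_π_eq_zero _ ((cancel_epi (S.cover (k + 1))).1 (h.trans comp_zero.symm))
  apply Sigma.hom_ext
  intro b
  rw [comp_zero, ← Category.assoc]
  let F := S.F (k + 1 + 1)
  have key : ∀ x ∈ J * J ^ (k + 1), ∃ t : F ⟶ ⨁ fun _ : Fin r => P.obj (S.K k),
      t ≫ D ≫ kernel.ι (S.π (k + 1)) = Formal.smulMod A F x := by
    intro x hx
    refine Submodule.mul_induction_on hx (fun c hc d hd => ?_) (fun x y hx hy => ?_)
    · rw [hspan] at hc
      induction hc using Submodule.span_induction with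
      | mem c hc =>
        obtain ⟨l, rfl⟩ := hc
        refine ⟨S.π (k + 1) ≫ P.map (Sigma.ι (fun _ : ↥(J ^ (k + 1)) => S.F (k + 1)) ⟨d, hd⟩ ≫ S.cover k) ≫
          biproduct.ι (fun _ : Fin r => P.obj (S.K k)) l, ?_⟩
        rw [Category.assoc, Category.assoc, biproduct.ι_desc_assoc, τ_ι, ← Functor.map_comp_assoc,
          Category.assoc, kernel.lift_ι, Formal.smulFamily, Sigma.ι_desc,
          push_map_smulMod (W.i (k + 1)) (W.i_over (k + 1)), ← Category.assoc, ← smulMod_natural,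
          Category.assoc, π_μ, ← CohIII.smulMod_mul]
      | zero => exact ⟨0, by rw [zero_mul, smulMod_zero, zero_comp]⟩
      | add c c' _ _ h h' =>
        obtain ⟨t, ht⟩ := h
        obtain ⟨t', ht'⟩ := h'
        exact ⟨t + t', by rw [add_mul, smulMod_add, Preadditive.add_comp, ht, ht']⟩
      | smul e c _ h =>
        obtain ⟨t, ht⟩ := h
        refine ⟨Formal.smulMod A F e ≫ t, ?_⟩
        rw [Category.assoc, ht, smul_eq_mul, ← CohIII.smulMod_mul]
        congr 1
        ring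
    · obtain ⟨t, ht⟩ := hx
      obtain ⟨t', ht'⟩ := hy
      exact ⟨t + t', by rw [smulMod_add, Preadditive.add_comp, ht, ht']⟩
  obtain ⟨t, ht⟩ := key b.1 ((pow_succ' J (k + 1)).le b.2)
  have e : Sigma.ι (fun _ : ↥(J ^ (k + 1 + 1)) => F) b ≫ S.cover (k + 1) = t ≫ D := by
    refine (cancel_mono (kernel.ι (S.π (k + 1)))).1 ?_
    rw [Category.assoc, Category.assoc, kernel.lift_ι, Formal.smulFamily, Sigma.ι_desc, ht]
  rw [e, Category.assoc, cokernel.condition, comp_zero]

/-! ### The graded system on the bottom level -/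

/-- `j_(k+1)^* ≅ i_* ⋙ j_(k+2)^*` -/
def σ (W : Tower A J) (k : ℕ) :
    Scheme.Modules.pushforward (W.i (k + 1)) ⋙ Scheme.Modules.pullback (W.toX (k + 1 + 1)) ≅
      Scheme.Modules.pullback (W.toX (k + 1)) :=
  Functor.isoWhiskerLeft _ (LimTop.compIso (W.toX (k + 1)) (W.i (k + 1)) rfl).symm ≪≫
    (Functor.associator _ _ _).symm ≪≫
    Functor.isoWhiskerRight (asIso (Scheme.Modules.pullbackPushforwardAdjunction (W.i (k + 1))).counit) _ ≪≫
    Functor.leftUnitor _

/-- the operator on the bottom level -/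
def T (k : ℕ) {a : A} (ha : a ∈ J) : S.M k ⟶ S.M (k + 1) :=
  (σ W k).inv.app (S.K k) ≫ (Scheme.Modules.pullback (W.toX (k + 1 + 1))).map (S.τ k ha)

theorem T_comm (k : ℕ) {a b : A} (ha : a ∈ J) (hb : b ∈ J) :
    S.T k ha ≫ S.T (k + 1) hb = S.T k hb ≫ S.T (k + 1) ha := by
  have key : ∀ {c d : A} (hc : c ∈ J) (hd : d ∈ J), S.T k hc ≫ S.T (k + 1) hd =
      (σ W k).inv.app (S.K k) ≫ (σ W (k + 1)).inv.app ((Scheme.Modules.pushforward (W.i (k + 1))).obj (S.K k)) ≫
        (Scheme.Modules.pullback (W.toX (k + 1 + 1 + 1))).map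
          ((Scheme.Modules.pushforward (W.i (k + 1 + 1))).map (S.τ k hc) ≫ S.τ (k + 1) hd) := by
    intro c d hc hd
    rw [T, T, Category.assoc, ← Category.assoc ((Scheme.Modules.pullback (W.toX (k + 1 + 1))).map (S.τ k hc))]
    refine congrArg ((σ W k).inv.app (S.K k) ≫ ·) ?_
    rw [(σ W (k + 1)).inv.naturality (S.τ k hc), Category.assoc, Functor.map_comp]
    rfl
  rw [key ha hb, key hb ha, S.τ_comm k ha hb]

theorem epi_desc_T {r : ℕ} (a : Fin r → A) (ha : ∀ l, a l ∈ J) (hspan : J = Ideal.span (Set.range a)) (k : ℕ) :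
    Epi (biproduct.desc fun l => S.T k (ha l)) := by
  haveI := S.epi_desc_τ a ha hspan k
  let P := Scheme.Modules.pullback (W.toX (k + 1 + 1))
  haveI : P.IsLeftAdjoint := (Scheme.Modules.pullbackPushforwardAdjunction _).isLeftAdjoint
  let D := biproduct.desc fun l => S.τ k (ha l)
  let D' := biproduct.desc fun l => S.T k (ha l)
  refine Abelian.epi_of_cokernel_π_eq_zero _ ?_
  haveI : Epi (P.map D) := inferInstance
  have hid : 𝟙 (⨁ fun _ : Fin r => (Scheme.Modules.pushforward (W.i (k + 1))).obj (S.K k)) =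
      ∑ l, biproduct.π _ l ≫ biproduct.ι _ l := biproduct.total.symm
  refine (cancel_epi (P.map D)).1 ?_
  rw [comp_zero, show D = 𝟙 _ ≫ D from (Category.id_comp D).symm, hid, Preadditive.sum_comp, Functor.map_sum,
    Preadditive.sum_comp]
  refine Finset.sum_eq_zero fun l _ => ?_
  rw [Category.assoc, biproduct.ι_desc, Functor.map_comp, Category.assoc]
  have hT : P.map (S.τ k (ha l)) ≫ cokernel.π D' = 0 := by
    have e : S.T k (ha l) ≫ cokernel.π D' = 0 := by
      rw [← biproduct.ι_desc (fun l => S.T k (ha l)) l, Category.assoc, cokernel.condition, comp_zero]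
    rw [T, Category.assoc] at e
    exact (cancel_epi ((σ W k).inv.app (S.K k))).1 (e.trans comp_zero.symm)
  exact (congrArg (_ ≫ ·) hT).trans comp_zero

end TowerMod

end Groth.Agent.FormalFun
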