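import Groth.Prelude.Def_CAlg2
import Mathlib.RingTheory.Polynomial.GaussLemma
import Mathlib.RingTheory.Ideal.GoingUp
import Mathlib.FieldTheory.SeparableDegree
import Mathlib.FieldTheory.IsAlgClosed.Basic

/-!
# Maximal ideals of integral closures above a unibranch local domain

* `finite_maximalSpectrum_le`: if the integral closure of `R` in `K` is local and `L/K` is algebraic of finite
  separable degree `n`, the integral closure of `R` in `L` has at most `n` maximal ideals.
* `isLocalRing_integralClosure_of_isUnibranch`: a unibranch local domain has local integral closure.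
-/

set_option autoImplicit false

universe u

open Polynomial

noncomputable section

namespace Groth.Agent.FormalFun

variable {R K L : Type u} [CommRing R] [IsLocalRing R] [Field K] [Algebra R K] [Field L] [Algebra R L] [Algebra K L]
  [IsScalarTower R K L] [Algebra.IsAlgebraic K L]

theorem exists_emb_over (hN : IsLocalRing (integralClosure R K)) (P₀ : Ideal (integralClosure R (AlgebraicClosure L)))
    [P₀.IsPrime] (hP₀ : ∀ k : integralClosure R K, k ∈ IsLocalRing.maximalIdeal (integralClosure R K) →
      (IsScalarTower.toAlgHom R K (AlgebraicClosure L)).mapIntegralClosure k ∈ P₀)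
    (Q : Ideal (integralClosure R L)) (hQ : Q ≠ ⊤) (b : integralClosure R L) (hb : b ∈ Q) :
    ∃ e : Field.Emb K L, (e.restrictScalars R).mapIntegralClosure b ∈ P₀ := by
  let Ω := AlgebraicClosure L
  let N := integralClosure R K
  obtain ⟨P, hP, hPb⟩ := b.2
  have hbK : IsIntegral K (b : L) := (Algebra.IsAlgebraic.isAlgebraic _).isIntegral
  let g := minpoly K (b : L)
  have hdvd : g ∣ P.map (algebraMap R K) := by
    refine minpoly.dvd K _ ?_
    rw [aeval_map_algebraMap]
    exact hPb
  obtain ⟨G, hG⟩ := (mem_lifts g).mp (integralClosure.mem_lifts_of_monic_of_dvd_map K hP (minpoly.monic hbK) hdvd)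
  let j : N →ₐ[R] integralClosure R L := (IsScalarTower.toAlgHom R K L).mapIntegralClosure
  have hGb : G.eval₂ j.toRingHom b = 0 := by
    refine Subtype.coe_injective ?_
    show (integralClosure R L).val.toRingHom (G.eval₂ j.toRingHom b) = _
    rw [hom_eval₂]
    have e : (integralClosure R L).val.toRingHom.comp j.toRingHom = (algebraMap K L).comp (algebraMap N K) := RingHom.ext fun k => rfl
    rw [e, ← eval₂_map, hG]
    exact minpoly.aeval K (b : L)
  -- the constant coefficient lies in the maximal ideal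
  have hk : G.coeff 0 ∈ IsLocalRing.maximalIdeal N := by
    rw [IsLocalRing.mem_maximalIdeal]
    intro hu
    refine hQ (Ideal.eq_top_of_isUnit_mem Q ?_ (hu.map j))
    rw [← G.X_mul_divX_add, eval₂_add, eval₂_mul, eval₂_X, eval₂_C, add_eq_zero_iff_eq_neg] at hGb
    have : j.toRingHom (G.coeff 0) = -(b * G.divX.eval₂ j.toRingHom b) := by rw [hGb, neg_neg]
    show j.toRingHom (G.coeff 0) ∈ Q
    rw [this]
    exact Q.neg_mem (Q.mul_mem_right _ hb)
  -- factor it in the algebraic closure
  have hint : ∀ r ∈ (g.map (algebraMap K Ω)).roots, IsIntegral R (-r) := by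
    intro r hr
    refine IsIntegral.neg ⟨P, hP, ?_⟩
    obtain ⟨q, hq⟩ := hdvd
    have h1 : (P.map (algebraMap R K)).eval₂ (algebraMap K Ω) r = 0 := by
      rw [hq, eval₂_mul, eval₂_eq_eval_map, (mem_roots'.mp hr).2, zero_mul]
    rw [eval₂_map, ← IsScalarTower.algebraMap_eq] at h1
    exact h1
  let s : Multiset (integralClosure R Ω) :=
    (g.map (algebraMap K Ω)).roots.attach.map fun r => ⟨-r.1, hint r.1 r.2⟩
  have hs : s.prod = (IsScalarTower.toAlgHom R K Ω).mapIntegralClosure (G.coeff 0) := by
    refine Subtype.coe_injective ?_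
    show (integralClosure R Ω).val s.prod = algebraMap K Ω (algebraMap N K (G.coeff 0))
    rw [map_multiset_prod, Multiset.map_map, ← coeff_map, hG, ← coeff_map,
      show ((integralClosure R Ω).val ∘ fun r : {x // x ∈ (g.map (algebraMap K Ω)).roots} =>
        (⟨-r.1, hint r.1 r.2⟩ : integralClosure R Ω)) = fun r => -r.1 from rfl,
      Multiset.attach_map_val', coeff_zero_eq_eval_zero]
    conv_rhs => rw [(IsAlgClosed.splits (g.map (algebraMap K Ω))).eq_prod_roots_of_monic ((minpoly.monic hbK).map _)]
    rw [eval_multiset_prod, Multiset.map_map]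
    simp
  have hmem : s.prod ∈ P₀ := hs ▸ hP₀ _ hk
  obtain ⟨z, hz, hzP⟩ := (Ideal.IsPrime.multiset_prod_mem_iff_exists_mem ‹_› s).mp hmem
  obtain ⟨⟨r, hr⟩, -, rfl⟩ := Multiset.mem_map.mp hz
  have hr' : r ∈ g.rootSet Ω := by
    rw [mem_rootSet']
    refine ⟨(mem_roots'.mp hr).1, ?_⟩
    rw [aeval_def, eval₂_eq_eval_map]
    exact (mem_roots'.mp hr).2
  rw [← Algebra.IsAlgebraic.range_eval_eq_rootSet_minpoly Ω (b : L)] at hr'
  obtain ⟨e, he⟩ := hr'
  refine ⟨e, ?_⟩
  rw [← P₀.neg_mem_iff]
  convert hzP using 1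
  refine Subtype.ext ?_
  show -((e.restrictScalars R) (b : L)) = -r
  rw [← he]
  rfl

theorem finite_maximalSpectrum_le (hN : IsLocalRing (integralClosure R K)) {n : ℕ} (hn0 : 0 < n)
    (hn : Field.finSepDegree K L = n) :
    Finite (MaximalSpectrum (integralClosure R L)) ∧ Nat.card (MaximalSpectrum (integralClosure R L)) ≤ n := by
  let Ω := AlgebraicClosure L
  haveI hfin : Finite (Field.Emb K L) := Nat.finite_of_card_ne_zero (by
    show Field.finSepDegree K L ≠ 0
    omega)
  letI : Fintype (Field.Emb K L) := Fintype.ofFinite _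
  let N := integralClosure R K
  let jΩ : N →ₐ[R] integralClosure R Ω := (IsScalarTower.toAlgHom R K Ω).mapIntegralClosure
  letI : Algebra N (integralClosure R Ω) := jΩ.toRingHom.toAlgebra
  haveI : IsScalarTower R N (integralClosure R Ω) := IsScalarTower.of_algebraMap_eq fun r => (jΩ.commutes r).symm
  haveI : Algebra.IsIntegral N (integralClosure R Ω) := Algebra.IsIntegral.tower_top R
  obtain ⟨P₀, -, hP₀, hP₀N⟩ := Ideal.exists_ideal_over_prime_of_isIntegral (IsLocalRing.maximalIdeal N)
    (⊥ : Ideal (integralClosure R Ω)) (by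
      intro k hk
      have h0 : algebraMap K Ω (k : K) = 0 := congrArg Subtype.val (Ideal.mem_bot.mp hk)
      have h1 : k = 0 := Subtype.ext ((map_eq_zero _).mp h0)
      rw [h1]
      exact zero_mem _)
  haveI := hP₀
  let F : Field.Emb K L → Ideal (integralClosure R L) := fun e => P₀.comap (e.restrictScalars R).mapIntegralClosure
  have hcov : ∀ Q : MaximalSpectrum (integralClosure R L), ∃ e, F e = Q.asIdeal := by
    intro Q
    have hsub : (Q.asIdeal : Set (integralClosure R L)) ⊆ ⋃ e ∈ (↑(Finset.univ : Finset (Field.Emb K L)) : Set _), F e :=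
      fun b hb => by
        obtain ⟨e, he⟩ := exists_emb_over hN P₀ (fun k hk => by
          rw [← hP₀N] at hk
          exact hk) Q.asIdeal Q.isMaximal.ne_top b hb
        exact Set.mem_biUnion (Finset.mem_coe.mpr (Finset.mem_univ e)) he
    obtain ⟨e, -, he⟩ := (Ideal.subset_union_prime default default (fun i _ _ _ => Ideal.IsPrime.comap _)).mp hsub
    exact ⟨e, (Q.isMaximal.eq_of_le (Ideal.IsPrime.ne_top (Ideal.IsPrime.comap _)) he).symm⟩
  choose e he using hcov
  have hinj : Function.Injective e := fun Q Q' h => MaximalSpectrum.ext ((he Q).symm.trans ((congrArg F h).trans (he Q')))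
  refine ⟨Finite.of_injective e hinj, ?_⟩
  calc Nat.card (MaximalSpectrum (integralClosure R L)) ≤ Nat.card (Field.Emb K L) := Nat.card_le_card_of_injective e hinj
    _ = n := hn

theorem isLocalRing_integralClosure_of_equiv {R₁ K₁ R₂ K₂ : Type u} [CommRing R₁] [CommRing R₂] [CommRing K₁]
    [Field K₂] [Algebra R₁ K₁] [Algebra R₂ K₂] (e : R₁ ≃+* R₂) (E : K₁ ≃+* K₂)
    (hE : ∀ x, E (algebraMap R₁ K₁ x) = algebraMap R₂ K₂ (e x)) (h : IsLocalRing (integralClosure R₁ K₁)) :
    IsLocalRing (integralClosure R₂ K₂) := by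
  haveI := h
  have key : ∀ z : K₁, IsIntegral R₁ z → IsIntegral R₂ (E z) := fun z hz =>
    IsIntegral.map_of_comp_eq e.toRingHom E.toRingHom (RingHom.ext fun x => (hE x).symm) hz
  have key' : ∀ w : K₂, IsIntegral R₂ w → IsIntegral R₁ (E.symm w) := fun w hw =>
    IsIntegral.map_of_comp_eq e.symm.toRingHom E.symm.toRingHom (RingHom.ext fun x => E.injective (by
      show E (algebraMap R₁ K₁ (e.symm x)) = E (E.symm (algebraMap R₂ K₂ x))
      rw [hE, E.apply_symm_apply, e.apply_symm_apply])) hw
  let f : integralClosure R₁ K₁ →+* integralClosure R₂ K₂ :=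
    { toFun := fun z => ⟨E z.1, key z.1 z.2⟩
      map_one' := Subtype.ext (map_one E)
      map_mul' := fun x y => Subtype.ext (map_mul E x.1 y.1)
      map_zero' := Subtype.ext (map_zero E)
      map_add' := fun x y => Subtype.ext (map_add E x.1 y.1) }
  exact IsLocalRing.of_surjective' f fun k => ⟨⟨E.symm k.1, key' k.1 k.2⟩, Subtype.ext (E.apply_symm_apply k.1)⟩

theorem isLocalRing_integralClosure_of_isUnibranch {R K : Type u} [CommRing R] [IsLocalRing R] [IsDomain R]
    [Field K] [Algebra R K] [IsFractionRing R K] (h : CAlg2.IsUnibranch R) :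
    IsLocalRing (integralClosure R K) := by
  obtain ⟨hd, hl⟩ := h
  haveI := hd
  let e : CAlg2.red R ≃+* R := (Ideal.quotEquivOfEq (nilradical_eq_zero R)).trans (RingEquiv.quotientBot R)
  exact isLocalRing_integralClosure_of_equiv e (IsFractionRing.ringEquivOfRingEquiv e)
    (fun x => IsFractionRing.ringEquivOfRingEquiv_algebraMap e x) hl

end Groth.Agent.FormalFun
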