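import Groth.Agent.FormalFun.Components
import Groth.Agent.FormalFun.Unibranch
import Mathlib.FieldTheory.AlgebraicClosure

/-!
# Fibres over unibranch points

* `components_le_of_unibranch`: at most `n` components, `n` the separable degree of the algebraic closure of
  `R(Y)` in `R(X)`.
-/

set_option autoImplicit false

universe u

open CategoryTheory AlgebraicGeometry TopologicalSpace
open Groth.Agent

noncomputable section

namespace Groth.Agent.FormalFun

variable {X Y : Scheme.{u}} [IsIntegral X] [IsIntegral Y] [IsLocallyNoetherian Y] (f : X ⟶ Y) [IsProper f]
  (hdom : f.base (genericPoint X) ⤳ genericPoint Y)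
include hdom

theorem components_le_of_unibranch [Algebra Y.functionField X.functionField]
    (halg : algebraMap Y.functionField X.functionField = CohIII.stalkToFunctionField f (genericPoint Y) hdom)
    {n : ℕ} (hn0 : 0 < n)
    (hn : Field.finSepDegree Y.functionField ↥(algebraicClosure Y.functionField X.functionField) = n)
    {y : Y} (hy : CAlg2.IsUnibranch (Y.presheaf.stalk y)) :
    Finite (_root_.ConnectedComponents ↥(f.fiber y)) ∧
      Nat.card (_root_.ConnectedComponents ↥(f.fiber y)) ≤ n := by
  have hgy : genericPoint Y ⤳ y := (genericPoint_spec Y).specializes trivial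
  have h : f.base (genericPoint X) ⤳ y := hdom.trans hgy
  let R := Y.presheaf.stalk y
  let K := Y.functionField
  let L := algebraicClosure Y.functionField X.functionField
  letI : Algebra R X.functionField := (CohIII.stalkToFunctionField f y h).toAlgebra
  haveI : IsScalarTower R K X.functionField := IsScalarTower.of_algebraMap_eq fun r => by
    rw [halg]
    show (f.stalkMap (genericPoint X)).hom ((Y.presheaf.stalkSpecializes h).hom r) =
      (f.stalkMap (genericPoint X)).hom ((Y.presheaf.stalkSpecializes hdom).hom ((Y.presheaf.stalkSpecializes hgy).hom r))
    exact congrArg _ (ConcreteCategory.congr_hom (Y.presheaf.stalkSpecializes_comp hdom hgy) r).symm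
  haveI : IsFractionRing R K := inferInstance
  haveI : IsScalarTower R L X.functionField := IsScalarTower.of_algebraMap_eq fun r => rfl
  haveI : Algebra.IsAlgebraic K L := algebraicClosure.isAlgebraic K X.functionField
  have hN := isLocalRing_integralClosure_of_isUnibranch (K := K) hy
  obtain ⟨hfin, hcard⟩ := finite_maximalSpectrum_le (R := R) (K := K) (L := L) hN hn0 hn
  haveI := hfin
  obtain ⟨F, hF⟩ := exists_injective_components f h
  let i : integralClosure R L →+* CohIII.integralClosureStalk f y h :=
    { toFun := fun z => ⟨(z.1 : X.functionField), z.2.map (IsScalarTower.toAlgHom R L X.functionField)⟩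
      map_one' := rfl
      map_mul' := fun _ _ => rfl
      map_zero' := rfl
      map_add' := fun _ _ => rfl }
  have hi : Function.Surjective i := fun z => by
    have hz : IsIntegral R (z : X.functionField) := z.2
    have hzK : IsIntegral K (z : X.functionField) := hz.tower_top
    refine ⟨⟨⟨z.1, mem_algebraicClosure_iff'.mpr hzK⟩, ?_⟩, rfl⟩
    exact (isIntegral_algHom_iff (IsScalarTower.toAlgHom R L X.functionField)
      (algebraMap L X.functionField).injective).mp hz
  let G : MaximalSpectrum (CohIII.integralClosureStalk f y h) → MaximalSpectrum (integralClosure R L) :=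
    fun Q => haveI := Q.isMaximal; ⟨Q.asIdeal.comap i, Ideal.comap_isMaximal_of_surjective i hi⟩
  have hG : Function.Injective G := fun Q Q' e =>
    MaximalSpectrum.ext (Ideal.comap_injective_of_surjective i hi (congrArg MaximalSpectrum.asIdeal e))
  exact ⟨Finite.of_injective _ (hG.comp hF), (Nat.card_le_card_of_injective _ (hG.comp hF)).trans hcard⟩

end Groth.Agent.FormalFun
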